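import Cfsg.Agent.Lib.LocalEven.PBasic
import Cfsg.Agent.Lib.Components.Subnormal
import Cfsg.Agent.Lib.Components.GenFitting
import Cfsg.Agent.Lib.CharP.Coprime
import Cfsg.Agent.Lib.Solvable.Basic
import Cfsg.Prelude.Def_LocalStructure

/-!
Ambient calculus of `O^p(H)` and `O_p(H)` for subgroups `H` of a finite group.
-/

set_option autoImplicit false
set_option linter.style.haveILetI false
set_option linter.unusedSectionVars false

namespace CfsgLib.LocalStr

open Subgroup Cfsg
open CfsgLib.LocalEven (IsSylOf cj)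

variable {G : Type*} [Group G] {p : ℕ}

/-! ### small helpers -/

theorem le_normalizer_iff_map_le [Finite G] {X H : Subgroup G} :
    X ≤ normalizer (H : Set G) ↔
      ∀ g ∈ X, H.map (MulAut.conj g).toMonoidHom ≤ H := by
  constructor
  · intro h g hg
    exact (mem_normalizer_iff_map_conj_eq.mp (h hg)).le
  · intro h g hg
    refine mem_normalizer_iff_map_conj_eq.mpr (eq_of_le_of_card_ge (h g hg) ?_)
    exact (Components.card_map_conj g H).ge

theorem map_conj_le_of_mem {K : Subgroup G} {Q : Subgroup G} (hQ : Q ≤ K) {k : G} (hk : k ∈ K) :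
    Q.map (MulAut.conj k).toMonoidHom ≤ K := by
  rintro x ⟨q, hq, rfl⟩
  exact mul_mem (mul_mem hk (hQ hq)) (inv_mem hk)

theorem map_conj_conj (g h : G) (H : Subgroup G) :
    (H.map (MulAut.conj h).toMonoidHom).map (MulAut.conj g).toMonoidHom =
      H.map (MulAut.conj (g * h)).toMonoidHom :=
  LocalEven.cj_cj g h H

theorem map_conj_inv_conj (g : G) (H : Subgroup G) :
    (H.map (MulAut.conj g).toMonoidHom).map (MulAut.conj g⁻¹).toMonoidHom = H := by
  rw [map_conj_conj, inv_mul_cancel]
  exact LocalEven.cj_one H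

theorem map_conj_eq_iff {g : G} {H : Subgroup G} :
    H.map (MulAut.conj g).toMonoidHom = H ↔ g ∈ normalizer (H : Set G) :=
  mem_normalizer_iff_map_conj_eq.symm

theorem conj_mem_of_mem_normalizer {H : Subgroup G} {g h : G} (hg : g ∈ normalizer (H : Set G))
    (hh : h ∈ H) : g * h * g⁻¹ ∈ H :=
  (mem_normalizer_iff.mp hg h).mp hh

/-- Normal subgroup of a subgroup, as a normal subgroup of the subtype. -/
theorem subgroupOf_normal {N H : Subgroup G} (hn : H ≤ normalizer (N : Set G)) :
    (N.subgroupOf H).Normal :=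
  normal_subgroupOf_of_le_normalizer hn

theorem map_subtype_le_normalizer {H : Subgroup G} {N : Subgroup H} (hN : N.Normal) :
    H ≤ normalizer ((N.map H.subtype : Subgroup G) : Set G) := by
  have h := le_normalizer_map (H := N) H.subtype
  rw [normalizer_eq_top_iff.mpr hN, ← MonoidHom.range_eq_map, range_subtype] at h
  exact h

/-- A subgroup normalized by `X` stays normalized after a characteristic step. -/
theorem le_normalizer_map_of_characteristic {X H : Subgroup G} {C : Subgroup H}
    (hC : C.Characteristic) (hX : X ≤ normalizer (H : Set G)) :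
    X ≤ normalizer ((C.map H.subtype : Subgroup G) : Set G) := by
  have : (H.subgroupOf (X ⊔ H)).Normal :=
    normal_subgroupOf_of_le_normalizer (sup_le hX le_normalizer)
  let e := subgroupOfEquivOfLe (le_sup_right : H ≤ X ⊔ H)
  have hC' : (C.map e.symm.toMonoidHom).Characteristic := by
    refine characteristic_iff_map_eq.mpr fun f => ?_
    have := characteristic_iff_map_eq.mp hC ((e.symm.trans f).trans e)
    conv_rhs => rw [← this]
    rw [map_map, map_map]
    congr 1
  have hn : ((C.map e.symm.toMonoidHom).map (H.subgroupOf (X ⊔ H)).subtype).Normal := inferInstance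
  have h2 := map_subtype_le_normalizer (H := X ⊔ H) hn
  have heq : ((C.map e.symm.toMonoidHom).map (H.subgroupOf (X ⊔ H)).subtype).map (X ⊔ H).subtype =
      C.map H.subtype := by
    rw [map_map, map_map]
    rfl
  rw [heq] at h2
  exact le_sup_left.trans h2

/-! ### `O_p(H)` in the ambient group -/

theorem pCoreOf_le (H : Subgroup G) : pCoreOf p H ≤ H := map_subtype_le _

theorem mem_pCoreOf {H : Subgroup G} {x : G} (hx : x ∈ H) :
    x ∈ pCoreOf p H ↔ (⟨x, hx⟩ : H) ∈ pCore p H := by
  constructor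
  · rintro ⟨y, hy, rfl⟩
    exact hy
  · exact fun h => ⟨_, h, rfl⟩

theorem isPGroup_pCoreOf [Finite G] (H : Subgroup G) : IsPGroup p ↥(pCoreOf p H) :=
  (Components.isPGroup_pCore p).map _

theorem le_normalizer_pCoreOf (H : Subgroup G) : H ≤ normalizer (pCoreOf p H : Set G) :=
  map_subtype_le_normalizer inferInstance

theorem le_normalizer_pCoreOf' {X H : Subgroup G}
    (hX : X ≤ normalizer (H : Set G)) : X ≤ normalizer (pCoreOf p H : Set G) :=
  le_normalizer_map_of_characteristic inferInstance hX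

theorem le_pCoreOf {N H : Subgroup G} (hle : N ≤ H) (hn : H ≤ normalizer (N : Set G))
    (hp : IsPGroup p N) : N ≤ pCoreOf p H := by
  rw [← map_subgroupOf_eq_of_le hle]
  exact map_mono (Components.le_pCore_of_normal (subgroupOf_normal hn)
    (hp.of_equiv (subgroupOfEquivOfLe hle).symm))

theorem le_pCoreOf_of_isSubnormal [Finite G] {N H : Subgroup G} (hle : N ≤ H)
    (hn : (N.subgroupOf H).IsSubnormal) (hp : IsPGroup p N) : N ≤ pCoreOf p H := by
  rw [← map_subgroupOf_eq_of_le hle]
  exact map_mono (Components.le_pCore_of_isSubnormal hn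
    (hp.of_equiv (subgroupOfEquivOfLe hle).symm))

theorem pCoreOf_inf_le [Finite G] {K H : Subgroup G} (hKH : K ≤ H) :
    pCoreOf p H ⊓ K ≤ pCoreOf p K :=
  le_pCoreOf inf_le_right
    (fun g hg => mem_normalizer_iff.mpr fun h => and_congr
      (mem_normalizer_iff.mp (hKH.trans (le_normalizer_pCoreOf H) hg) h)
      (mem_normalizer_iff.mp (le_normalizer hg) h))
    ((isPGroup_pCoreOf H).to_le inf_le_left)

theorem pCoreOf_le_pCoreOf_of_normal [Finite G] {N H : Subgroup G} (hle : N ≤ H)
    (hn : H ≤ normalizer (N : Set G)) : pCoreOf p N ≤ pCoreOf p H :=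
  le_pCoreOf ((pCoreOf_le N).trans hle) (le_normalizer_pCoreOf' hn) (isPGroup_pCoreOf N)

theorem pCoreOf_le_pCoreOf_of_isSubnormal [Finite G] {N H : Subgroup G} (hle : N ≤ H)
    (hn : (N.subgroupOf H).IsSubnormal) : pCoreOf p N ≤ pCoreOf p H := by
  refine le_pCoreOf_of_isSubnormal ((pCoreOf_le N).trans hle) ?_ (isPGroup_pCoreOf N)
  refine Components.isSubnormal_of_le_normalizer (comap_mono (pCoreOf_le N)) ?_ hn
  intro x hx
  have hx' := le_normalizer_pCoreOf (p := p) N hx
  rw [mem_normalizer_iff] at hx' ⊢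
  intro y
  exact hx' y

theorem pCoreOf_top : pCoreOf p (⊤ : Subgroup G) = pCore p G :=
  Components.pCore_map_equiv p topEquiv

theorem pCore_eq_bot_iff_pCoreOf {H : Subgroup G} : pCore p ↥H = ⊥ ↔ pCoreOf p H = ⊥ :=
  (map_eq_bot_iff_of_injective _ H.subtype_injective).symm

theorem pCoreOf_map_conj (g : G) (H : Subgroup G) :
    (pCoreOf p H).map (MulAut.conj g).toMonoidHom = pCoreOf p (H.map (MulAut.conj g).toMonoidHom) :=
  LocalEven.pCoreOf_cj g H

/-! ### `O^p(H)` in the ambient group -/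

/-- `O^p(H)` as a subgroup of the ambient group. -/
abbrev pRes (p : ℕ) (H : Subgroup G) : Subgroup G := (pResidual p ↥H).map H.subtype

theorem pRes_eq_closure (H : Subgroup G) :
    pRes p H = closure {g : G | g ∈ H ∧ (orderOf g).Coprime p} := by
  unfold pRes pResidual
  rw [MonoidHom.map_closure]
  congr 1
  ext g
  constructor
  · rintro ⟨y, hy, rfl⟩
    exact ⟨y.2, by simpa [orderOf_coe] using hy⟩
  · rintro ⟨h1, h2⟩
    exact ⟨⟨g, h1⟩, by simpa [orderOf_mk] using h2, rfl⟩

theorem pRes_le (H : Subgroup G) : pRes p H ≤ H := map_subtype_le _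

theorem mem_pRes {H : Subgroup G} {g : G} (h : g ∈ H) (hg : (orderOf g).Coprime p) :
    g ∈ pRes p H := by
  rw [pRes_eq_closure]
  exact subset_closure ⟨h, hg⟩

theorem pRes_le_iff {H N : Subgroup G} :
    pRes p H ≤ N ↔ ∀ g ∈ H, (orderOf g).Coprime p → g ∈ N := by
  rw [pRes_eq_closure, closure_le]
  exact ⟨fun h g hg hc => h ⟨hg, hc⟩, fun h g hg => h g hg.1 hg.2⟩

theorem pRes_mono {H K : Subgroup G} (h : H ≤ K) : pRes p H ≤ pRes p K :=
  pRes_le_iff.mpr fun _ hg hc => mem_pRes (h hg) hc

theorem pRes_top : pRes p (⊤ : Subgroup G) = pResidual p G := by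
  rw [pRes_eq_closure]
  simp [pResidual]

theorem pRes_pRes (H : Subgroup G) : pRes p (pRes p H) = pRes p H :=
  le_antisymm (pRes_le _) (pRes_le_iff.mpr fun _ hg hc => mem_pRes (mem_pRes hg hc) hc)

theorem pRes_eq_of {H K : Subgroup G} (hKH : K ≤ H)
    (h : ∀ g ∈ H, (orderOf g).Coprime p → g ∈ K) : pRes p H = pRes p K :=
  le_antisymm (pRes_le_iff.mpr fun g hg hc => mem_pRes (h g hg hc) hc) (pRes_mono hKH)

theorem pRes_map_conj (g : G) (H : Subgroup G) :
    (pRes p H).map (MulAut.conj g).toMonoidHom = pRes p (H.map (MulAut.conj g).toMonoidHom) := by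
  rw [pRes_eq_closure, pRes_eq_closure, MonoidHom.map_closure]
  congr 1
  ext x
  constructor
  · rintro ⟨y, ⟨hy, hc⟩, rfl⟩
    exact ⟨⟨y, hy, rfl⟩, by
      rwa [orderOf_injective _ (MulAut.conj g).injective]⟩
  · rintro ⟨⟨y, hy, rfl⟩, hc⟩
    exact ⟨y, ⟨hy, by rwa [orderOf_injective _ (MulAut.conj g).injective] at hc⟩, rfl⟩

theorem le_normalizer_pRes {X H : Subgroup G} (hX : X ≤ normalizer (H : Set G)) :
    X ≤ normalizer (pRes p H : Set G) := by
  intro g hg
  refine mem_normalizer_iff_map_conj_eq.mpr ((pRes_map_conj g H).trans ?_)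
  exact congrArg (pRes p) (mem_normalizer_iff_map_conj_eq.mp (hX hg))

theorem le_normalizer_pRes_self (H : Subgroup G) : H ≤ normalizer (pRes p H : Set G) :=
  le_normalizer_pRes le_normalizer

theorem pResidual_normal (G : Type*) [Group G] (p : ℕ) : (pResidual p G).Normal := by
  rw [← pRes_top]
  exact normalizer_eq_top_iff.mp (top_le_iff.mp (le_normalizer_pRes_self ⊤))

theorem map_pResidual_le {H : Type*} [Group H] (f : G →* H) :
    (pResidual p G).map f ≤ pResidual p H := by
  rw [pResidual, MonoidHom.map_closure, closure_le]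
  rintro _ ⟨g, hg, rfl⟩
  exact subset_closure (Nat.Coprime.coprime_dvd_left (orderOf_map_dvd f g) hg)

variable [Fact p.Prime]

theorem coprime_of_mem_pRes_of_pGroup {g : G} {k : ℕ} (hg : (orderOf g).Coprime p)
    {N : Subgroup G} (hk : g ^ p ^ k ∈ N) : g ∈ N := by
  obtain ⟨m, hm⟩ := exists_pow_eq_self_of_coprime (hg.symm.pow_left k)
  rw [← hm]
  exact pow_mem hk m

theorem exists_pow_coprime [Finite G] (g : G) : ∃ k : ℕ, (orderOf (g ^ p ^ k)).Coprime p := by
  refine ⟨(orderOf g).factorization p, ?_⟩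
  rw [orderOf_pow]
  have hd : p ^ (orderOf g).factorization p ∣ orderOf g := Nat.ordProj_dvd _ _
  rw [Nat.gcd_eq_right hd]
  exact (Nat.coprime_ordCompl (Fact.out : p.Prime) (orderOf_pos g).ne').symm

theorem exists_pow_mem_pRes [Finite G] {H : Subgroup G} {g : G} (hg : g ∈ H) :
    ∃ k : ℕ, g ^ p ^ k ∈ pRes p H := by
  obtain ⟨k, hk⟩ := exists_pow_coprime (p := p) g
  exact ⟨k, mem_pRes (pow_mem hg _) hk⟩

theorem isPGroup_quotient_pResidual (G : Type*) [Group G] [Finite G] (p : ℕ) [Fact p.Prime]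
    [(pResidual p G).Normal] : IsPGroup p (G ⧸ pResidual p G) := by
  intro x
  obtain ⟨g, rfl⟩ := QuotientGroup.mk_surjective x
  obtain ⟨k, hk⟩ := exists_pow_coprime (p := p) g
  refine ⟨k, ?_⟩
  rw [← QuotientGroup.mk_pow, QuotientGroup.eq_one_iff]
  exact subset_closure hk

/-- A `p'`-element lies in every subgroup of `p`-power index that is normal. -/
theorem mem_of_index_pow {N : Subgroup G} [N.Normal] {k : ℕ} (h : N.index = p ^ k) {g : G}
    (hg : (orderOf g).Coprime p) : g ∈ N :=
  coprime_of_mem_pRes_of_pGroup (k := k) hg (h ▸ pow_index_mem N g)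

/-- A `p'`-element lies in every subnormal subgroup of `p`-power index. -/
theorem mem_of_isSubnormal_of_index [Finite G] {K : Subgroup G} (hK : K.IsSubnormal) {k : ℕ}
    (h : K.index = p ^ k) {g : G} (hg : (orderOf g).Coprime p) : g ∈ K := by
  induction hK generalizing k with
  | top => trivial
  | step A B hAB hB hN ih =>
    have h1 := relIndex_mul_index hAB
    rw [h] at h1
    obtain ⟨j, -, hj⟩ := (Nat.dvd_prime_pow Fact.out).mp (Dvd.intro _ h1)
    obtain ⟨i, -, hi⟩ := (Nat.dvd_prime_pow Fact.out).mp (Dvd.intro_left _ h1)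
    haveI := hN
    have hgB := ih hi
    exact mem_of_index_pow (N := A.subgroupOf B) (g := ⟨g, hgB⟩) hj (by rwa [orderOf_mk])

/-- In a finite `p`-group every subgroup is subnormal. -/
theorem isSubnormal_of_isNilpotent [Finite G] [Group.IsNilpotent G] (H : Subgroup G) :
    H.IsSubnormal := by
  induction H using WellFoundedGT.induction with
  | ind H ih =>
    rcases eq_or_ne H ⊤ with rfl | hne
    · exact IsSubnormal.top
    · have hlt := Group.normalizerCondition_of_isNilpotent H hne.lt_top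
      exact IsSubnormal.step H _ le_normalizer (ih _ hlt)
        (normal_subgroupOf_of_le_normalizer le_rfl)

theorem isSubnormal_of_isPGroup [Finite G] (hG : IsPGroup p G) (H : Subgroup G) : H.IsSubnormal :=
  haveI := hG.isNilpotent
  isSubnormal_of_isNilpotent H

/-- A subgroup between `O^p` and the group is subnormal. -/
theorem isSubnormal_of_pResidual_le [Finite G] {K : Subgroup G} (h : pResidual p G ≤ K) :
    K.IsSubnormal := by
  haveI := pResidual_normal G p
  have h1 := (isSubnormal_of_isPGroup (isPGroup_quotient_pResidual G p)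
    (K.map (QuotientGroup.mk' (pResidual p G)))).comap (QuotientGroup.mk' (pResidual p G))
  rwa [comap_map_eq, QuotientGroup.ker_mk', sup_eq_left.mpr h] at h1

theorem isSubnormal_subgroupOf_of_pRes_le [Finite G] {K H : Subgroup G}
    (h : pRes p H ≤ K) : (K.subgroupOf H).IsSubnormal := by
  refine isSubnormal_of_pResidual_le (p := p) fun x hx => ?_
  exact h ⟨x, hx, rfl⟩

theorem pCoreOf_le_of_pRes_le [Finite G] {K H : Subgroup G} (hKH : K ≤ H) (h : pRes p H ≤ K) :
    pCoreOf p K ≤ pCoreOf p H :=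
  pCoreOf_le_pCoreOf_of_isSubnormal hKH (isSubnormal_subgroupOf_of_pRes_le h)

/-- A Sylow subgroup covers the quotient by `O^p`. -/
theorem pResidual_sup_sylow [Finite G] (S : Sylow p G) :
    pResidual p G ⊔ (S : Subgroup G) = ⊤ := by
  have hsub : (pResidual p G ⊔ (S : Subgroup G)).IsSubnormal :=
    isSubnormal_of_pResidual_le (p := p) le_sup_left
  haveI := pResidual_normal G p
  obtain ⟨k, hk⟩ : ∃ k : ℕ, (pResidual p G ⊔ (S : Subgroup G)).index = p ^ k := by
    obtain ⟨n, hn⟩ := (isPGroup_quotient_pResidual G p).exists_card_eq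
    rw [← index_eq_card] at hn
    obtain ⟨j, -, hj⟩ := (Nat.dvd_prime_pow Fact.out).mp (hn ▸ index_dvd_of_le
      (le_sup_left : pResidual p G ≤ pResidual p G ⊔ (S : Subgroup G)))
    exact ⟨j, hj⟩
  have h2 : ¬ p ∣ (pResidual p G ⊔ (S : Subgroup G)).index := fun hd =>
    S.not_dvd_index (hd.trans (index_dvd_of_le le_sup_right))
  rcases Nat.eq_zero_or_pos k with rfl | hpos
  · rwa [pow_zero, index_eq_one] at hk
  · exact absurd (hk ▸ dvd_pow_self p hpos.ne') h2

theorem pRes_sup_of_isSylOf [Finite G] {T H : Subgroup G} (hT : IsSylOf p T H) :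
    pRes p H ⊔ T = H := by
  obtain ⟨S, rfl⟩ := hT.exists_sylow
  rw [← Subgroup.map_sup, pResidual_sup_sylow S, ← MonoidHom.range_eq_map, range_subtype]

theorem pRes_eq_bot_iff [Finite G] {H : Subgroup G} : pRes p H = ⊥ ↔ IsPGroup p H := by
  constructor
  · intro h x
    obtain ⟨k, hk⟩ := exists_pow_mem_pRes (p := p) x.2
    rw [h, mem_bot] at hk
    exact ⟨k, Subtype.ext hk⟩
  · intro h
    refine le_bot_iff.mp (pRes_le_iff.mpr fun g hg hc => ?_)
    obtain ⟨k, hk⟩ := h ⟨g, hg⟩
    exact coprime_of_mem_pRes_of_pGroup (k := k) hc (congrArg Subtype.val hk)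

/-- The join of a subgroup with the `p`-group it is normalized by has the same `p'`-elements. -/
theorem mem_of_mem_sup_pGroup [Finite G] {N P : Subgroup G} (hP : IsPGroup p P)
    (h : P ≤ normalizer (N : Set G)) {g : G} (hg : g ∈ N ⊔ P) (hc : (orderOf g).Coprime p) :
    g ∈ N := by
  haveI : (N.subgroupOf (N ⊔ P)).Normal :=
    subgroupOf_normal (sup_le le_normalizer h)
  obtain ⟨k, hk⟩ : ∃ k : ℕ, (N.subgroupOf (N ⊔ P)).index = p ^ k := by
    obtain ⟨n, hn⟩ := hP.exists_card_eq
    have h1 : (N.subgroupOf (N ⊔ P)).index = N.relIndex (N ⊔ P) := rfl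
    have h2 : N.relIndex (N ⊔ P) ∣ Nat.card P := by
      rw [Solvable.relIndex_sup_of_le_normalizer h]
      exact relIndex_dvd_card _ _
    obtain ⟨j, -, hj⟩ := (Nat.dvd_prime_pow Fact.out).mp (hn ▸ h2)
    exact ⟨j, h1.trans hj⟩
  exact mem_of_index_pow (N := N.subgroupOf (N ⊔ P)) (g := ⟨g, hg⟩) hk (by rwa [orderOf_mk])

theorem pRes_sup_pGroup [Finite G] {N P : Subgroup G} (hP : IsPGroup p P)
    (h : P ≤ normalizer (N : Set G)) : pRes p (N ⊔ P) = pRes p N :=
  pRes_eq_of le_sup_left fun _ hg hc => mem_of_mem_sup_pGroup hP h hg hc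

end CfsgLib.LocalStr
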