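import Cfsg.Agent.Lib.LocalStr.Basic

/-!
`p`-closed groups, `p`-irreducible groups.
-/

set_option autoImplicit false
set_option linter.style.haveILetI false
set_option linter.unusedSectionVars false

namespace CfsgLib.LocalStr

open Subgroup Cfsg
open CfsgLib.LocalEven (IsSylOf cj)

variable {H : Type*} [Group H] [Finite H] {p : ℕ} [Fact p.Prime]

theorem isPClosed_of_normal (S : Sylow p H) (h : (S : Subgroup H).Normal) : IsPClosed p H := by
  intro P
  haveI := Sylow.unique_of_normal S h
  rw [Subsingleton.elim P S]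
  exact h

theorem isPClosed_iff_le_pCore : IsPClosed p H ↔ ∀ P : Subgroup H, IsPGroup p P → P ≤ pCore p H := by
  constructor
  · intro h P hP
    obtain ⟨S, hS⟩ := hP.exists_le_sylow
    exact hS.trans (Components.le_pCore_of_normal (h S) S.isPGroup')
  · intro h S
    rw [show (S : Subgroup H) = pCore p H from le_antisymm (h S S.isPGroup')
      ((Components.isPGroup_pCore p).le_sylow_of_normal S)]
    infer_instance

theorem isPClosed_of_isPGroup (h : IsPGroup p H) : IsPClosed p H :=
  isPClosed_iff_le_pCore.mpr fun P _ =>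
    le_trans le_top (Components.le_pCore_of_normal inferInstance (h.to_subgroup ⊤))

theorem isPClosed_of_not_dvd (h : ¬ p ∣ Nat.card H) : IsPClosed p H := by
  intro S
  have h1 : (S : Subgroup H) = ⊥ := by
    obtain ⟨n, hn⟩ := S.isPGroup'.exists_card_eq
    rcases Nat.eq_zero_or_pos n with rfl | hpos
    · rw [pow_zero] at hn
      exact card_eq_one.mp hn
    · exact absurd (((dvd_pow_self p hpos.ne').trans (dvd_of_eq hn.symm)).trans
        (card_subgroup_dvd_card _)) h
  rw [h1]
  infer_instance

theorem isPClosed_of_injective {K : Type*} [Group K] [Finite K] {f : K →* H}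
    (hf : Function.Injective f) (h : IsPClosed p H) : IsPClosed p K := by
  rw [isPClosed_iff_le_pCore] at h ⊢
  intro P hP x hx
  have h1 : f x ∈ pCore p H := h _ (hP.map f) ⟨x, hx, rfl⟩
  have h2 : (pCore p H).comap f ≤ pCore p K :=
    Components.le_pCore_of_normal inferInstance
      ((Components.isPGroup_pCore p).comap_of_injective f hf)
  exact h2 h1

theorem isPClosed_mulEquiv {K : Type*} [Group K] [Finite K] (e : H ≃* K) :
    IsPClosed p H ↔ IsPClosed p K :=
  ⟨isPClosed_of_injective (f := e.symm.toMonoidHom) e.symm.injective,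
    isPClosed_of_injective (f := e.toMonoidHom) e.injective⟩

theorem isPClosed_of_surjective {K : Type*} [Group K] [Finite K] {f : H →* K}
    (hf : Function.Surjective f) (h : IsPClosed p H) : IsPClosed p K := by
  obtain ⟨S⟩ : Nonempty (Sylow p H) := inferInstance
  refine isPClosed_of_normal (S.mapSurjective hf) ?_
  rw [Sylow.coe_mapSurjective]
  exact (h S).map f hf

theorem isPClosed_of_le {A B : Subgroup H} (hAB : A ≤ B) (h : IsPClosed p ↥B) : IsPClosed p ↥A :=
  isPClosed_of_injective (inclusion_injective hAB) h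

theorem isPClosed_of_quotient (D : Subgroup H) [D.Normal] (hD : IsPGroup p D)
    (h : IsPClosed p (H ⧸ D)) : IsPClosed p H := by
  rw [isPClosed_iff_le_pCore] at h ⊢
  intro P hP x hx
  have h1 : QuotientGroup.mk' D x ∈ pCore p (H ⧸ D) := h _ (hP.map _) ⟨x, hx, rfl⟩
  have h2 : (pCore p (H ⧸ D)).comap (QuotientGroup.mk' D) ≤ pCore p H :=
    Components.le_pCore_of_normal inferInstance ((Components.isPGroup_pCore p).comap_of_ker_isPGroup _
      (by rwa [QuotientGroup.ker_mk']))
  exact h2 h1

theorem isPClosed_of_ker_isPGroup {K : Type*} [Group K] [Finite K] (f : K →* H)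
    (hf : IsPGroup p f.ker) (h : IsPClosed p H) : IsPClosed p K := by
  rw [isPClosed_iff_le_pCore] at h ⊢
  intro P hP x hx
  have h1 : f x ∈ pCore p H := h _ (hP.map f) ⟨x, hx, rfl⟩
  have h2 : (pCore p H).comap f ≤ pCore p K :=
    Components.le_pCore_of_normal inferInstance
      ((Components.isPGroup_pCore p).comap_of_ker_isPGroup f hf)
  exact h2 h1

theorem map_pResidual_eq {K : Type*} [Group K] {f : H →* K} (hf : Function.Surjective f) :
    (pResidual p H).map f = pResidual p K := by
  refine le_antisymm (map_pResidual_le f) ?_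
  show Subgroup.closure _ ≤ _
  rw [closure_le]
  intro x hx
  obtain ⟨g, rfl⟩ := hf x
  obtain ⟨k, hk⟩ := exists_pow_coprime (p := p) g
  refine coprime_of_mem_pRes_of_pGroup (k := k) hx ?_
  rw [← map_pow]
  exact mem_map_of_mem _ (subset_closure hk)

/-- An element with a `p'`-power and whose `p`-power-order powers lie in `N` lies in `N`. -/
theorem mem_of_forall_pElement {N : Subgroup H} {x : H}
    (h' : ∀ m : ℕ, IsPGroup p (zpowers (x ^ m)) → x ^ m ∈ N)
    {k : ℕ} (hk : x ^ p ^ k ∈ N) : x ∈ N := by
  obtain ⟨j, hj⟩ := exists_pow_coprime (p := p) x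
  set m := orderOf (x ^ p ^ j) with hm
  have h1 : (x ^ m) ^ p ^ j = 1 := by
    rw [← pow_mul, mul_comm, pow_mul, pow_orderOf_eq_one]
  have h2 : x ^ m ∈ N := h' m (IsPGroup.of_card (n := ((Nat.dvd_prime_pow Fact.out).mp
    (orderOf_dvd_of_pow_eq_one h1)).choose) (by
      rw [Nat.card_zpowers]
      exact ((Nat.dvd_prime_pow Fact.out).mp (orderOf_dvd_of_pow_eq_one h1)).choose_spec.2))
  have hco : (p ^ k).Coprime m := (Nat.Coprime.pow_left k hj.symm)
  have h3 : (x : H) ^ ((p ^ k).gcd m : ℕ) ∈ N := by
    rw [← zpow_natCast, Nat.gcd_eq_gcd_ab, zpow_add, zpow_mul, zpow_mul, zpow_natCast,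
      zpow_natCast]
    exact mul_mem (zpow_mem hk _) (zpow_mem h2 _)
  rwa [hco, pow_one] at h3

theorem pCore_quotient (D : Subgroup H) [D.Normal] (hD : IsPGroup p D) :
    (pCore p (H ⧸ D)).comap (QuotientGroup.mk' D) = pCore p H := by
  refine le_antisymm (Components.le_pCore_of_normal inferInstance
    ((Components.isPGroup_pCore p).comap_of_ker_isPGroup _ (by rwa [QuotientGroup.ker_mk']))) ?_
  intro x hx
  exact Components.le_pCore_of_normal
    ((inferInstance : (pCore p H).Normal).map _ (QuotientGroup.mk'_surjective D))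
    ((Components.isPGroup_pCore p).map _) (mem_map_of_mem _ hx)

/-- A `p`-subgroup of a normal `p`-closed subgroup lies in `O_p`. -/
theorem le_pCore_of_le_pClosed {N P : Subgroup H} [N.Normal] (hN : IsPClosed p ↥N)
    (hle : P ≤ N) (hP : IsPGroup p P) : P ≤ pCore p H := by
  have h1 : P ≤ pCoreOf p N := by
    rw [← map_subgroupOf_eq_of_le hle]
    exact map_mono (isPClosed_iff_le_pCore.mp hN _ (hP.of_equiv (subgroupOfEquivOfLe hle).symm))
  refine h1.trans ?_
  rw [← pCoreOf_top]
  exact pCoreOf_le_pCoreOf_of_normal le_top le_normalizer_of_normal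

/-- A normal subgroup with a normal Sylow subgroup inside it. -/
theorem isPClosed_subgroup_of_le_pCore {N : Subgroup H}
    (h : ∀ P : Subgroup H, P ≤ N → IsPGroup p P → P ≤ pCore p H) : IsPClosed p ↥N := by
  rw [isPClosed_iff_le_pCore]
  intro P hP x hx
  have hx' : (x : H) ∈ pCore p H := h _ (map_subtype_le P) (hP.map _) ⟨x, hx, rfl⟩
  exact Components.le_pCore_of_normal (inferInstance : ((pCore p H).subgroupOf N).Normal)
    ((Components.isPGroup_pCore p).comap_of_injective _ N.subtype_injective) hx'

theorem sylow_le_pCore_iff (S : Sylow p H) : (S : Subgroup H) ≤ pCore p H ↔ IsPClosed p H := by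
  refine ⟨fun h => isPClosed_of_normal S ?_, fun h => isPClosed_iff_le_pCore.mp h _ S.isPGroup'⟩
  rw [le_antisymm h ((Components.isPGroup_pCore p).le_sylow_of_normal S)]
  infer_instance

theorem inf_isSylOf {T N : Subgroup H} (hT : IsSylOf p T ⊤) [N.Normal] : IsSylOf p (T ⊓ N) N := by
  obtain ⟨U, hU⟩ := LocalEven.exists_isSylOf (p := p) N
  obtain ⟨V, hV, hUV⟩ := LocalEven.exists_isSylOf_ge hU.isPGroup (le_top : U ≤ ⊤)
  obtain ⟨g, -, hg⟩ := hV.exists_conj hT
  refine ⟨inf_le_right, le_antisymm ?_ ?_⟩
  · obtain ⟨W, hW, hle⟩ := LocalEven.exists_isSylOf_ge (hT.isPGroup.to_le inf_le_left)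
      (inf_le_right : T ⊓ N ≤ N)
    exact (card_le_of_le hle).trans hW.2.le
  · rw [← hU.2, ← LocalEven.card_cj g U]
    refine card_le_of_le (le_inf (hg ▸ LocalEven.cj_le_cj hUV) ?_)
    rintro x ⟨u, hu, rfl⟩
    exact (inferInstance : N.Normal).conj_mem u (hU.1 hu) g

theorem sylow_isSylOf_top (S : Sylow p H) : IsSylOf p (S : Subgroup H) ⊤ := by
  refine ⟨le_top, ?_⟩
  rw [card_top]
  exact S.card_eq_multiplicity

/-! ### `p`-irreducible groups -/

theorem IsPIrreducible.pResidual_le_normalClosure (hH : IsPIrreducible p H) {Y : Subgroup H}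
    (hYp : IsPGroup p Y) (hY : ¬ Y ≤ pCore p H) :
    pResidual p H ≤ normalClosure (Y : Set H) :=
  hH.2 _ inferInstance fun h => hY (le_pCore_of_le_pClosed h subset_normalClosure hYp)

theorem IsPIrreducible.sylow_normalClosure (hH : IsPIrreducible p H) (T : Sylow p H) :
    normalClosure ((T : Subgroup H) : Set H) = ⊤ := by
  rw [← top_le_iff, ← pResidual_sup_sylow T]
  exact sup_le (IsPIrreducible.pResidual_le_normalClosure hH T.isPGroup'
    fun h => hH.1 ((sylow_le_pCore_iff T).mp h)) subset_normalClosure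

theorem commutator_sup_eq_top_of_normalClosure {T : Subgroup H}
    (h : normalClosure (T : Set H) = ⊤) : commutator H ⊔ T = ⊤ := by
  haveI : (commutator H ⊔ T).Normal := Normal.of_commutator_le H le_sup_left
  rw [← top_le_iff, ← h]
  exact normalClosure_le_normal (SetLike.coe_subset_coe.mpr le_sup_right)

theorem pResidual_le_of_isPGroup_quotient {N : Subgroup H} [N.Normal]
    (h : IsPGroup p (H ⧸ N)) : pResidual p H ≤ N := by
  rw [← pRes_top]
  refine pRes_le_iff.mpr fun g _ hc => ?_
  obtain ⟨k, hk⟩ := h (g : H ⧸ N)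
  rw [← QuotientGroup.mk_pow, QuotientGroup.eq_one_iff] at hk
  exact coprime_of_mem_pRes_of_pGroup (k := k) hc hk

theorem isPGroup_quotient_of_sup_eq_top {N T : Subgroup H} [N.Normal] (hT : IsPGroup p T)
    (h : N ⊔ T = ⊤) : IsPGroup p (H ⧸ N) := by
  refine hT.of_surjective ((QuotientGroup.mk' N).comp T.subtype) ?_
  rw [← MonoidHom.range_eq_top, MonoidHom.range_comp, range_subtype]
  have h1 := congrArg (Subgroup.map (QuotientGroup.mk' N)) h
  rwa [Subgroup.map_sup, QuotientGroup.map_mk'_self, bot_sup_eq,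
    map_top_of_surjective _ (QuotientGroup.mk'_surjective N)] at h1

theorem IsPIrreducible.pResidual_le_commutator (hH : IsPIrreducible p H) :
    pResidual p H ≤ commutator H := by
  obtain ⟨T⟩ : Nonempty (Sylow p H) := inferInstance
  exact pResidual_le_of_isPGroup_quotient (isPGroup_quotient_of_sup_eq_top T.isPGroup'
    (commutator_sup_eq_top_of_normalClosure (IsPIrreducible.sylow_normalClosure hH T)))

theorem isPIrreducible_of_strongly (hH : IsStronglyPIrreducible p H) : IsPIrreducible p H := by
  refine ⟨hH.1, fun N hN hNc => hH.2 N hN fun hle => hNc ?_⟩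
  haveI := hN
  refine isPClosed_subgroup_of_le_pCore fun P hPN hP => ?_
  have hn : (pCore p H ⊔ P).Normal := by
    refine normalizer_eq_top_iff.mp (top_le_iff.mp ?_)
    rw [le_normalizer_iff_commutator_le_right, commutator_comm, commutator_le]
    intro x hx g hg
    rw [← SetLike.mem_coe, coe_mul_of_right_le_normalizer_left _ _ le_normalizer_of_normal] at hx
    obtain ⟨o, ho, x', hx', rfl⟩ := Set.mem_mul.mp hx
    refine mem_sup_left ?_
    rw [commutatorElement_mul_left_eq_conj_mul]
    exact mul_mem ((inferInstance : (pCore p H).Normal).conj_mem _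
      (hle (commutator_mem_commutator (hPN hx') hg)) o)
      ((commutator_le_left (pCore p H) ⊤) (commutator_mem_commutator ho trivial))
  exact le_sup_right.trans (Components.le_pCore_of_normal hn
    ((Components.isPGroup_pCore p).to_sup_of_normal_left hP))

end CfsgLib.LocalStr
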