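import Cfsg.Agent.Lib.LocalStr.Irreducible
import Cfsg.Agent.Lib.LocalEven.PReduced
import Cfsg.Agent.Lib.LocalEven.Kieler
import Cfsg.Agent.S2803
import Mathlib.Tactic.Group

/-!
`Y_L` for subgroups `L` of an ambient group.
-/

set_option autoImplicit false
set_option linter.style.haveILetI false
set_option linter.unusedSectionVars false

namespace CfsgLib.LocalStr

open Subgroup Cfsg
open CfsgLib.LocalEven (IsSylOf cj omegaZ IsPMod CharPIn)
open scoped commutatorElement

variable {H : Type*} [Group H] [Finite H] {p : ℕ} [Fact p.Prime]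

/-- `Y` is a `p`-reduced normal subgroup of `L`, in ambient terms. -/
structure PRedIn (p : ℕ) (L Y : Subgroup H) : Prop where
  le : Y ≤ L
  norm : L ≤ normalizer (Y : Set H)
  elem : IsElementaryAbelian p Y
  red : ∀ N : Subgroup H, N ≤ L → L ≤ normalizer (N : Set H) →
    IsPMod p (centralizer (Y : Set H)) N → N ≤ centralizer (Y : Set H)

theorem centralizer_subgroupOf {L Y : Subgroup H} (h : Y ≤ L) :
    centralizer ((Y.subgroupOf L : Subgroup L) : Set L) =
      (centralizer (Y : Set H)).subgroupOf L := by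
  ext x
  rw [mem_subgroupOf, mem_centralizer_iff, mem_centralizer_iff]
  exact ⟨fun hx y hy => congrArg Subtype.val (hx ⟨y, h hy⟩ (mem_subgroupOf.mpr hy)),
    fun hx y hy => Subtype.ext (hx y (mem_subgroupOf.mp hy))⟩

theorem isElementaryAbelian_map {K : Type*} [Group K] {f : K →* H} (hf : Function.Injective f)
    {A : Subgroup K} : IsElementaryAbelian p (A.map f) ↔ IsElementaryAbelian p A := by
  constructor
  · rintro ⟨hc, he⟩
    refine ⟨⟨⟨fun a b => Subtype.ext (hf ?_)⟩⟩, fun a ha => hf ?_⟩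
    · have := congrArg Subtype.val
        (hc.is_comm.comm ⟨f a, mem_map_of_mem f a.2⟩ ⟨f b, mem_map_of_mem f b.2⟩)
      simpa using this
    · rw [map_pow, map_one]
      exact he _ (mem_map_of_mem f ha)
  · rintro ⟨hc, he⟩
    refine ⟨⟨⟨?_⟩⟩, ?_⟩
    · rintro ⟨_, a, ha, rfl⟩ ⟨_, b, hb, rfl⟩
      exact Subtype.ext (by
        change f a * f b = f b * f a
        rw [← map_mul, ← map_mul, show a * b = b * a from
          congrArg Subtype.val (hc.is_comm.comm ⟨a, ha⟩ ⟨b, hb⟩)])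
    · rintro _ ⟨a, ha, rfl⟩
      rw [← map_pow, he a ha, map_one]

theorem pRedIn_of_subtype {L : Subgroup H} {V : Subgroup L} (hV : IsPReducedNormal p V) :
    PRedIn p L (V.map L.subtype) := by
  refine ⟨map_subtype_le V, map_subtype_le_normalizer hV.1,
    (isElementaryAbelian_map L.subtype_injective).mpr hV.2.1, fun N hNL hN hm => ?_⟩
  have hcs := centralizer_subgroupOf (L := L) (map_subtype_le V)
  rw [subgroupOf, comap_map_eq_self_of_injective L.subtype_injective] at hcs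
  have h1 := LocalEven.pReduced_le_centralizer hV (subgroupOf_normal hN) fun x hx => by
    obtain ⟨k, hk⟩ := hm x hx
    exact ⟨k, by rw [hcs]; exact mem_subgroupOf.mpr (by simpa using hk)⟩
  intro x hx
  have h2 := h1 (mem_subgroupOf.mpr hx : (⟨x, hNL hx⟩ : L) ∈ N.subgroupOf L)
  rw [hcs] at h2
  exact h2

theorem PRedIn.subtype {L Y : Subgroup H} (h : PRedIn p L Y) :
    IsPReducedNormal p (Y.subgroupOf L) := by
  have hcs := centralizer_subgroupOf (L := L) h.le
  refine LocalEven.pReduced_mk (subgroupOf_normal h.norm) ?_ fun N hN _ hm => ?_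
  · refine (isElementaryAbelian_map L.subtype_injective).mp ?_
    rw [map_subgroupOf_eq_of_le h.le]
    exact h.elem
  · rw [hcs] at hm ⊢
    have h1 := h.red (N.map L.subtype) (map_subtype_le N) (map_subtype_le_normalizer hN) (by
      rintro _ ⟨y, hy, rfl⟩
      obtain ⟨k, hk⟩ := hm y hy
      exact ⟨k, by simpa using mem_subgroupOf.mp hk⟩)
    exact fun x hx => mem_subgroupOf.mpr (h1 (mem_map_of_mem _ hx))

theorem pRedIn_largest (L : Subgroup H) : PRedIn p L (largestPReducedOf p L) :=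
  pRedIn_of_subtype (LocalEven.pReduced_sSup fun _ h => h)

theorem le_largest {L Y : Subgroup H} (h : PRedIn p L Y) : Y ≤ largestPReducedOf p L := by
  rw [← map_subgroupOf_eq_of_le h.le]
  exact map_mono (le_sSup h.subtype)

theorem PRedIn.isPGroup {L Y : Subgroup H} (h : PRedIn p L Y) : IsPGroup p Y :=
  LocalEven.isPGroup_elemAb h.elem

theorem PRedIn.le_pCoreOf {L Y : Subgroup H} (h : PRedIn p L Y) : Y ≤ pCoreOf p L :=
  LocalStr.le_pCoreOf h.le h.norm h.isPGroup

theorem PRedIn.pCoreOf_le_centralizer {L Y : Subgroup H} (h : PRedIn p L Y) :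
    pCoreOf p L ≤ centralizer (Y : Set H) :=
  h.red _ (pCoreOf_le L) (le_normalizer_pCoreOf L) (LocalEven.IsPGroup.isPMod (isPGroup_pCoreOf L) _)

/-- Powers of elements of `N ⊔ C` for `N ≤ normalizer C`. -/
theorem exists_pow_mem_of_sup {N C : Subgroup H} (hN : N ≤ normalizer (C : Set H))
    {x : H} (hx : x ∈ N ⊔ C) : ∀ j : ℕ, ∃ n ∈ N, x * n⁻¹ ∈ C ∧ x ^ j * (n ^ j)⁻¹ ∈ C := by
  rw [← SetLike.mem_coe, coe_mul_of_left_le_normalizer_right _ _ hN] at hx
  obtain ⟨n, hn, c, hc, rfl⟩ := Set.mem_mul.mp hx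
  have h1 : n * c * n⁻¹ ∈ C := (mem_normalizer_iff.mp (hN hn) c).mp hc
  intro j
  refine ⟨n, hn, h1, ?_⟩
  induction j with
  | zero => simp
  | succ j ih =>
    rw [pow_succ' (n * c), pow_succ' n]
    rw [show n * c * (n * c) ^ j * (n * n ^ j)⁻¹ =
      (n * c * n⁻¹) * (n * ((n * c) ^ j * (n ^ j)⁻¹) * n⁻¹) by group]
    exact mul_mem h1 ((mem_normalizer_iff.mp (hN hn) _).mp ih)

/-- A `p`-reduced normal subgroup of `M` is `p`-reduced in `L` if `L C(Y) = M C(Y)`. -/
theorem PRedIn.transfer {L M Y : Subgroup H} (h : PRedIn p M Y) (hYL : Y ≤ L)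
    (hfac : L ⊔ centralizer (Y : Set H) = M ⊔ centralizer (Y : Set H)) : PRedIn p L Y := by
  set C := centralizer (Y : Set H) with hC
  have hX : M ⊔ C ≤ normalizer (Y : Set H) := sup_le h.norm (centralizer_le_normalizer _)
  have hLY : L ≤ normalizer (Y : Set H) := (le_sup_left.trans hfac.le).trans hX
  refine ⟨hYL, hLY, h.elem, fun N hNL hN hm => ?_⟩
  have hXC : M ⊔ C ≤ normalizer (C : Set H) := fun g hg =>
    LocalEven.le_normalizer_centralizer' le_rfl (hX hg)
  have hNC : N ≤ normalizer (C : Set H) := (hNL.trans (le_sup_left.trans hfac.le)).trans hXC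
  have hLn : L ≤ normalizer ((N ⊔ C : Subgroup H) : Set H) := fun g hg => map_conj_eq_iff.mp (by
    rw [Subgroup.map_sup, map_conj_eq_iff.mpr (hN hg),
      map_conj_eq_iff.mpr (hXC (le_sup_left.trans hfac.le hg))])
  have hXn : M ⊔ C ≤ normalizer ((N ⊔ C : Subgroup H) : Set H) :=
    hfac ▸ sup_le hLn (le_sup_right.trans le_normalizer)
  have h1 := h.red ((N ⊔ C) ⊓ M) inf_le_right
    (LocalEven.le_normalizer_inf (le_sup_left.trans hXn) le_normalizer) (fun x hx => ?_)
  · intro n hn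
    have h2 : n ∈ M ⊔ C := hfac ▸ mem_sup_left (hNL hn)
    rw [← SetLike.mem_coe, coe_mul_of_left_le_normalizer_right _ _ (le_sup_left.trans hXC)] at h2
    obtain ⟨m, hm', c, hc, rfl⟩ := Set.mem_mul.mp h2
    have h3 : m ∈ N ⊔ C := by
      have := mul_mem (mem_sup_left (T := C) hn) (mem_sup_right (S := N) (inv_mem hc))
      simpa using this
    exact mul_mem (h1 ⟨h3, hm'⟩) hc
  · obtain ⟨n, hn, -⟩ := exists_pow_mem_of_sup hNC hx.1 1
    obtain ⟨k, hk⟩ : ∃ k, ∀ y ∈ N, y ^ p ^ k ∈ C := by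
      classical
      have : ∀ y : N, ∃ k, (y : H) ^ p ^ k ∈ C := fun y => hm y y.2
      choose f hf using this
      haveI : Fintype N := Fintype.ofFinite _
      refine ⟨Finset.univ.sup f, fun y hy => ?_⟩
      have hle : f ⟨y, hy⟩ ≤ Finset.univ.sup f := Finset.le_sup (Finset.mem_univ _)
      obtain ⟨d, hd⟩ := Nat.exists_eq_add_of_le hle
      rw [hd, pow_add, pow_mul]
      exact pow_mem (hf ⟨y, hy⟩) _
    obtain ⟨n, hn, -, h4⟩ := exists_pow_mem_of_sup hNC hx.1 (p ^ k)
    refine ⟨k, ?_⟩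
    have := mul_mem h4 (hk n hn)
    simpa using this

/-! ### `Y_L` for `L` of characteristic `p` containing a Sylow subgroup -/

theorem charPIn_of {L : Subgroup H}
    (hL : centralizer (pCore p ↥L : Set ↥L) ≤ pCore p ↥L) :
    ∀ x ∈ L, x ∈ centralizer (pCoreOf p L : Set H) → x ∈ pCoreOf p L := by
  intro x hx hxc
  refine (mem_pCoreOf hx).mpr (hL (mem_centralizer_iff.mpr fun y hy => Subtype.ext ?_))
  exact mem_centralizer_iff.mp hxc y ⟨y, hy, rfl⟩

theorem inf_centralizer_isSylOf (T : Sylow p H) {Y : Subgroup H}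
    (hTY : (T : Subgroup H) ≤ normalizer (Y : Set H)) :
    IsSylOf p ((T : Subgroup H) ⊓ centralizer (Y : Set H)) (centralizer (Y : Set H)) :=
  LocalEven.IsSylOf.inf_normal ((sylow_isSylOf_top T).of_le hTY le_top)
    (centralizer_le_normalizer _) (LocalEven.le_normalizer_centralizer' le_rfl)

/-- `Y_L = Ω₁(Z(C_T(Y_L)))`. -/
theorem largest_eq_omegaZ (T : Sylow p H) {L : Subgroup H} (hTL : (T : Subgroup H) ≤ L)
    (hL : centralizer (pCore p ↥L : Set ↥L) ≤ pCore p ↥L) :
    largestPReducedOf p L =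
      omegaZ p ((T : Subgroup H) ⊓ centralizer (largestPReducedOf p L : Set H)) := by
  set Y := largestPReduced p ↥L with hYdef
  have hspec : IsPReducedNormal p Y ∧ ∀ V : Subgroup L, IsPReducedNormal p V → V ≤ Y :=
    ⟨LocalEven.pReduced_sSup fun _ h => h, fun V hV => le_sSup hV⟩
  obtain ⟨-, -, h3⟩ := Cfsg.Agent.S2803.result hL (T.subtype hTL) Y hspec _ rfl
  set T0 := (T : Subgroup H) ⊓ centralizer (largestPReducedOf p L : Set H) with hT0
  have h4 : ((T.subtype hTL : Sylow p L) : Subgroup L) ⊓ centralizer (Y : Set L) =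
      T0.subgroupOf L := by
    rw [show ((T.subtype hTL : Sylow p L) : Subgroup L) = (T : Subgroup H).subgroupOf L from rfl]
    have hcs := centralizer_subgroupOf (L := L) (map_subtype_le Y)
    rw [subgroupOf, comap_map_eq_self_of_injective L.subtype_injective] at hcs
    rw [hcs]
    rfl
  rw [h4] at h3
  have h5 : (omegaZ p (T0.subgroupOf L)).map L.subtype = omegaZ p T0 := by
    refine le_antisymm ?_ ?_
    · rintro _ ⟨x, hx, rfl⟩
      obtain ⟨a, b, c⟩ := LocalEven.omegaZ_spec hx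
      refine LocalEven.mem_omegaZ a (mem_centralizer_iff.mpr fun t ht => ?_)
        (by rw [← map_pow, c, map_one])
      exact congrArg Subtype.val (mem_centralizer_iff.mp b ⟨t, hTL ht.1⟩ ht)
    · intro x hx
      obtain ⟨a, b, c⟩ := LocalEven.omegaZ_spec hx
      exact ⟨⟨x, hTL a.1⟩, LocalEven.mem_omegaZ (mem_subgroupOf.mpr a)
        (mem_centralizer_iff.mpr fun t ht => Subtype.ext (mem_centralizer_iff.mp b t ht))
        (Subtype.ext (by simpa using c)), rfl⟩
  rw [← h5]
  exact congrArg (Subgroup.map L.subtype) h3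

theorem omegaZ_le_largest (T : Sylow p H) {L : Subgroup H} (hTL : (T : Subgroup H) ≤ L)
    (hL : centralizer (pCore p ↥L : Set ↥L) ≤ pCore p ↥L) :
    omegaZ p (T : Subgroup H) ≤ largestPReducedOf p L := by
  have h1 := largest_eq_omegaZ T hTL hL
  rw [h1]
  intro x hx
  obtain ⟨a, b, c⟩ := LocalEven.omegaZ_spec hx
  have hYT : largestPReducedOf p L ≤ (T : Subgroup H) :=
    (pRedIn_largest L).le_pCoreOf.trans (((sylow_isSylOf_top T).of_le hTL le_top).pCoreOf_le)
  refine LocalEven.mem_omegaZ ⟨a, centralizer_le (SetLike.coe_subset_coe.mpr hYT) b⟩ ?_ c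
  exact centralizer_le (SetLike.coe_subset_coe.mpr inf_le_left) b

theorem sylowCenterClosure_le_largest (T : Sylow p H) {L : Subgroup H}
    (hTL : (T : Subgroup H) ≤ L)
    (hL : centralizer (pCore p ↥L : Set ↥L) ≤ pCore p ↥L) :
    sylowCenterClosure p L ≤ largestPReducedOf p L := by
  refine LocalEven.sylowCenterClosure_le fun U hU => ?_
  obtain ⟨g, hg, hgU⟩ := ((sylow_isSylOf_top T).of_le hTL le_top).exists_conj hU
  rw [← hgU, ← LocalEven.cj_omegaZ]
  refine (LocalEven.cj_le_cj (omegaZ_le_largest T hTL hL)).trans (le_of_eq ?_)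
  exact map_conj_eq_iff.mpr ((pRedIn_largest L).norm hg)

/-- Monotonicity of `Y`. -/
theorem largest_mono_of_sup_eq {T : Sylow p H} {L M : Subgroup H} (hTL : (T : Subgroup H) ≤ L)
    (hTM : (T : Subgroup H) ≤ M)
    (hfac : L ⊔ centralizer (largestPReducedOf p M : Set H) =
      M ⊔ centralizer (largestPReducedOf p M : Set H)) :
    largestPReducedOf p M ≤ largestPReducedOf p L :=
  le_largest ((pRedIn_largest M).transfer
    (((pRedIn_largest M).le_pCoreOf.trans
      (((sylow_isSylOf_top T).of_le hTM le_top).pCoreOf_le)).trans hTL) hfac)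

/-- Averaging: a power of a `T`-fixed element of `V` is a `L`-fixed one modulo `U`. -/
theorem mem_sup_fixed {T L V U : Subgroup H} (hT : IsSylOf p T L) (hV : IsElementaryAbelian p V)
    (hLV : L ≤ normalizer (V : Set H)) {a : H} (haV : a ∈ V)
    (hTa : ∀ t ∈ T, t * a * t⁻¹ = a) (hU : ∀ l ∈ L, l * a * l⁻¹ * a⁻¹ ∈ U) :
    ∃ b u : H, b ∈ V ∧ b ∈ centralizer (L : Set H) ∧ u ∈ U ∧ a = b * u := by
  obtain ⟨N, hN1, -, -, hN4, -⟩ := LocalEven.exists_avg V L T hV.1 hLV hT.1
  obtain ⟨hb, hbfix⟩ := hN1 a ⟨haV, hTa⟩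
  have hu := hN4 a U ⟨haV, hTa⟩ hU
  have hm : (T.relIndex L).Coprime p := LocalEven.IsSylOf.relIndex_coprime hT
  have hpa : (orderOf a).Coprime (T.relIndex L) :=
    Nat.Coprime.coprime_dvd_left (orderOf_dvd_of_pow_eq_one (hV.2 a haV)) hm.symm
  obtain ⟨m, hm⟩ := exists_pow_eq_self_of_coprime hpa.symm
  refine ⟨(N a) ^ m, ((N a * (a ^ T.relIndex L)⁻¹) ^ m)⁻¹, pow_mem hb m, pow_mem ?_ m,
    inv_mem (pow_mem hu m), ?_⟩
  · refine mem_centralizer_iff.mpr fun l hl => ?_
    exact mul_inv_eq_iff_eq_mul.mp (hbfix l hl)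
  · have hcomm : ∀ x ∈ V, ∀ y ∈ V, Commute x y := fun x hx y hy =>
      congrArg Subtype.val (hV.1.is_comm.comm (⟨x, hx⟩ : V) ⟨y, hy⟩)
    have hc1 : Commute (N a) ((a ^ T.relIndex L)⁻¹) := hcomm _ hb _ (inv_mem (pow_mem haV _))
    rw [hc1.mul_pow, inv_pow, hm, mul_inv_rev, inv_inv, ← mul_assoc,
      (hcomm _ (pow_mem hb m) _ haV).eq, mul_assoc, mul_inv_cancel, mul_one]

end CfsgLib.LocalStr
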