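import Cfsg.Agent.Lib.LocalStr.AsymLBase
import Cfsg.Agent.Lib.LocalStr.PReduced
import Cfsg.Agent.Lib.Invol.BaerSuzuki
import Cfsg.Agent.Lib.Solvable.CoprimeAction

/-!
# The minimal overgroup `L` of `Y` in the asymmetric case

`L` is minimal in `H` subject to `Y ≤ L` and `Y ≰ O_p(L)`.  The central fact is `star`: if a
conjugate of `Y` by an element `x` of `L` commutes with `Y`, then `x` normalises `Y`.
-/

set_option autoImplicit false
set_option linter.style.haveILetI false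

namespace CfsgLib.LocalStr

open Subgroup Cfsg
open scoped commutatorElement
open CfsgLib.LocalEven (cj cj_cj cj_one cj_le_cj cj_centralizer cj_inf mem_normalizer_iff_cj
  card_cj IsSylOf le_normalizer_inf le_normalizer_centralizer' exists_isSylOf_ge)

variable {G : Type*} [Group G]

/-- The situation of the `L`-lemma. -/
structure AsymL (p : ℕ) (Y P U H L : Subgroup G) : Prop where
  base : AsymBase p Y P
  elem : IsElementaryAbelian p Y
  Up : IsPGroup p U
  UH : U ≤ H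
  HU : H ≤ normalizer (U : Set G)
  CHU : ∀ x ∈ H, x ∈ centralizer (U : Set G) → x ∈ U
  PH : P ≤ H
  prop : ∀ X : Subgroup G, P ≤ X → X < H → Y ≤ pCoreOf p X
  LH : L ≤ H
  YL : Y ≤ L
  YO : ¬ Y ≤ pCoreOf p L
  maxU : ∀ X : Subgroup G, X ≤ H → H ≤ normalizer (X : Set G) → IsPGroup p X → X ≤ U
  min : ∀ X : Subgroup G, X ≤ L → Y ≤ X → ¬ Y ≤ pCoreOf p X → X = L

theorem le_normalizer_stabilizerOfQuotient [Finite G] {O Z X : Subgroup G}
    (hO : X ≤ normalizer (O : Set G)) (hZ : X ≤ normalizer (Z : Set G)) :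
    X ≤ normalizer (stabilizerOfQuotient O Z : Set G) := by
  refine le_normalizer_iff_map_le.mpr fun l hl => ?_
  rintro _ ⟨k, ⟨hk1, hk2, hk3⟩, rfl⟩
  refine ⟨mul_mem (mul_mem (hO hl) hk1) (inv_mem (hO hl)),
    mul_mem (mul_mem (hZ hl) hk2) (inv_mem (hZ hl)), fun o ho => ?_⟩
  have h1 := hk3 _ ((mem_normalizer_iff''.mp (hO hl) o).mp ho)
  have h2 := (mem_normalizer_iff.mp (hZ hl) _).mp h1
  rwa [show l * ⁅k, l⁻¹ * o * l⁆ * l⁻¹ = ⁅(MulAut.conj l).toMonoidHom k, o⁆ by
    simp only [commutatorElement_def, MulEquiv.coe_toMonoidHom, MulAut.conj_apply]; group] at h2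

/-- A commutator of an element normalising `A` with an element of `A` lies in `A`. -/
theorem commutator_mem_left {A : Subgroup G} {x a : G} (hx : x ∈ normalizer (A : Set G))
    (ha : a ∈ A) : ⁅x, a⁆ ∈ A :=
  mul_mem (conj_mem_of_mem_normalizer hx ha) (inv_mem ha)

theorem commutator_mem_right {A : Subgroup G} {a x : G} (hx : x ∈ normalizer (A : Set G))
    (ha : a ∈ A) : ⁅a, x⁆ ∈ A := by
  rw [← commutatorElement_inv]
  exact inv_mem (commutator_mem_left hx ha)

variable [Finite G] {p : ℕ} [Fact p.Prime] {Y P U H L : Subgroup G}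

theorem AsymL.Yp (hA : AsymL p Y P U H L) : IsPGroup p Y := hA.base.Pp.to_le hA.base.YP

theorem AsymL.YH (hA : AsymL p Y P U H L) : Y ≤ H := hA.base.YP.trans hA.PH

theorem AsymL.Y_comm (hA : AsymL p Y P U H L) : Y ≤ centralizer (Y : Set G) :=
  hA.base.YP.trans hA.base.PC

theorem AsymL.U_le_normalizer (hA : AsymL p Y P U H L) {h : G} (hh : h ∈ H) :
    U ≤ normalizer (cj h Y : Set G) := by
  have h1 : U ≤ normalizer (P : Set G) := le_sup_left.trans
    (hA.base.le_normalizer_of_ge (sup_comm P U ▸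
      Components.isPGroup_sup hA.base.Pp hA.Up (hA.PH.trans hA.HU)) le_sup_right)
  have h2 := cj_le_normalizer h (h1.trans hA.base.NPY)
  rwa [cj_eq_self (hA.HU hh)] at h2

theorem AsymL.U_le_normalizer_one (hA : AsymL p Y P U H L) : U ≤ normalizer (Y : Set G) := by
  have := hA.U_le_normalizer (one_mem H)
  rwa [cj_one] at this

theorem AsymL.not_isPGroup (hA : AsymL p Y P U H L) : ¬ IsPGroup p L := fun h =>
  hA.YO (hA.YL.trans (le_pCoreOf le_rfl le_normalizer h))

theorem AsymL.sup_eq (hA : AsymL p Y P U H L) : L ⊔ P = H := by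
  by_contra h
  exact hA.YO ((le_inf (hA.prop _ le_sup_right (lt_of_le_of_ne (sup_le hA.LH hA.PH) h)) hA.YL).trans
    (pCoreOf_inf_le le_sup_left))

theorem AsymL.le_pCoreOf_of_lt (hA : AsymL p Y P U H L) {X : Subgroup G} (hYX : Y ≤ X)
    (hX : X < L) : Y ≤ pCoreOf p X :=
  Classical.byContradiction fun h => hX.ne (hA.min X hX.le hYX h)

theorem AsymL.exists_gen (hA : AsymL p Y P U H L) : ∃ k ∈ L, Y ⊔ cj k Y = L := by
  by_contra h
  push Not at h
  have hall : ∀ g : ↥L, IsPGroup p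
      ↥(Y.subgroupOf L ⊔ (Y.subgroupOf L).map (MulAut.conj g).toMonoidHom) := fun g => by
    have he : (Y.subgroupOf L ⊔ (Y.subgroupOf L).map (MulAut.conj g).toMonoidHom).map L.subtype
        = Y ⊔ cj (g : G) Y := by
      rw [Subgroup.map_sup, map_subgroupOf_eq_of_le hA.YL, Subgroup.map_map]
      congr 1
      conv_rhs => rw [← map_subgroupOf_eq_of_le hA.YL, cj, Subgroup.map_map]
      congr 1
    have hle : Y ⊔ cj (g : G) Y ≤ L := sup_le hA.YL (map_conj_le_of_mem hA.YL g.2)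
    have hYA := hA.le_pCoreOf_of_lt le_sup_left (lt_of_le_of_ne hle (h g g.2))
    have hX : IsPGroup p ↥(Y ⊔ cj (g : G) Y) :=
      (Components.isPGroup_sup (hA.Yp.map _) (isPGroup_pCoreOf (Y ⊔ cj (g : G) Y))
        (le_sup_right.trans (le_normalizer_pCoreOf (Y ⊔ cj (g : G) Y)))).to_le
        (sup_le (hYA.trans le_sup_right) le_sup_left)
    rw [← he] at hX
    exact hX.of_equiv (equivMapOfInjective _ _ L.subtype_injective).symm
  obtain ⟨N, hN, hNp, hle⟩ := Invol.baer_suzuki (Y.subgroupOf L) hall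
  refine hA.YO ?_
  rw [← map_subgroupOf_eq_of_le hA.YL]
  exact map_mono (hle.trans (Components.le_pCore_of_normal hN hNp))

theorem AsymL.le_normalizer_sup_gen (hA : AsymL p Y P U H L) {k : G} (hk : k ∈ L) :
    Y ⊔ cj k Y ≤ normalizer (((Y ⊓ U) ⊔ (cj k Y ⊓ U) : Subgroup G) : Set G) := by
  have hkH : cj k Y ≤ H := map_conj_le_of_mem hA.YH (hA.LH hk)
  have key : ∀ A B : Subgroup G, A ≤ centralizer (A : Set G) → A ≤ H →
      U ≤ normalizer (A : Set G) → A ≤ normalizer (((A ⊓ U) ⊔ (B ⊓ U) : Subgroup G) : Set G) := by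
    intro A B hAA hAH hUA
    refine le_normalizer_iff_map_le.mpr fun y hy => ?_
    rw [Subgroup.map_sup]
    refine sup_le ?_ ?_
    · rintro _ ⟨b, hb, rfl⟩
      refine mem_sup_left ?_
      show y * b * y⁻¹ ∈ A ⊓ U
      rw [conj_fix (hAA hy) hb.1]
      exact hb
    · rintro _ ⟨b, hb, rfl⟩
      show y * b * y⁻¹ ∈ _
      rw [show y * b * y⁻¹ = ⁅y, b⁆ * b by simp only [commutatorElement_def]; group]
      exact mul_mem (mem_sup_left ⟨commutator_mem_right (hUA hb.2) hy,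
        commutator_mem_left (hA.HU (hAH hy)) hb.2⟩) (mem_sup_right hb)
  refine sup_le (key _ _ hA.Y_comm hA.YH hA.U_le_normalizer_one) ?_
  rw [sup_comm]
  refine key _ _ ?_ hkH (hA.U_le_normalizer (hA.LH hk))
  have h1 := cj_le_cj (g := k) hA.Y_comm
  rwa [cj_centralizer] at h1

/-- The subgroup `D = (Y ∩ U)^L` and its properties. -/
theorem AsymL.exists_D (hA : AsymL p Y P U H L) :
    ∃ D : Subgroup G, D ≤ L ∧ D ≤ U ∧ L ≤ normalizer (D : Set G) ∧ Y ⊓ U ≤ D ∧
      (∀ l ∈ L, ∀ u ∈ U, ⁅l, u⁆ ∈ D) ∧ D ⊓ centralizer (Y : Set G) ≤ Y ⊓ U ∧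
      U ⊓ centralizer (Y : Set G) ≤ (Y ⊓ U) ⊔ (U ⊓ centralizer (L : Set G)) := by
  obtain ⟨k, hk, hgen⟩ := hA.exists_gen
  set B := Y ⊓ U with hB
  set B' := cj k Y ⊓ U with hB'
  set D := B ⊔ B' with hD
  have hkU : cj k U = U := cj_eq_self (hA.HU (hA.LH hk))
  have hLN : L ≤ normalizer (D : Set G) := hgen.ge.trans (hA.le_normalizer_sup_gen hk)
  have hDU : D ≤ U := sup_le inf_le_right inf_le_right
  have hDL : D ≤ L :=
    sup_le (inf_le_left.trans hA.YL) (inf_le_left.trans (map_conj_le_of_mem hA.YL hk))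
  have hLstab : L ≤ stabilizerOfQuotient U D := by
    refine hgen.ge.trans (sup_le (fun y hy => ⟨hA.HU (hA.YH hy), hLN (hA.YL hy), fun u hu => ?_⟩)
      (fun y hy => ?_))
    · exact mem_sup_left ⟨commutator_mem_right (hA.U_le_normalizer_one hu) hy,
        commutator_mem_left (hA.HU (hA.YH hy)) hu⟩
    · have hyL : y ∈ L := map_conj_le_of_mem hA.YL hk hy
      exact ⟨hA.HU (hA.LH hyL), hLN hyL, fun u hu => mem_sup_right
        ⟨commutator_mem_right (hA.U_le_normalizer (hA.LH hk) hu) hy,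
        commutator_mem_left (hA.HU (hA.LH hyL)) hu⟩⟩
  have hk1 : k ∈ normalizer (D : Set G) := hLN hk
  have hcent : centralizer (Y : Set G) ⊓ centralizer (cj k Y : Set G) ≤ centralizer (L : Set G) := by
    rw [le_centralizer_iff]
    refine hgen.ge.trans (sup_le ?_ ?_)
    · exact le_centralizer_iff.mp inf_le_left
    · exact le_centralizer_iff.mp inf_le_right
  have hYk : cj k Y ≤ centralizer (cj k Y : Set G) := by
    have h1 := cj_le_cj (g := k) hA.Y_comm
    rwa [cj_centralizer] at h1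
  have hdec : ∀ d ∈ D, ∃ b' ∈ B', ∃ b ∈ B, d = b' * b := fun d hd => by
    have hn : B' ≤ normalizer (B : Set G) := inf_le_right.trans
      (le_normalizer_inf hA.U_le_normalizer_one le_normalizer)
    rw [hD, sup_comm, ← SetLike.mem_coe, coe_mul_of_left_le_normalizer_right _ _ hn] at hd
    obtain ⟨b', hb', b, hb, rfl⟩ := Set.mem_mul.mp hd
    exact ⟨b', hb', b, hb, rfl⟩
  refine ⟨D, hDL, hDU, hLN, le_sup_left, fun l hl u hu => (hLstab hl).2.2 u hu, ?_, ?_⟩
  · rintro d ⟨hd, hdY⟩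
    obtain ⟨b', hb', b, hb, rfl⟩ := hdec d hd
    have h1 : b' ∈ centralizer (Y : Set G) :=
      (Subgroup.mul_mem_cancel_right _ (hA.Y_comm hb.1)).mp hdY
    have h2 : b' ∈ centralizer (L : Set G) := hcent ⟨h1, hYk hb'.1⟩
    have h3 : b' ∈ cj k B := by rw [hB, cj_inf, hkU]; exact hb'
    obtain ⟨b0, hb0, he⟩ := h3
    have h4 : b' = b0 := by
      calc b' = k⁻¹ * (k * b') := by group
        _ = k⁻¹ * (b' * k) := by rw [h2 k hk]
        _ = b0 := by
          rw [← show k * b0 * k⁻¹ = b' from he]; group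
    exact mul_mem (h4 ▸ hb0) hb
  · rintro u ⟨hu, huY⟩
    obtain ⟨b', hb', b, hb, he⟩ := hdec _ ((hLstab hk).2.2 u hu)
    have hu' : k * u * k⁻¹ ∈ centralizer (cj k Y : Set G) := by
      rw [← cj_centralizer]; exact ⟨u, huY, rfl⟩
    have e : b * u = b'⁻¹ * (k * u * k⁻¹) := by
      rw [show k * u * k⁻¹ = ⁅k, u⁆ * u by simp only [commutatorElement_def]; group, he]; group
    have h1 : b * u ∈ centralizer (L : Set G) :=
      hcent ⟨Subgroup.mul_mem _ (hA.Y_comm hb.1) huY, e ▸ Subgroup.mul_mem _ (Subgroup.inv_mem _ (hYk hb'.1)) hu'⟩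
    rw [show u = b⁻¹ * (b * u) by group]
    exact mul_mem (mem_sup_left (inv_mem hb)) (mem_sup_right ⟨mul_mem hb.2 hu, h1⟩)

/-- A conjugate by an element of `L` commuting with `Y` is equal to `Y`. -/
theorem AsymL.star (hA : AsymL p Y P U H L) {x : G} (hx : x ∈ L)
    (hcomm : Y ≤ centralizer (cj x Y : Set G)) : x ∈ normalizer (Y : Set G) := by
  obtain ⟨D, -, -, hLD, hBD, -, hDC, hE⟩ := hA.exists_D
  set B := Y ⊓ U with hBdef
  set CU := U ⊓ centralizer (L : Set G) with hCU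
  set E := U ⊓ centralizer (Y : Set G) with hEdef
  set Y1 := cj x Y with hY1
  have hY1C : Y1 ≤ centralizer (Y : Set G) := le_centralizer_iff.mp hcomm
  have hxU : cj x U = U := cj_eq_self (hA.HU (hA.LH hx))
  have hxB : x ∈ normalizer (B : Set G) := by
    refine mem_normalizer_of_cj_le (le_trans (le_inf ?_ ?_) hDC)
    · exact (cj_le_cj hBD).trans (cj_eq_self (hLD hx)).le
    · exact (cj_le_cj inf_le_left).trans hY1C
  have hEeq : E = B ⊔ CU := le_antisymm hE (sup_le
    (le_inf inf_le_right (inf_le_left.trans hA.Y_comm))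
    (le_inf inf_le_left (inf_le_right.trans (centralizer_le (SetLike.coe_subset_coe.mpr hA.YL)))))
  have hxCU : x ∈ normalizer (CU : Set G) := by
    refine mem_normalizer_of_cj_le ?_
    rintro _ ⟨w, hw, rfl⟩
    show x * w * x⁻¹ ∈ CU
    rw [hw.2 x hx]
    simpa using hw
  have hxE : x ∈ normalizer (E : Set G) := by
    rw [hEeq]
    exact mem_normalizer_iff_cj.2 (by
      rw [cj, Subgroup.map_sup]
      exact congr_arg₂ (· ⊔ ·) (cj_eq_self hxB) (cj_eq_self hxCU))
  have hEY1 : E = U ⊓ centralizer (Y1 : Set G) := by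
    conv_lhs => rw [← cj_eq_self hxE]
    rw [hEdef, cj_inf, cj_centralizer, hxU]
  have hB1 : Y1 ⊓ U = B := by
    conv_rhs => rw [← cj_eq_self hxB, hBdef, cj_inf, hxU]
  have hdecE : ∀ e ∈ E, ∃ b ∈ B, ∃ w ∈ CU, e = b * w := fun e he => by
    have hn : CU ≤ normalizer (B : Set G) := fun w hw => centralizer_le_normalizer _
      (centralizer_le (SetLike.coe_subset_coe.mpr (inf_le_left.trans hA.YL)) hw.2)
    rw [hEeq, sup_comm, ← SetLike.mem_coe, coe_mul_of_left_le_normalizer_right _ _ hn] at he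
    obtain ⟨w, hw, b, hb, rfl⟩ := Set.mem_mul.mp he
    exact ⟨b, hb, w, hw, (hw.2 b (hA.YL hb.1)).symm⟩
  -- `x` acts trivially on `E` modulo `B`
  have hxtriv : ∀ e ∈ E, ⁅x, e⁆ ∈ B := fun e he => by
    obtain ⟨b, hb, w, hw, rfl⟩ := hdecE e he
    rw [show ⁅x, b * w⁆ = ⁅x, b⁆ * (b * ⁅x, w⁆ * b⁻¹) by simp only [commutatorElement_def]; group,
      commutatorElement_eq_one_iff_mul_comm.mpr (hw.2 x hx)]
    simpa using commutator_mem_left hxB hb
  have hPE : P ≤ normalizer (E : Set G) :=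
    le_normalizer_inf (hA.PH.trans hA.HU)
      (le_normalizer_centralizer' (le_normalizer.trans hA.base.NPY))
  have hPB : P ≤ centralizer (B : Set G) :=
    hA.base.PC.trans (centralizer_le (SetLike.coe_subset_coe.mpr inf_le_left))
  -- `P` acts on `Y1 E`, trivially modulo `E`
  have hcom : ∀ z ∈ P, ∀ y ∈ Y1, ⁅z, y⁆ ∈ E := fun z hz y hy => by
    set q := z * y * z⁻¹ with hq
    have hyH : y ∈ H := map_conj_le_of_mem hA.YH (hA.LH hx) hy
    have hqH : q ∈ H := mul_mem (mul_mem (hA.PH hz) hyH) (inv_mem (hA.PH hz))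
    have hqy : q⁻¹ * y ∈ centralizer (U : Set G) := by
      refine mem_centralizer_iff.mpr fun u hu => ?_
      set u0 := z⁻¹ * u * z with hu0
      have hu0U : u0 ∈ U := (mem_normalizer_iff''.mp (hA.HU (hA.PH hz)) u).mp hu
      have he : u⁻¹ * u0 ∈ E := by
        refine ⟨Subgroup.mul_mem _ (Subgroup.inv_mem _ hu) hu0U, mem_centralizer_iff.mpr fun y' hy' => ?_⟩
        have hbB : ⁅y', u⁆ ∈ B := ⟨commutator_mem_right (hA.U_le_normalizer_one hu) hy',
          commutator_mem_left (hA.HU (hA.YH hy')) hu⟩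
        have h1 : z⁻¹ * ⁅y', u⁆ * z = ⁅y', u⁆ := by
          have := conj_fix (hPB (inv_mem hz)) hbB
          rwa [inv_inv] at this
        have h2 : z⁻¹ * y' * z = y' := by
          have := conj_fix (hA.base.PC (inv_mem hz)) hy'
          rwa [inv_inv] at this
        have h3 : y' * u0 * y'⁻¹ = ⁅y', u⁆ * u0 := by
          calc y' * u0 * y'⁻¹ = (z⁻¹ * y' * z) * u0 * (z⁻¹ * y' * z)⁻¹ := by rw [h2]
            _ = (z⁻¹ * ⁅y', u⁆ * z) * u0 := by
              simp only [hu0, commutatorElement_def]; group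
            _ = _ := by rw [h1]
        calc y' * (u⁻¹ * u0) = (y' * u * y'⁻¹)⁻¹ * (y' * u0 * y'⁻¹) * y' := by group
          _ = (⁅y', u⁆ * u)⁻¹ * (⁅y', u⁆ * u0) * y' := by
            rw [h3]; simp only [commutatorElement_def]; group
          _ = u⁻¹ * u0 * y' := by group
      have hcB : ⁅y, u⁆ ∈ B := hB1 ▸ ⟨commutator_mem_right
        (hA.U_le_normalizer (hA.LH hx) hu) hy, commutator_mem_left (hA.HU hyH) hu⟩
      have h4 : y * (u⁻¹ * u0) * y⁻¹ = u⁻¹ * u0 := by
        rw [hEY1] at he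
        exact conj_fix (le_centralizer_iff.mp inf_le_right hy) he
      have h5 : y * u0 * y⁻¹ = ⁅y, u⁆ * u0 := by
        rw [show y * u0 * y⁻¹ = ⁅y, u⁆ * u * (y * (u⁻¹ * u0) * y⁻¹) by
          simp only [commutatorElement_def]; group, h4]
        group
      have h6 : q * u * q⁻¹ = y * u * y⁻¹ := by
        rw [show q * u * q⁻¹ = z * (y * u0 * y⁻¹) * z⁻¹ by simp only [hq, hu0]; group, h5,
          show z * (⁅y, u⁆ * u0) * z⁻¹ = (z * ⁅y, u⁆ * z⁻¹) * u by simp only [hu0]; group,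
          conj_fix (hPB hz) hcB, commutatorElement_def]
        group
      calc u * (q⁻¹ * y) = q⁻¹ * (q * u * q⁻¹) * y := by group
        _ = q⁻¹ * (y * u * y⁻¹) * y := by rw [h6]
        _ = q⁻¹ * y * u := by group
    have hw : q⁻¹ * y ∈ E := by
      refine ⟨hA.CHU _ (mul_mem (inv_mem hqH) hyH) hqy, Subgroup.mul_mem _ (Subgroup.inv_mem _ ?_) (hY1C hy)⟩
      exact Subgroup.mul_mem _ (Subgroup.mul_mem _ (hA.base.PC hz) (hY1C hy)) (Subgroup.inv_mem _ (hA.base.PC hz))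
    have h7 : y⁻¹ * q ∈ E := by simpa using inv_mem hw
    rw [show ⁅z, y⁆ = y * (y⁻¹ * q) * y⁻¹ by simp only [commutatorElement_def, hq]; group]
    rw [hEY1] at h7 ⊢
    rw [conj_fix (le_centralizer_iff.mp inf_le_right hy) h7]
    exact h7
  set Z := Y1 ⊔ E with hZ
  have hY1E : Y1 ≤ normalizer (E : Set G) := fun y hy => centralizer_le_normalizer _ (by
    rw [hEY1]; exact le_centralizer_iff.mp inf_le_right hy)
  have hdecZ : ∀ o ∈ Z, ∃ y ∈ Y1, ∃ e ∈ E, o = y * e := fun o ho => by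
    rw [hZ, ← SetLike.mem_coe, coe_mul_of_left_le_normalizer_right _ _ hY1E] at ho
    obtain ⟨y, hy, e, he, rfl⟩ := Set.mem_mul.mp ho
    exact ⟨y, hy, e, he, rfl⟩
  -- an element with `[·, Y1] ≤ E` normalising `E` stabilises `Z / E`
  have hstab : ∀ X : Subgroup G, X ≤ normalizer (E : Set G) →
      (∀ z ∈ X, ∀ y ∈ Y1, ⁅z, y⁆ ∈ E) → X ≤ stabilizerOfQuotient Z E := by
    intro X hXE hXY z hz
    have h1 : ∀ w ∈ X, ∀ o ∈ Z, ⁅w, o⁆ ∈ E := fun w hw o ho => by
      obtain ⟨y, hy, e, he, rfl⟩ := hdecZ o ho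
      rw [show ⁅w, y * e⁆ = ⁅w, y⁆ * (y * ⁅w, e⁆ * y⁻¹) by
        simp only [commutatorElement_def]; group]
      exact mul_mem (hXY w hw y hy)
        (conj_mem_of_mem_normalizer (hY1E hy) (commutator_mem_left (hXE hw) he))
    refine ⟨?_, hXE hz, h1 z hz⟩
    refine mem_normalizer_of_cj_le ?_
    rintro _ ⟨o, ho, rfl⟩
    show z * o * z⁻¹ ∈ Z
    rw [show z * o * z⁻¹ = ⁅z, o⁆ * o by simp only [commutatorElement_def]; group]
    exact mul_mem (mem_sup_right (h1 z hz o ho)) ho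
  set Px := cj x P with hPx
  have hPxY1 : Px ≤ centralizer (Y1 : Set G) := by
    have := cj_le_cj (g := x) hA.base.PC; rwa [cj_centralizer] at this
  have hPxB : Px ≤ centralizer (B : Set G) := by
    have := cj_le_cj (g := x) hPB; rwa [cj_centralizer, cj_eq_self hxB] at this
  have hPxE : Px ≤ normalizer (E : Set G) := by
    have := cj_le_normalizer x hPE; rwa [cj_eq_self hxE] at this
  have hPxZE : Px ≤ stabilizerOfQuotient Z E := hstab Px hPxE fun z hz y hy => by
    rw [commutatorElement_eq_one_iff_mul_comm.mpr (hPxY1 hz y hy).symm]; exact one_mem _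
  have hPZE : P ≤ stabilizerOfQuotient Z E := hstab P hPE hcom
  set K2 := stabilizerOfQuotient Z E ⊓ stabilizerOfQuotient E B ⊓ centralizer (B : Set G) with hK2
  have hPxB' : Px ≤ normalizer (B : Set G) := hPxB.trans (centralizer_le_normalizer _)
  have hPxK2 : Px ≤ normalizer (K2 : Set G) :=
    le_normalizer_inf (le_normalizer_inf
      (le_normalizer_stabilizerOfQuotient (fun z hz => (hPxZE hz).1) hPxE)
      (le_normalizer_stabilizerOfQuotient hPxE hPxB')) (le_normalizer_centralizer' hPxB')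
  set K := Px ⊔ K2 with hK
  have hPK : P ≤ K := fun z hz => by
    set z' := x * z * x⁻¹ with hz'
    have hz'P : z' ∈ Px := ⟨z, hz, rfl⟩
    have hn : z'⁻¹ * z ∈ K2 := by
      refine ⟨⟨Subgroup.mul_mem _ (Subgroup.inv_mem _ (hPxZE hz'P)) (hPZE hz), ?_⟩,
        Subgroup.mul_mem _ (Subgroup.inv_mem _ (hPxB hz'P)) (hPB hz)⟩
      refine ⟨mul_mem (inv_mem (hPxE hz'P)) (hPE hz),
        Subgroup.mul_mem _ (Subgroup.inv_mem _ (hPxB' hz'P)) (centralizer_le_normalizer _ (hPB hz)), fun e he => ?_⟩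
      obtain ⟨b, hb, w, hw, rfl⟩ := hdecE e he
      have hwE : w ∈ E := hEeq ▸ mem_sup_right hw
      have hwz : z * w * z⁻¹ ∈ E := conj_mem_of_mem_normalizer (hPE hz) hwE
      set β := b * (⁅x, z * w * z⁻¹⁆)⁻¹ * b⁻¹ with hβ
      have hβB : β ∈ B := mul_mem (mul_mem hb (inv_mem (hxtriv _ hwz))) (inv_mem hb)
      have hxw : x⁻¹ * w * x = w := by
        rw [mul_assoc, ← hw.2 x hx]; group
      have e1 : z * (b * w) * z⁻¹ = β * (z' * (b * w) * z'⁻¹) := by
        rw [show z * (b * w) * z⁻¹ = (z * b * z⁻¹) * (z * w * z⁻¹) by group,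
          show z' * (b * w) * z'⁻¹ = (z' * b * z'⁻¹) * (z' * w * z'⁻¹) by group,
          conj_fix (hPB hz) hb, conj_fix (hPxB hz'P) hb,
          show z' * w * z'⁻¹ = x * (z * (x⁻¹ * w * x) * z⁻¹) * x⁻¹ by simp only [hz']; group,
          hxw, hβ]
        simp only [commutatorElement_def]
        group
      rw [show ⁅z'⁻¹ * z, b * w⁆ = z'⁻¹ * (z * (b * w) * z⁻¹) * z' * (b * w)⁻¹ by
        simp only [commutatorElement_def]; group, e1,
        show z'⁻¹ * (β * (z' * (b * w) * z'⁻¹)) * z' * (b * w)⁻¹ = z'⁻¹ * β * z'⁻¹⁻¹ by group,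
        conj_fix (hPxB (inv_mem hz'P)) hβB]
      exact hβB
    rw [show z = z' * (z'⁻¹ * z) by group]
    exact mul_mem (mem_sup_left hz'P) (mem_sup_right hn)
  have hres : pRes p K ≤ normalizer (Y1 : Set G) := by
    refine pRes_le_iff.mpr fun g hg hc => centralizer_le_normalizer _ ?_
    obtain ⟨a, ha⟩ := ((hA.base.Pp.map _ : IsPGroup p ↥Px)).exists_card_eq
    obtain ⟨n, hn, -, h2⟩ := exists_pow_mem_of_sup hPxK2 hg (p ^ a)
    have hn1 : n ^ p ^ a = 1 := by
      rw [← ha]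
      exact congrArg Subtype.val (pow_card_eq_one' (x := (⟨n, hn⟩ : Px)))
    rw [hn1, inv_one, mul_one] at h2
    obtain ⟨⟨hgZ, hgE⟩, hgB⟩ := coprime_of_mem_pRes_of_pGroup hc h2
    have hEp : IsPGroup p E := hA.Up.to_le inf_le_left
    have hBp : IsPGroup p B := hA.Up.to_le inf_le_right
    have key : ∀ {A O : Subgroup G}, IsPGroup p A → g ∈ stabilizerOfQuotient O A →
        g ∈ centralizer (A : Set G) → g ∈ centralizer (O : Set G) := by
      intro A O hAp hgO hgA
      refine mem_centralizer_iff.mpr fun o ho => (commute_of_commutator_fix hAp hc ?_ ?_).symm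
      · rw [← commutatorElement_inv]; exact inv_mem (hgO.2.2 _ (inv_mem ho))
      · refine (hgA _ ?_).symm
        rw [← commutatorElement_inv]; exact inv_mem (hgO.2.2 _ (inv_mem ho))
    exact centralizer_le (SetLike.coe_subset_coe.mpr le_sup_left)
      (key hEp hgZ (key hBp hgE hgB))
  obtain ⟨T, hT, hPxT⟩ := exists_isSylOf_ge (p := p) (hA.base.Pp.map _ : IsPGroup p ↥Px)
    (le_sup_left : Px ≤ K)
  have hTY1 : T ≤ normalizer (Y1 : Set G) := by
    refine (hA.base.le_normalizer_cj hT.isPGroup hPxT).trans ?_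
    intro t ht
    have h1 := cj_le_normalizer x hA.base.NPY
    refine h1 ?_
    refine ⟨x⁻¹ * t * x, mem_normalizer_iff_cj.2 ?_, ?_⟩
    · rw [mul_assoc, ← cj_cj, ← cj_cj, cj_eq_self ht, cj_inv_cancel]
    · show x * (x⁻¹ * t * x) * x⁻¹ = t
      group
  have hPY1 : P ≤ normalizer (Y1 : Set G) :=
    hPK.trans ((pRes_sup_of_isSylOf hT).symm.le.trans (sup_le hres hTY1))
  -- conjugate `P` and `P^x` into one Sylow subgroup of the normaliser of `Y1`
  obtain ⟨T1, hT1, hPT1⟩ := exists_isSylOf_ge (p := p) hA.base.Pp hPY1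
  obtain ⟨T2, hT2, hPT2⟩ := exists_isSylOf_ge (p := p) (hA.base.Pp.map _ : IsPGroup p ↥Px)
    (hPxY1.trans (centralizer_le_normalizer _))
  obtain ⟨c, hc, hcT⟩ := hT2.exists_conj hT1
  have hcx : cj (c * x) P ≤ T1 := by rw [← cj_cj, ← hcT]; exact cj_le_cj hPT2
  have hmem := hA.base.NPY (hA.base.mem_normalizer_of_adj
    (hPT1.trans (hA.base.le_normalizer_cj hT1.isPGroup hcx))
    (hcx.trans (hA.base.le_normalizer_of_ge hT1.isPGroup hPT1)))
  refine mem_normalizer_iff_cj.2 ?_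
  calc cj x Y = cj c Y1 := (cj_eq_self hc).symm
    _ = cj (c * x) Y := cj_cj c x Y
    _ = Y := cj_eq_self hmem

end CfsgLib.LocalStr
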