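import Cfsg.Agent.Lib.LocalStr.WeaklyClosed
import Cfsg.Agent.Lib.Solvable.CoprimeAction

/-!
Large subgroups, and the key lemma on centralisers of `O_p(L)` for subgroups `L` containing a weakly
closed subgroup.
-/

set_option autoImplicit false
set_option linter.style.haveILetI false
set_option linter.unusedSectionVars false

namespace CfsgLib.LocalStr

open Subgroup Cfsg
open CfsgLib.LocalEven (IsSylOf cj)
open scoped commutatorElement

variable {H : Type*} [Group H] [Finite H] {p : ℕ} [Fact p.Prime] {Q : Subgroup H}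

/-- A `p`-group normalising a nontrivial `p`-group centralises a nontrivial element of it. -/
theorem exists_ne_one_centralized {Q Y : Subgroup H} (hQ : IsPGroup p Q) (hY : IsPGroup p Y)
    (h : Q ≤ normalizer (Y : Set H)) (hY1 : Y ≠ ⊥) :
    ∃ z ∈ Y, z ∈ centralizer (Q : Set H) ∧ z ≠ 1 := by
  have hR : IsPGroup p ↥(Q ⊔ Y) := Components.isPGroup_sup hQ hY h
  haveI := subgroupOf_normal (N := Y) (H := Q ⊔ Y) (sup_le h le_normalizer)
  have hne : Y.subgroupOf (Q ⊔ Y) ≠ ⊥ := by
    intro h'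
    refine hY1 ?_
    rw [← map_subgroupOf_eq_of_le (le_sup_right : Y ≤ Q ⊔ Y), h', Subgroup.map_bot]
  obtain ⟨z, hz, hz1⟩ := Solvable.exists_ne_one_mem_inf_center_of_normal hR hne
  refine ⟨z, hz.1, mem_centralizer_iff.mpr fun q hq => ?_, fun h1 => hz1 (Subtype.ext h1)⟩
  exact congrArg Subtype.val (mem_center_iff.mp hz.2 ⟨q, mem_sup_left hq⟩)

theorem eq_one_of_coprime_of_mem_pGroup {P : Subgroup H} (hP : IsPGroup p P) {x : H} (hx : x ∈ P)
    (hc : (orderOf x).Coprime p) : x = 1 := by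
  obtain ⟨k, hk⟩ := hP ⟨x, hx⟩
  have h1 : x ∈ (⊥ : Subgroup H) := coprime_of_mem_pRes_of_pGroup (k := k) hc
    (show x ^ p ^ k ∈ (⊥ : Subgroup H) from mem_bot.mpr (congrArg Subtype.val hk))
  exact mem_bot.mp h1

theorem isPGroup_of_forall_coprime {C : Subgroup H}
    (h : ∀ x ∈ C, (orderOf x).Coprime p → x = 1) : IsPGroup p C :=
  pRes_eq_bot_iff.mp (le_bot_iff.mp (pRes_le_iff.mpr fun g hg hc => mem_bot.mpr (h g hg hc)))

theorem commute_of_commutator_fix {P : Subgroup H} (hP : IsPGroup p P) {q x : H}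
    (hc : (orderOf x).Coprime p) (h1 : ⁅q⁻¹, x⁆ ∈ P) (h2 : x * ⁅q⁻¹, x⁆ = ⁅q⁻¹, x⁆ * x) :
    x * q = q * x := by
  have h3 : q⁻¹ * (x * q * x⁻¹) = ⁅q⁻¹, x⁆ := by simp only [commutatorElement_def]; group
  exact CharP.commute_of_stab hP hc (h3 ▸ h1) (h3 ▸ h2)

/-- The elements acting trivially on `O / Z` and normalising `O` and `Z`. -/
def stabilizerOfQuotient (O Z : Subgroup H) : Subgroup H where
  carrier := {x | x ∈ normalizer (O : Set H) ∧ x ∈ normalizer (Z : Set H) ∧
    ∀ o ∈ O, ⁅x, o⁆ ∈ Z}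
  one_mem' := ⟨one_mem _, one_mem _, fun o _ => by simp⟩
  mul_mem' := by
    rintro a b ⟨ha1, ha2, ha3⟩ ⟨hb1, hb2, hb3⟩
    refine ⟨mul_mem ha1 hb1, mul_mem ha2 hb2, fun o ho => ?_⟩
    rw [show ⁅a * b, o⁆ = (a * ⁅b, o⁆ * a⁻¹) * ⁅a, o⁆ by simp only [commutatorElement_def]; group]
    exact mul_mem ((mem_normalizer_iff.mp ha2 _).mp (hb3 o ho)) (ha3 o ho)
  inv_mem' := by
    rintro a ⟨ha1, ha2, ha3⟩
    refine ⟨inv_mem ha1, inv_mem ha2, fun o ho => ?_⟩
    have h1 := ha3 _ ((mem_normalizer_iff''.mp ha1 o).mp ho)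
    have h2 := inv_mem h1
    rwa [show ⁅a, a⁻¹ * o * a⁆⁻¹ = ⁅a⁻¹, o⁆ by
      simp only [commutatorElement_def]; group] at h2

/-- Key step: `E ≤ K` normalised by `Q` is a `p`-group if its `p'`-elements centralise `Q ∩ O_p(K)`
and, once `O^p(E)` normalises `Q`, centralise `Q ∩ O^p(E)`. -/
theorem isPGroup_of_wc (hwc : IsWeaklyClosedSubgroup p Q)
    (hCQ : centralizer (Q : Set H) ≤ Q) {K : Subgroup H}
    (hK : ∀ x ∈ K, x ∈ centralizer (pCoreOf p K : Set H) → x ∈ pCoreOf p K) (hQK : Q ≤ K)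
    {E : Subgroup H} (hEK : E ≤ K) (hQE : Q ≤ normalizer (E : Set H))
    (h1 : ∀ x ∈ E, (orderOf x).Coprime p → ∀ z ∈ Q ⊓ pCoreOf p K, x * z = z * x)
    (h2 : pRes p E ≤ normalizer (Q : Set H) →
      ∀ x ∈ E, (orderOf x).Coprime p → ∀ u ∈ Q ⊓ pRes p E, x * u = u * x) :
    IsPGroup p E := by
  set O := pCoreOf p K with hO
  set Z := Q ⊓ O with hZ
  set E0 := pRes p E with hE0
  have hOp : IsPGroup p O := isPGroup_pCoreOf K
  have hQp : IsPGroup p Q := wc_isPGroup hwc
  have hQO : Q ≤ normalizer (O : Set H) := hQK.trans (le_normalizer_pCoreOf K)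
  have hON : O ≤ normalizer (Q : Set H) :=
    le_sup_right.trans (wc_le_normalizer hwc (Components.isPGroup_sup hQp hOp hQO) le_sup_left)
  have hE0c : E0 ≤ centralizer (Z : Set H) :=
    pRes_le_iff.mpr fun x hx hc => mem_centralizer_iff.mpr fun z hz => (h1 x hx hc z hz).symm
  have hE0K : E0 ≤ K := (pRes_le E).trans hEK
  have hE0O : E0 ≤ normalizer (O : Set H) := hE0K.trans (le_normalizer_pCoreOf K)
  have hE0Z : E0 ≤ normalizer (Z : Set H) := hE0c.trans (centralizer_le_normalizer _)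
  have hQZ : Q ≤ normalizer (Z : Set H) := fun q hq => map_conj_eq_iff.mp (by
    rw [hZ, Subgroup.map_inf _ _ _ (MulAut.conj q).injective,
      map_conj_eq_iff.mpr (le_normalizer hq), map_conj_eq_iff.mpr (hQO hq)])
  have hQst : Q ≤ stabilizerOfQuotient O Z := fun q hq => by
    refine ⟨hQO hq, hQZ hq, fun o ho => ?_⟩
    exact ⟨(le_normalizer_iff_commutator_le_left.mp hON) (commutator_mem_commutator hq ho),
      (le_normalizer_iff_commutator_le_right.mp hQO) (commutator_mem_commutator hq ho)⟩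
  set W := ⁅E0, Q⁆ with hW
  have hQE0 : Q ≤ normalizer (E0 : Set H) := le_normalizer_pRes hQE
  have hWE0 : W ≤ E0 := le_normalizer_iff_commutator_le_left.mp hQE0
  have hWst : W ≤ stabilizerOfQuotient O Z := by
    rw [hW, commutator_le]
    intro d hd q hq
    have hdq : d * q * d⁻¹ ∈ stabilizerOfQuotient O Z := by
      obtain ⟨a1, a2, a3⟩ := hQst hq
      refine ⟨mul_mem (mul_mem (hE0O hd) a1) (inv_mem (hE0O hd)),
        mul_mem (mul_mem (hE0Z hd) a2) (inv_mem (hE0Z hd)), fun o ho => ?_⟩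
      have h4 := (mem_normalizer_iff.mp (hE0Z hd) _).mp
        (a3 _ ((mem_normalizer_iff''.mp (hE0O hd) o).mp ho))
      rwa [show d * ⁅q, d⁻¹ * o * d⁆ * d⁻¹ = ⁅d * q * d⁻¹, o⁆ by
        simp only [commutatorElement_def]; group] at h4
    rw [show ⁅d, q⁆ = d * q * d⁻¹ * q⁻¹ by rw [commutatorElement_def]]
    exact mul_mem hdq (inv_mem (hQst hq))
  have hWp : IsPGroup p W := isPGroup_of_forall_coprime fun w hw hc => by
    refine eq_one_of_coprime_of_mem_pGroup hOp (hK w (hE0K (hWE0 hw)) ?_) hc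
    refine mem_centralizer_iff.mpr fun o ho => ?_
    have h3 : ⁅o⁻¹, w⁆ ∈ Z := by
      have := inv_mem ((hWst hw).2.2 _ (inv_mem ho))
      rwa [commutatorElement_inv] at this
    exact (commute_of_commutator_fix hOp hc h3.2
      (mem_centralizer_iff.mp (hE0c (hWE0 hw)) _ h3).symm).symm
  have hE0Q : E0 ≤ normalizer (Q : Set H) := by
    have hP : IsPGroup p ↥(Q ⊔ W) :=
      Components.isPGroup_sup hQp hWp (normalizer_commutator_ge_right E0 Q)
    refine le_trans ?_ (wc_normalizer_le hwc hP le_sup_left)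
    rw [le_normalizer_iff_map_le]
    intro d hd
    rw [Subgroup.map_sup]
    refine sup_le ?_ ((map_conj_eq_iff.mpr (normalizer_commutator_ge_left E0 Q hd)).le.trans
      le_sup_right)
    rintro _ ⟨q, hq, rfl⟩
    show d * q * d⁻¹ ∈ _
    rw [show d * q * d⁻¹ = ⁅d, q⁆ * q by simp [commutatorElement_def]]
    exact mul_mem (mem_sup_right (commutator_mem_commutator hd hq)) (mem_sup_left hq)
  refine isPGroup_of_forall_coprime fun x hx hc => ?_
  have hx0 : x ∈ E0 := mem_pRes hx hc
  refine eq_one_of_coprime_of_mem_pGroup hQp (hCQ (mem_centralizer_iff.mpr fun q hq => ?_)) hc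
  have h5 : ⁅q⁻¹, x⁆ ∈ Q ⊓ E0 :=
    ⟨(le_normalizer_iff_commutator_le_left.mp hE0Q) (commutator_mem_commutator (inv_mem hq) hx0),
      (le_normalizer_iff_commutator_le_right.mp hQE0) (commutator_mem_commutator (inv_mem hq) hx0)⟩
  exact (commute_of_commutator_fix hQp hc h5.1 (h2 hE0Q x hx hc _ h5)).symm

theorem centralizer_pCore_le_iff {L : Subgroup H} :
    (centralizer (pCore p ↥L : Set ↥L) ≤ pCore p ↥L) ↔
      ∀ x ∈ L, x ∈ centralizer (pCoreOf p L : Set H) → x ∈ pCoreOf p L := by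
  constructor
  · intro h x hx hxc
    refine (mem_pCoreOf hx).mpr (h (mem_centralizer_iff.mpr fun y hy => Subtype.ext ?_))
    exact mem_centralizer_iff.mp hxc y ⟨y, hy, rfl⟩
  · intro h x hx
    refine (mem_pCoreOf x.2).mp (h x x.2 (mem_centralizer_iff.mpr ?_))
    rintro _ ⟨y, hy, rfl⟩
    exact congrArg Subtype.val (mem_centralizer_iff.mp hx y hy)

theorem pCoreOf_inf_centralizer_le {L : Subgroup H} :
    pCoreOf p (L ⊓ centralizer (pCoreOf p L : Set H)) ≤ pCoreOf p L :=
  pCoreOf_le_pCoreOf_of_normal inf_le_left fun g hg => map_conj_eq_iff.mp (by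
    rw [Subgroup.map_inf _ _ _ (MulAut.conj g).injective, map_conj_eq_iff.mpr (le_normalizer hg)]
    congr 1
    exact (LocalEven.cj_centralizer g _).trans
      (by rw [show cj g (pCoreOf p L) = pCoreOf p L from
        map_conj_eq_iff.mpr (le_normalizer_pCoreOf L hg)]))

theorem le_normalizer_centralizer {X P : Subgroup H} (h : X ≤ normalizer (P : Set H)) :
    X ≤ normalizer (centralizer (P : Set H) : Set H) := fun g hg => map_conj_eq_iff.mp
  ((LocalEven.cj_centralizer g _).trans (by rw [show cj g P = P from map_conj_eq_iff.mpr (h hg)]))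

/-- The centraliser of `O_p(L)` for `Q ≤ L`, inside a characteristic `p` subgroup `K`. -/
theorem wc_centralizer_pCoreOf (hwc : IsWeaklyClosedSubgroup p Q)
    (hCQ : centralizer (Q : Set H) ≤ Q) {L : Subgroup H} (hQL : Q ≤ L) {K : Subgroup H}
    (hK : ∀ x ∈ K, x ∈ centralizer (pCoreOf p K : Set H) → x ∈ pCoreOf p K) (hQK : Q ≤ K)
    (hCK : centralizer (pCoreOf p L : Set H) ≤ K) :
    ⁅Q, centralizer (pCoreOf p L : Set H)⁆ ≤ Q ⊓ pCoreOf p L ∧
      IsPGroup p ↥(centralizer (pCoreOf p L : Set H)) ∧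
      (∀ x ∈ L, x ∈ centralizer (pCoreOf p L : Set H) → x ∈ pCoreOf p L) := by
  set P := pCoreOf p L with hP
  set C := centralizer (P : Set H) with hC
  set O := pCoreOf p K with hOdef
  set D := L ⊓ C with hD
  have hQp : IsPGroup p Q := wc_isPGroup hwc
  have hPp : IsPGroup p P := isPGroup_pCoreOf L
  have hLP : L ≤ normalizer (P : Set H) := le_normalizer_pCoreOf L
  have hLC : L ≤ normalizer (C : Set H) := le_normalizer_centralizer hLP
  have hQC : Q ≤ normalizer (C : Set H) := hQL.trans hLC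
  have hOp : IsPGroup p O := isPGroup_pCoreOf K
  have hQO : Q ≤ normalizer (O : Set H) := hQK.trans (le_normalizer_pCoreOf K)
  have hCO : C ≤ normalizer (O : Set H) := hCK.trans (le_normalizer_pCoreOf K)
  have hLD : L ≤ normalizer (D : Set H) := fun g hg => map_conj_eq_iff.mp (by
    rw [hD, Subgroup.map_inf _ _ _ (MulAut.conj g).injective,
      map_conj_eq_iff.mpr (le_normalizer hg), map_conj_eq_iff.mpr (hLC hg)])
  have hsmall : ∀ X : Subgroup H, X ≤ D → IsPGroup p X → D ≤ normalizer (X : Set H) → X ≤ P :=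
    fun X hX hXp hXn => (le_pCoreOf hX hXn hXp).trans pCoreOf_inf_centralizer_le
  -- `C_L(P)` is a `p`-group
  have hDp : IsPGroup p D := by
    refine isPGroup_of_wc hwc hCQ hK hQK (inf_le_right.trans hCK) (hQL.trans hLD) ?_ ?_
    · intro x hx hc z hz
      have h1 : ⁅z⁻¹, x⁆ ∈ O ⊓ D := ⟨(le_normalizer_iff_commutator_le_left.mp
          (inf_le_right.trans hCO : D ≤ normalizer (O : Set H)))
          (commutator_mem_commutator (inv_mem hz.2) hx),
        (le_normalizer_iff_commutator_le_right.mp (hQL.trans hLD))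
          (commutator_mem_commutator (inv_mem hz.1) hx)⟩
      have h2 : O ⊓ D ≤ P := hsmall _ inf_le_right (hOp.to_le inf_le_left) fun g hg =>
        map_conj_eq_iff.mp (by
          rw [Subgroup.map_inf _ _ _ (MulAut.conj g).injective,
            map_conj_eq_iff.mpr (le_normalizer hg), map_conj_eq_iff.mpr (hCO hg.2)])
      exact commute_of_commutator_fix hOp hc h1.1 (mem_centralizer_iff.mp hx.2 _ (h2 h1)).symm
    · intro hN x hx hc u hu
      have h2 : Q ⊓ pRes p D ≤ P := by
        have h3 : Q ⊓ pRes p D ≤ pCoreOf p (pRes p D) := le_pCoreOf inf_le_right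
          (fun g hg => map_conj_eq_iff.mp (by
            rw [Subgroup.map_inf _ _ _ (MulAut.conj g).injective,
              map_conj_eq_iff.mpr (le_normalizer hg), map_conj_eq_iff.mpr (hN hg)]))
          (hQp.to_le inf_le_left)
        exact h3.trans ((pCoreOf_le_pCoreOf_of_normal (pRes_le D) (le_normalizer_pRes_self D)).trans
          pCoreOf_inf_centralizer_le)
      exact (mem_centralizer_iff.mp hx.2 _ (h2 hu)).symm
  have hDP : D ≤ P := hsmall D le_rfl hDp le_normalizer
  have hQCP : Q ⊓ C ≤ P := fun x hx => hDP ⟨hQL hx.1, hx.2⟩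
  have hNp : IsPGroup p ↥(C ⊓ normalizer (Q : Set H)) := isPGroup_of_forall_coprime fun x hx hc => by
    refine eq_one_of_coprime_of_mem_pGroup hQp (hCQ (mem_centralizer_iff.mpr fun q hq => ?_)) hc
    have h5 : ⁅q⁻¹, x⁆ ∈ Q ⊓ C :=
      ⟨(le_normalizer_iff_commutator_le_left.mp (inf_le_right : C ⊓ normalizer (Q : Set H) ≤ _))
          (commutator_mem_commutator (inv_mem hq) hx),
        (le_normalizer_iff_commutator_le_right.mp hQC)
          (commutator_mem_commutator (inv_mem hq) hx.1)⟩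
    exact (commute_of_commutator_fix hQp hc h5.1
      (mem_centralizer_iff.mp hx.1 _ (hQCP h5)).symm).symm
  set W := ⁅C, Q⁆ with hW
  have hWC : W ≤ C := le_normalizer_iff_commutator_le_left.mp hQC
  have hWp : IsPGroup p W := by
    -- `W` acts trivially on `(O ∩ C) / (Q ∩ C)`
    set V := O ⊓ C with hV
    set U := Q ⊓ C with hU
    have hCU : C ≤ centralizer (U : Set H) := fun c hc => mem_centralizer_iff.mpr fun u hu =>
      mem_centralizer_iff.mp hc u (hQCP hu)
    have hCVn : C ≤ normalizer (V : Set H) := fun g hg => map_conj_eq_iff.mp (by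
      rw [hV, Subgroup.map_inf _ _ _ (MulAut.conj g).injective,
        map_conj_eq_iff.mpr (le_normalizer hg), map_conj_eq_iff.mpr (hCO hg)])
    have hQVn : Q ≤ normalizer (V : Set H) := fun g hg => map_conj_eq_iff.mp (by
      rw [hV, Subgroup.map_inf _ _ _ (MulAut.conj g).injective,
        map_conj_eq_iff.mpr (hQO hg), map_conj_eq_iff.mpr (hQC hg)])
    have hON : O ≤ normalizer (Q : Set H) :=
      le_sup_right.trans (wc_le_normalizer hwc (Components.isPGroup_sup hQp hOp hQO) le_sup_left)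
    have hQUn : Q ≤ normalizer (U : Set H) := fun g hg => map_conj_eq_iff.mp (by
      rw [hU, Subgroup.map_inf _ _ _ (MulAut.conj g).injective,
        map_conj_eq_iff.mpr (le_normalizer hg), map_conj_eq_iff.mpr (hQC hg)])
    have hQst : Q ≤ stabilizerOfQuotient V U := fun q hq => by
      refine ⟨hQVn hq, hQUn hq, fun o ho => ?_⟩
      exact ⟨(le_normalizer_iff_commutator_le_left.mp
          (inf_le_left.trans hON : V ≤ normalizer (Q : Set H))) (commutator_mem_commutator hq ho),
        (le_normalizer_iff_commutator_le_right.mp hQC) (commutator_mem_commutator hq ho.2)⟩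
    have hCUn : C ≤ normalizer (U : Set H) := hCU.trans (centralizer_le_normalizer _)
    have hWst : W ≤ stabilizerOfQuotient V U := by
      rw [hW, commutator_le]
      intro d hd q hq
      have hdq : d * q * d⁻¹ ∈ stabilizerOfQuotient V U := by
        obtain ⟨a1, a2, a3⟩ := hQst hq
        refine ⟨mul_mem (mul_mem (hCVn hd) a1) (inv_mem (hCVn hd)),
          mul_mem (mul_mem (hCUn hd) a2) (inv_mem (hCUn hd)), fun o ho => ?_⟩
        have h4 := (mem_normalizer_iff.mp (hCUn hd) _).mp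
          (a3 _ ((mem_normalizer_iff''.mp (hCVn hd) o).mp ho))
        rwa [show d * ⁅q, d⁻¹ * o * d⁆ * d⁻¹ = ⁅d * q * d⁻¹, o⁆ by
          simp only [commutatorElement_def]; group] at h4
      rw [show ⁅d, q⁆ = d * q * d⁻¹ * q⁻¹ by rw [commutatorElement_def]]
      exact mul_mem hdq (inv_mem (hQst hq))
    refine isPGroup_of_wc hwc hCQ hK hQK (hWC.trans hCK) (normalizer_commutator_ge_right C Q) ?_ ?_
    · intro w hw hc z hz
      have hVw : ∀ v ∈ V, w * v = v * w := fun v hv => by
        have h3 : ⁅v⁻¹, w⁆ ∈ U := by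
          have := inv_mem ((hWst hw).2.2 _ (inv_mem hv))
          rwa [commutatorElement_inv] at this
        exact commute_of_commutator_fix hQp hc h3.1
          (mem_centralizer_iff.mp (hCU (hWC hw)) _ h3).symm
      have h1 : ⁅z⁻¹, w⁆ ∈ V := ⟨(le_normalizer_iff_commutator_le_left.mp
          (hWC.trans hCO)) (commutator_mem_commutator (inv_mem hz.2) hw),
        hWC ((le_normalizer_iff_commutator_le_right.mp (normalizer_commutator_ge_right C Q))
          (commutator_mem_commutator (inv_mem hz.1) hw))⟩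
      exact commute_of_commutator_fix hOp hc h1.1 (hVw _ h1)
    · intro _ x hx _ u hu
      exact (mem_centralizer_iff.mp (hWC hx) _ (hQCP ⟨hu.1, hWC (pRes_le W hu.2)⟩)).symm
  have hCN : C ≤ normalizer (Q : Set H) := by
    refine le_trans ?_ (wc_normalizer_le hwc
      (Components.isPGroup_sup hQp hWp (normalizer_commutator_ge_right C Q)) le_sup_left)
    rw [le_normalizer_iff_map_le]
    intro d hd
    rw [Subgroup.map_sup]
    refine sup_le ?_ ((map_conj_eq_iff.mpr (normalizer_commutator_ge_left C Q hd)).le.trans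
      le_sup_right)
    rintro _ ⟨q, hq, rfl⟩
    show d * q * d⁻¹ ∈ _
    rw [show d * q * d⁻¹ = ⁅d, q⁆ * q by simp [commutatorElement_def]]
    exact mul_mem (mem_sup_right (commutator_mem_commutator hd hq)) (mem_sup_left hq)
  refine ⟨le_inf (le_normalizer_iff_commutator_le_left.mp hCN) ?_,
    hNp.to_le (le_inf le_rfl hCN), fun x hx hxc => hDP ⟨hx, hxc⟩⟩
  exact (le_inf (le_normalizer_iff_commutator_le_left.mp hCN)
    (le_normalizer_iff_commutator_le_right.mp hQC)).trans hQCP

/-! ### Large subgroups -/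

theorem large_wc (hL : IsLarge Q) (hQp : IsPGroup p Q) (hQ1 : Q ≠ ⊥) :
    IsWeaklyClosedSubgroup p Q := by
  refine wc_of_normalizer_le hQp fun R hR hQR => ?_
  obtain ⟨z, hzR, hzc, hz1⟩ := exists_ne_one_centralized hR hR le_normalizer
    (fun h => hQ1 (le_bot_iff.mp (hQR.trans h.le)))
  refine le_trans ?_ (hL.2 (R ⊓ centralizer (R : Set H))
    (inf_le_right.trans (centralizer_le (SetLike.coe_subset_coe.mpr hQR)))
    fun h => hz1 (mem_bot.mp (h ▸ ⟨hzR, hzc⟩)))
  exact fun g hg => map_conj_eq_iff.mp (by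
    rw [Subgroup.map_inf _ _ _ (MulAut.conj g).injective, map_conj_eq_iff.mpr hg]
    congr 1
    exact (LocalEven.cj_centralizer g _).trans
      (by rw [show cj g R = R from map_conj_eq_iff.mpr hg]))

theorem large_conj (hL : IsLarge Q) (g : H) : IsLarge (Q.map (MulAut.conj g).toMonoidHom) := by
  have hc : ∀ (g : H) (X : Subgroup H), (centralizer (X : Set H)).map (MulAut.conj g).toMonoidHom =
      centralizer ((X.map (MulAut.conj g).toMonoidHom : Subgroup H) : Set H) := fun g X =>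
    LocalEven.cj_centralizer g X
  refine ⟨(hc g Q).ge.trans (map_mono hL.1), fun U hU hU1 => ?_⟩
  have h2 := hL.2 (U.map (MulAut.conj g⁻¹).toMonoidHom) ?_
    (fun h => hU1 ((map_eq_bot_iff_of_injective _ (MulAut.conj g⁻¹).injective).mp h))
  · intro n hn
    have h3 : g⁻¹ * n * g ∈ normalizer (Q : Set H) := h2 (map_conj_eq_iff.mp (by
      rw [map_conj_conj, mul_inv_cancel_right, ← map_conj_conj g⁻¹ n U, map_conj_eq_iff.mpr hn]))
    refine map_conj_eq_iff.mp ?_
    rw [map_conj_conj, show n * g = g * (g⁻¹ * n * g) by group, ← map_conj_conj,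
      map_conj_eq_iff.mpr h3]
  · refine (map_mono hU).trans ?_
    rw [hc, map_conj_inv_conj]

/-- `C(y) ≤ N(Q)` for a nontrivial element centralising `Q`. -/
theorem large_centralizer_le (hL : IsLarge Q) {Y : Subgroup H} (hQp : IsPGroup p Q)
    (hYp : IsPGroup p Y) (hY : Y ≠ ⊥) (hQY : Q ≤ normalizer (Y : Set H)) :
    centralizer (Y : Set H) ≤ normalizer (Q : Set H) := by
  obtain ⟨y, hyY, hyQ, hy1⟩ := exists_ne_one_centralized hQp hYp hQY hY
  refine le_trans ?_ (hL.2 (zpowers y) (zpowers_le.mpr hyQ) (zpowers_ne_bot.mpr hy1))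
  exact (centralizer_le (SetLike.coe_subset_coe.mpr (zpowers_le.mpr hyY))).trans
    (centralizer_le_normalizer _)

theorem large_pCoreOf (hL : IsLarge Q) (hQp : IsPGroup p Q) (hQ1 : Q ≠ ⊥) {L : Subgroup H}
    (hQL : Q ≤ L) (hO : pCoreOf p L ≠ ⊥) :
    IsPGroup p ↥(centralizer (pCoreOf p L : Set H)) ∧
      ∀ x ∈ L, x ∈ centralizer (pCoreOf p L : Set H) → x ∈ pCoreOf p L := by
  obtain ⟨y, hyP, hyQ, hy1⟩ := exists_ne_one_centralized hQp (isPGroup_pCoreOf L)
    (hQL.trans (le_normalizer_pCoreOf L)) hO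
  have hKN : centralizer ({y} : Set H) ≤ normalizer (Q : Set H) := by
    refine le_trans ?_ (hL.2 (zpowers y) (zpowers_le.mpr hyQ) (zpowers_ne_bot.mpr hy1))
    intro x hx
    refine centralizer_le_normalizer _ (mem_centralizer_iff.mpr fun z hz => ?_)
    obtain ⟨n, rfl⟩ := mem_zpowers_iff.mp hz
    exact (Commute.zpow_right (mem_centralizer_singleton_iff.mp hx : Commute x y) n).eq.symm
  have hQK : Q ≤ centralizer ({y} : Set H) := fun q hq =>
    mem_centralizer_singleton_iff.mpr (mem_centralizer_iff.mp hyQ q hq)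
  have hQO : Q ≤ pCoreOf p (centralizer ({y} : Set H)) := le_pCoreOf hQK hKN hQp
  have h := wc_centralizer_pCoreOf (large_wc hL hQp hQ1) hL.1 hQL
    (K := centralizer ({y} : Set H)) ?_ hQK ?_
  · exact ⟨h.2.1, h.2.2⟩
  · intro x _ hx
    exact hQO (hL.1 (centralizer_le (SetLike.coe_subset_coe.mpr hQO) hx))
  · exact centralizer_le (Set.singleton_subset_iff.mpr hyP)

end CfsgLib.LocalStr
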