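import Cfsg.Agent.Lib.LocalStr.Irreducible
import Cfsg.Agent.Lib.LocalStr.Large
import Cfsg.Agent.Lib.LocalEven.Kieler
import Mathlib.Tactic.Group

/-!
# Weak closure of `O_p(M)` from asymmetry of `Y_M`

An abstract pair `Y ≤ P`: if any two conjugates of `Y` normalising each other commute, `P` is a
maximal `p`-subgroup of the centraliser of `Y`, and `N(P)`-invariant `p`-subgroups have their
normalisers inside `N(Y)`, then every `p`-group containing `P` normalises `P`.
-/

set_option autoImplicit false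
set_option linter.style.haveILetI false

namespace CfsgLib.LocalStr

open Subgroup Cfsg
open CfsgLib.LocalEven (cj cj_cj cj_one cj_le_cj cj_centralizer mem_normalizer_iff_cj card_cj)

variable {G : Type*} [Group G]

theorem cj_le_normalizer {X Z : Subgroup G} (g : G) (h : X ≤ normalizer (Z : Set G)) :
    cj g X ≤ normalizer (cj g Z : Set G) :=
  (map_mono h).trans (le_normalizer_map _)

theorem cj_inv_cancel (g : G) (X : Subgroup G) : cj g⁻¹ (cj g X) = X := by
  rw [cj_cj, inv_mul_cancel, cj_one]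

theorem cj_cancel_inv (g : G) (X : Subgroup G) : cj g (cj g⁻¹ X) = X := by
  rw [cj_cj, mul_inv_cancel, cj_one]

theorem cj_eq_self {g : G} {X : Subgroup G} (h : g ∈ normalizer (X : Set G)) : cj g X = X :=
  mem_normalizer_iff_cj.1 h

theorem mem_normalizer_of_cj_le [Finite G] {g : G} {X : Subgroup G} (h : cj g X ≤ X) :
    g ∈ normalizer (X : Set G) :=
  mem_normalizer_iff_cj.2 (eq_of_le_of_card_ge h (card_cj g X).ge)

theorem le_normalizer_sup' {X A B : Subgroup G} (hA : X ≤ normalizer (A : Set G))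
    (hB : X ≤ normalizer (B : Set G)) : X ≤ normalizer ((A ⊔ B : Subgroup G) : Set G) :=
  fun g hg => mem_normalizer_iff_cj.2 (by
    rw [cj, Subgroup.map_sup]
    exact congr_arg₂ (· ⊔ ·) (cj_eq_self (hA hg)) (cj_eq_self (hB hg)))

theorem conj_fix {z v : G} {A : Subgroup G} (hz : z ∈ centralizer (A : Set G)) (hv : v ∈ A) :
    z * v * z⁻¹ = v := by rw [← hz v hv, mul_inv_cancel_right]

theorem exists_growth [Finite G] {p : ℕ} [Fact p.Prime] {A B : Subgroup G} (hB : IsPGroup p B)
    (hAB : A ≤ B) (h : ¬ B ≤ A) : ∃ x ∈ B, x ∉ A ∧ x ∈ normalizer (A : Set G) := by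
  haveI := hB.isNilpotent
  have hlt : A.subgroupOf B < ⊤ := lt_top_iff_ne_top.mpr fun e => h (subgroupOf_eq_top.mp e)
  obtain ⟨x, hx, hx'⟩ := SetLike.exists_of_lt (Group.normalizerCondition_of_isNilpotent _ hlt)
  refine ⟨x, x.2, hx', ?_⟩
  have h1 : (x : G) ∈ (normalizer ((A.subgroupOf B : Subgroup B) : Set B)).map B.subtype :=
    ⟨x, hx, rfl⟩
  have h2 := le_normalizer_map B.subtype h1
  rwa [map_subgroupOf_eq_of_le hAB] at h2

/-- Two conjugates of `P` normalising each other. -/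
def AdjC (P : Subgroup G) (a b : G) : Prop :=
  cj a P ≤ normalizer (cj b P : Set G) ∧ cj b P ≤ normalizer (cj a P : Set G)

/-- Paths in the graph of mutually normalising conjugates. -/
def PathC (P : Subgroup G) : ℕ → G → G → Prop
  | 0, a, b => a = b
  | n + 1, a, b => ∃ c, PathC P n a c ∧ AdjC P c b

theorem pathC_cons {P : Subgroup G} {a b : G} (h : AdjC P a b) :
    ∀ {n : ℕ} {c : G}, PathC P n b c → PathC P (n + 1) a c := by
  intro n
  induction n with
  | zero => intro c hc; exact ⟨a, rfl, (show b = c from hc) ▸ h⟩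
  | succ n ih => rintro c ⟨d, hd, hdc⟩; exact ⟨d, ih hd, hdc⟩

theorem pathC_head {P : Subgroup G} :
    ∀ {n : ℕ} {a d : G}, PathC P (n + 1) a d → ∃ b, AdjC P a b ∧ PathC P n b d := by
  intro n
  induction n with
  | zero => rintro a d ⟨c, rfl, hcd⟩; exact ⟨d, hcd, rfl⟩
  | succ n ih =>
    rintro a d ⟨c, hc, hcd⟩
    obtain ⟨b, hb, hbc⟩ := ih hc
    exact ⟨b, hb, c, hbc, hcd⟩

theorem pathC_symm {P : Subgroup G} : ∀ {n : ℕ} {a b : G}, PathC P n a b → PathC P n b a := by
  intro n
  induction n with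
  | zero => intro a b h; exact (show a = b from h).symm
  | succ n ih => rintro a b ⟨c, hc, hcb⟩; exact pathC_cons hcb.symm (ih hc)

theorem pathC_mul {P : Subgroup G} (m : G) :
    ∀ {n : ℕ} {a b : G}, PathC P n a b → PathC P n (m * a) (m * b) := by
  intro n
  induction n with
  | zero => intro a b h; exact congrArg (m * ·) h
  | succ n ih =>
    rintro a b ⟨c, hc, h1, h2⟩
    have h1' := cj_le_normalizer m h1
    have h2' := cj_le_normalizer m h2
    rw [cj_cj, cj_cj] at h1' h2'
    exact ⟨m * c, ih hc, h1', h2'⟩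

/-- The hypotheses on the pair `Y ≤ P`. -/
structure AsymBase (p : ℕ) (Y P : Subgroup G) : Prop where
  Pp : IsPGroup p P
  YP : Y ≤ P
  NPY : normalizer (P : Set G) ≤ normalizer (Y : Set G)
  PC : P ≤ centralizer (Y : Set G)
  Pmax : ∀ R : Subgroup G, IsPGroup p R → R ≤ centralizer (Y : Set G) → P ≤ R → R = P
  asym : ∀ g : G, Y ≤ normalizer (cj g Y : Set G) → cj g Y ≤ normalizer (Y : Set G) →
    Y ≤ centralizer (cj g Y : Set G)
  loc : ∀ R : Subgroup G, R ≠ ⊥ → IsPGroup p R →
    normalizer (P : Set G) ≤ normalizer (R : Set G) → normalizer (R : Set G) ≤ normalizer (Y : Set G)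
  Yne : Y ≠ ⊥

variable [Finite G] {p : ℕ} [Fact p.Prime] {Y P : Subgroup G}

theorem AsymBase.asym₂ (hb : AsymBase p Y P) {a b : G}
    (h1 : cj a Y ≤ normalizer (cj b Y : Set G)) (h2 : cj b Y ≤ normalizer (cj a Y : Set G)) :
    cj a Y ≤ centralizer (cj b Y : Set G) := by
  have h1' := cj_le_normalizer a⁻¹ h1
  have h2' := cj_le_normalizer a⁻¹ h2
  rw [cj_inv_cancel, cj_cj] at h1' h2'
  have h3 := cj_le_cj (g := a) (hb.asym _ h1' h2')
  rwa [cj_centralizer, cj_cj, mul_inv_cancel_left] at h3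

theorem AsymBase.Pmax' (hb : AsymBase p Y P) {d : G} {R : Subgroup G} (hR : IsPGroup p R)
    (hRC : R ≤ centralizer (cj d Y : Set G)) (hPR : cj d P ≤ R) : R = cj d P := by
  have h1 := cj_le_cj (g := d⁻¹) hRC
  have h2 := cj_le_cj (g := d⁻¹) hPR
  rw [cj_centralizer, cj_inv_cancel] at h1
  rw [cj_inv_cancel] at h2
  rw [← hb.Pmax _ (hR.map _) h1 h2]
  exact (cj_cancel_inv d R).symm

theorem AsymBase.path_le (hb : AsymBase p Y P) :
    ∀ {n : ℕ} {a d : G}, PathC P n a d → cj a Y ≤ cj d P := by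
  intro n
  induction n with
  | zero => intro a d h; rw [show a = d from h]; exact cj_le_cj hb.YP
  | succ n ih =>
    intro a d h
    obtain ⟨b, hab, hbd⟩ := pathC_head h
    obtain ⟨c, hc, hcd⟩ := h
    have hN : ∀ e : G, normalizer (cj e P : Set G) ≤ normalizer (cj e Y : Set G) := fun e x hx => by
      have h3 := cj_eq_self hx
      rw [cj_cj] at h3
      have h4 : e⁻¹ * x * e ∈ normalizer (P : Set G) := mem_normalizer_iff_cj.2 (by
        rw [mul_assoc, ← cj_cj, h3, cj_inv_cancel])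
      refine mem_normalizer_iff_cj.2 ?_
      conv_rhs => rw [← cj_eq_self (hb.NPY h4)]
      rw [cj_cj, cj_cj]
      congr 1
      group
    have h1 : cj a Y ≤ normalizer (cj d P : Set G) := (ih hc).trans hcd.1
    have h2 : cj d Y ≤ normalizer (cj a Y : Set G) :=
      ((ih (pathC_symm hbd)).trans hab.2).trans (hN a)
    have h3 := hb.asym₂ (h1.trans (hN d)) h2
    have hYp : IsPGroup p ↥(cj a Y) := (hb.Pp.to_le hb.YP).map _
    have hRC : cj a Y ⊔ cj d P ≤ centralizer (cj d Y : Set G) :=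
      sup_le h3 (by have := cj_le_cj (g := d) hb.PC; rwa [cj_centralizer] at this)
    exact le_sup_left.trans
      (hb.Pmax' (Components.isPGroup_sup hYp (hb.Pp.map _) h1) hRC le_sup_right).le

theorem AsymBase.mem_normalizer_of_adj (hb : AsymBase p Y P) {t : G}
    (h1 : P ≤ normalizer (cj t P : Set G)) (h2 : cj t P ≤ normalizer (P : Set G)) :
    t ∈ normalizer (P : Set G) := by
  have hN : ∀ a ∈ normalizer (P : Set G), cj a P = P := fun a ha => cj_eq_self ha
  let S := {g : G // ∃ n : ℕ, ∃ a ∈ normalizer (P : Set G), PathC P n a g}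
  set R := ⨆ g : S, cj (g : G) Y with hR
  have hRP : R ≤ P := iSup_le fun g => by
    obtain ⟨n, a, ha, hp⟩ := g.2
    exact (hb.path_le (pathC_symm hp)).trans (hN a ha).le
  have hYR : Y ≤ R := le_iSup_of_le (⟨1, 0, 1, one_mem _, rfl⟩ : S) (cj_one Y).ge
  have hinv : ∀ m : G, (∀ g : S, ∃ g' : S, (g' : G) = m * g) →
      m ∈ normalizer (R : Set G) := fun m hm => by
    refine mem_normalizer_of_cj_le ?_
    rw [hR, cj, Subgroup.map_iSup]
    refine iSup_le fun g => ?_
    obtain ⟨g', hg'⟩ := hm g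
    refine le_iSup_of_le g' ?_
    rw [hg']
    exact (cj_cj m _ Y).le
  have hPR : normalizer (P : Set G) ≤ normalizer (R : Set G) := fun m hm => hinv m fun g => by
    obtain ⟨n, a, ha, hp⟩ := g.2
    exact ⟨⟨m * g, n, m * a, mul_mem hm ha, pathC_mul m hp⟩, rfl⟩
  have htR : t ∈ normalizer (R : Set G) := hinv t fun g => by
    obtain ⟨n, a, ha, hp⟩ := g.2
    refine ⟨⟨t * g, n + 1, 1, one_mem _, pathC_cons ?_ (pathC_mul t hp)⟩, rfl⟩
    unfold AdjC
    rw [cj_one, ← cj_cj, hN a ha]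
    exact ⟨h1, h2⟩
  have htY : t ∈ normalizer (Y : Set G) :=
    hb.loc R (fun e => hb.Yne (le_bot_iff.mp (hYR.trans e.le))) (hb.Pp.to_le hRP) hPR htR
  have hC : cj t P ≤ centralizer (Y : Set G) := by
    have := cj_le_cj (g := t) hb.PC
    rwa [cj_centralizer, cj_eq_self htY] at this
  have h3 := hb.Pmax _ (Components.isPGroup_sup (hb.Pp.map _) hb.Pp h2) (sup_le hC hb.PC)
    le_sup_right
  exact mem_normalizer_of_cj_le (le_sup_left.trans h3.le)

/-- Every `p`-group containing `P` normalises `P`. -/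
theorem AsymBase.le_normalizer_of_ge (hb : AsymBase p Y P) {T : Subgroup G} (hT : IsPGroup p T)
    (hPT : P ≤ T) : T ≤ normalizer (P : Set G) := by
  by_contra h
  set T1 := T ⊓ normalizer (P : Set G) with hT1
  have hne : ¬ T ≤ T1 := fun e => h (e.trans inf_le_right)
  obtain ⟨x, hxT, hx1, hxN⟩ := exists_growth hT inf_le_left hne
  have hP1 : P ≤ T1 := le_inf hPT le_normalizer
  have h1 : cj x⁻¹ P ≤ normalizer (P : Set G) :=
    ((cj_le_cj hP1).trans (cj_eq_self (inv_mem hxN)).le).trans inf_le_right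
  have h2 := cj_le_normalizer x h1
  rw [cj_cancel_inv] at h2
  exact hx1 ⟨hxT, hb.mem_normalizer_of_adj h2
    (((cj_le_cj hP1).trans (cj_eq_self hxN).le).trans inf_le_right)⟩

/-- Conjugates of `P` are normalised by the `p`-groups containing them. -/
theorem AsymBase.le_normalizer_cj (hb : AsymBase p Y P) {T : Subgroup G} (hT : IsPGroup p T)
    {x : G} (hPT : cj x P ≤ T) : T ≤ normalizer (cj x P : Set G) := by
  have h1 := cj_le_cj (g := x⁻¹) hPT
  rw [cj_inv_cancel] at h1
  have h2 := cj_le_normalizer x (hb.le_normalizer_of_ge (hT.map _) h1)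
  rwa [cj_cancel_inv] at h2

end CfsgLib.LocalStr
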