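import Cfsg.Agent.Lib.LocalStr.AsymL

/-!
# Consequences of `AsymL.star`
-/

set_option autoImplicit false
set_option linter.style.haveILetI false

namespace CfsgLib.LocalStr

open Subgroup Cfsg
open scoped commutatorElement
open CfsgLib.LocalEven (cj cj_cj cj_one cj_le_cj cj_centralizer cj_inf mem_normalizer_iff_cj
  card_cj IsSylOf le_normalizer_inf le_normalizer_centralizer' exists_isSylOf_ge)

variable {G : Type*} [Group G] [Finite G] {p : ℕ} [Fact p.Prime] {Y P U H L : Subgroup G}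

theorem AsymL.comm_of_mutual (hA : AsymL p Y P U H L) {g : G} (h1 : cj g Y ≤ normalizer (Y : Set G))
    (h2 : cj g⁻¹ Y ≤ normalizer (Y : Set G)) : Y ≤ centralizer (cj g Y : Set G) := by
  refine hA.base.asym g ?_ h1
  have := cj_le_normalizer g h2
  rwa [cj_cancel_inv] at this

/-- Every proper subgroup of `L` containing `Y` normalises `Y`. -/
theorem AsymL.le_normalizer_of_lt (hA : AsymL p Y P U H L) {X : Subgroup G} (hYX : Y ≤ X)
    (hX : X < L) : X ≤ normalizer (Y : Set G) := by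
  set A := pCoreOf p X with hAdef
  have hYA : Y ≤ A := hA.le_pCoreOf_of_lt hYX hX
  have hAN : A ≤ normalizer (Y : Set G) := by
    by_contra h
    set A0 := A ⊓ normalizer (Y : Set G) with hA0
    obtain ⟨a, haA, ha0, haN⟩ := exists_growth (isPGroup_pCoreOf (p := p) X)
      (inf_le_left : A0 ≤ A) fun e => h (e.trans inf_le_right)
    have hY0 : Y ≤ A0 := le_inf hYA le_normalizer
    exact ha0 ⟨haA, hA.star (hX.le (pCoreOf_le X haA)) (hA.comm_of_mutual
      (((cj_le_cj hY0).trans (cj_eq_self haN).le).trans inf_le_right)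
      (((cj_le_cj hY0).trans (cj_eq_self (inv_mem haN)).le).trans inf_le_right))⟩
  intro x hx
  have hxA : ∀ g ∈ X, cj g Y ≤ normalizer (Y : Set G) := fun g hg =>
    ((cj_le_cj hYA).trans (cj_eq_self (le_normalizer_pCoreOf X hg)).le).trans hAN
  exact hA.star (hX.le hx) (hA.comm_of_mutual (hxA x hx) (hxA x⁻¹ (inv_mem hx)))

theorem AsymL.inf_normalizer_lt (hA : AsymL p Y P U H L) :
    L ⊓ normalizer (Y : Set G) < L := by
  refine lt_of_le_of_ne inf_le_left fun e => ?_
  have hLN : L ≤ normalizer (Y : Set G) := e.ge.trans inf_le_right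
  exact hA.YO (le_pCoreOf hA.YL hLN hA.Yp)

theorem AsymL.isMinimalOver (hA : AsymL p Y P U H L) : IsMinimalOver (Y.subgroupOf L) := by
  obtain ⟨k, hk, hgen⟩ := hA.exists_gen
  refine ⟨?_, (L ⊓ normalizer (Y : Set G)).subgroupOf L, ⟨⟨?_, fun X hX => ?_⟩, ?_⟩, ?_⟩
  · rw [← top_le_iff]
    refine (map_le_map_iff_of_injective L.subtype_injective).mp ?_
    rw [← MonoidHom.range_eq_map, range_subtype]
    refine hgen.ge.trans (sup_le ?_ ?_)
    · exact (map_subgroupOf_eq_of_le hA.YL).ge.trans (map_mono subset_normalClosure)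
    · exact (cj_le_cj ((map_subgroupOf_eq_of_le hA.YL).ge.trans
        (map_mono subset_normalClosure))).trans
        (cj_eq_self ((map_subtype_le_normalizer normalClosure_normal) hk)).le
  · rw [Ne, subgroupOf_eq_top]
    exact fun e => hA.inf_normalizer_lt.not_ge e
  · by_contra hne
    have h1 : X.map L.subtype < L := lt_of_le_of_ne (map_subtype_le X) fun e => hne
      (map_injective L.subtype_injective
        (e.trans ((range_subtype L).symm.trans (MonoidHom.range_eq_map _))))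
    have hle : L ⊓ normalizer (Y : Set G) ≤ X.map L.subtype :=
      (map_subgroupOf_eq_of_le inf_le_left).ge.trans (map_mono hX.le)
    have h2 := hA.le_normalizer_of_lt ((le_inf hA.YL le_normalizer).trans hle) h1
    exact hX.not_ge fun y hy => ⟨y.2, h2 ⟨y, hy, rfl⟩⟩
  · exact fun y hy => ⟨y.2, le_normalizer hy⟩
  · rintro X ⟨hXc, hYX⟩
    have h1 : X.map L.subtype < L := lt_of_le_of_ne (map_subtype_le X) fun e => hXc.1
      (map_injective L.subtype_injective
        (e.trans ((range_subtype L).symm.trans (MonoidHom.range_eq_map _))))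
    have h2 := hA.le_normalizer_of_lt
      ((map_subgroupOf_eq_of_le hA.YL).ge.trans (map_mono hYX)) h1
    have h3 : X ≤ (L ⊓ normalizer (Y : Set G)).subgroupOf L :=
      fun y hy => ⟨y.2, h2 ⟨y, hy, rfl⟩⟩
    refine ((hXc.le_iff.mp h3).resolve_left fun e => ?_).symm
    rw [subgroupOf_eq_top] at e
    exact hA.inf_normalizer_lt.not_ge e

theorem AsymL.sup_conj_eq (hA : AsymL p Y P U H L) {h : G} (hL : h ∈ L)
    (hN : h ∉ normalizer (Y : Set G)) : cj h Y ⊔ P = H := by
  by_contra hne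
  set R := cj h Y ⊔ P with hR
  have hRH : R ≤ H := sup_le (map_conj_le_of_mem hA.YH (hA.LH hL)) hA.PH
  have hY : Y ≤ pCoreOf p R := hA.prop R le_sup_right (lt_of_le_of_ne hRH hne)
  have hYh : cj h Y ≤ L := map_conj_le_of_mem hA.YL hL
  set X := Y ⊔ cj h Y with hXdef
  have hX : IsPGroup p X := (Components.isPGroup_sup (hA.Yp.map _) (isPGroup_pCoreOf R)
    (le_sup_left.trans (le_normalizer_pCoreOf R))).to_le
    (sup_le (hY.trans le_sup_right) le_sup_left)
  have hXL : X < L := lt_of_le_of_ne (sup_le hA.YL hYh) fun e => hA.not_isPGroup (e ▸ hX)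
  have h1 := (le_sup_right : cj h Y ≤ X).trans (hA.le_normalizer_of_lt le_sup_left hXL)
  set X' := cj h⁻¹ X with hX'
  have hX'L : X' < L := lt_of_le_of_ne (map_conj_le_of_mem hXL.le (inv_mem hL)) fun e =>
    hA.not_isPGroup (e ▸ hX.map _)
  have hYX' : Y ≤ X' := (cj_inv_cancel h Y).ge.trans (cj_le_cj le_sup_right)
  have h2 := (cj_le_cj (le_sup_left : Y ≤ X) : cj h⁻¹ Y ≤ X').trans
    (hA.le_normalizer_of_lt hYX' hX'L)
  exact hN (hA.star hL (hA.comm_of_mutual h1 h2))

theorem AsymL.charP (hA : AsymL p Y P U H L) :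
    centralizer (pCore p ↥L : Set ↥L) ≤ pCore p ↥L := by
  obtain ⟨D, hDL, hDU, hLD, -, hUD, -, -⟩ := hA.exists_D
  rw [centralizer_pCore_le_iff]
  set C := L ⊓ centralizer (pCoreOf p L : Set G) with hC
  have hCp : IsPGroup p C := by
    refine isPGroup_of_forall_coprime fun x hx hc => ?_
    have hxD : x ∈ centralizer (D : Set G) :=
      centralizer_le (SetLike.coe_subset_coe.mpr (le_pCoreOf hDL hLD (hA.Up.to_le hDU))) hx.2
    have hxU : x ∈ centralizer (U : Set G) := by
      refine mem_centralizer_iff.mpr fun u hu =>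
        (commute_of_commutator_fix (hA.Up.to_le hDU) hc ?_ ?_).symm
      · rw [← commutatorElement_inv]; exact inv_mem (hUD x hx.1 _ (inv_mem hu))
      · refine (hxD _ ?_).symm
        rw [← commutatorElement_inv]; exact inv_mem (hUD x hx.1 _ (inv_mem hu))
    exact eq_one_of_coprime_of_mem_pGroup hA.Up (hA.CHU x (hA.LH hx.1) hxU) hc
  intro x hx hxc
  exact le_pCoreOf inf_le_left
    (le_normalizer_inf le_normalizer (le_normalizer_centralizer' (le_normalizer_pCoreOf L))) hCp
    ⟨hx, hxc⟩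

theorem AsymL.pRes_sup (hA : AsymL p Y P U H L) : pRes p L ⊔ Y = L := by
  by_contra h
  obtain ⟨T, hT, hYT⟩ := exists_isSylOf_ge (p := p) hA.Yp hA.YL
  have hTL : T < L := lt_of_le_of_ne hT.1 fun e => hA.not_isPGroup (e ▸ hT.isPGroup)
  have h1 := hA.le_normalizer_of_lt hYT hTL
  have h2 := hA.le_normalizer_of_lt le_sup_right
    (lt_of_le_of_ne (sup_le (pRes_le L) hA.YL) h)
  exact hA.inf_normalizer_lt.not_ge (le_inf le_rfl
    ((pRes_sup_of_isSylOf hT).ge.trans (sup_le (le_sup_left.trans h2) h1)))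

/-- `H`-chief pairs inside `U`. -/
def IsChiefPair (U H V W : Subgroup G) : Prop :=
  V ≤ U ∧ H ≤ normalizer (V : Set G) ∧ H ≤ normalizer (W : Set G) ∧ W < V ∧
    ∀ Z : Subgroup G, H ≤ normalizer (Z : Set G) → W ≤ Z → Z ≤ V → Z = W ∨ Z = V

theorem AsymL.not_commutator_pRes_le (hA : AsymL p Y P U H L) {V W : Subgroup G}
    (hVW : IsChiefPair U H V W) (hne : ¬ ⁅V, H⁆ ≤ W) : ¬ ⁅V, pRes p L⁆ ≤ W := by
  obtain ⟨hVU, hHV, hHW, hWV, hch⟩ := hVW
  intro hc
  have hVH : V ≤ H := hVU.trans hA.UH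
  have hVNY : V ≤ normalizer (Y : Set G) := hVU.trans hA.U_le_normalizer_one
  have hUNP : U ≤ normalizer (P : Set G) := le_sup_left.trans
    (hA.base.le_normalizer_of_ge (sup_comm P U ▸
      Components.isPGroup_sup hA.base.Pp hA.Up (hA.PH.trans hA.HU)) le_sup_right)
  have hcl : ∀ l ∈ pRes p L, ∀ v ∈ V, ⁅l, v⁆ ∈ W := fun l hl v hv => by
    rw [← commutatorElement_inv]
    exact inv_mem (hc (commutator_mem_commutator hv hl))
  set V0 := V ⊓ stabilizerOfQuotient Y W with hV0
  have hW0 : W ≤ V0 := fun w hw =>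
    ⟨hWV.le hw, hVNY (hWV.le hw), le_normalizer hw, fun y hy =>
      commutator_mem_right (hHW (hA.YH hy)) hw⟩
  have hpR : pRes p L ≤ normalizer (V0 : Set G) := fun l hl => mem_normalizer_of_cj_le (by
    rintro _ ⟨v, hv, rfl⟩
    show l * v * l⁻¹ ∈ V0
    rw [show l * v * l⁻¹ = ⁅l, v⁆ * v by simp only [commutatorElement_def]; group]
    exact mul_mem (hW0 (hcl l hl v hv.1)) hv)
  have hV0n : ∀ X : Subgroup G, X ≤ H → X ≤ normalizer (Y : Set G) →
      X ≤ normalizer (V0 : Set G) := fun X hXH hXY =>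
    le_normalizer_inf (hXH.trans hHV) (le_normalizer_stabilizerOfQuotient hXY (hXH.trans hHW))
  have hH0 : H ≤ normalizer (V0 : Set G) := hA.sup_eq.ge.trans (sup_le
    (hA.pRes_sup.ge.trans (sup_le hpR (hV0n Y hA.YH le_normalizer)))
    (hV0n P hA.PH (le_normalizer.trans hA.base.NPY)))
  have hVY : ∀ v ∈ V, ∀ y ∈ Y, ⁅y, v⁆ ∈ W := fun v hv y hy => by
    by_contra hcW
    have hcV : ⁅y, v⁆ ∈ V := commutator_mem_left (hHV (hA.YH hy)) hv
    have hcY : ⁅y, v⁆ ∈ Y := commutator_mem_right (hVNY hv) hy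
    have hc0 : ⁅y, v⁆ ∈ V0 := ⟨hcV, le_normalizer hcY, hHW (hA.YH hcY), fun y' hy' => by
      rw [commutatorElement_eq_one_iff_mul_comm.mpr (hA.Y_comm hy' _ hcY)]
      exact one_mem _⟩
    rcases hch V0 hH0 hW0 inf_le_left with e | e
    · exact hcW (e ▸ hc0)
    · refine hcW ?_
      rw [← commutatorElement_inv]
      exact inv_mem (((e.ge : V ≤ V0) hv).2.2.2 y hy)
  have hL : L ≤ stabilizerOfQuotient V W := hA.pRes_sup.ge.trans (sup_le
    (fun l hl => ⟨hHV (hA.LH (pRes_le L hl)), hHW (hA.LH (pRes_le L hl)), hcl l hl⟩)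
    (fun y hy => ⟨hHV (hA.YH hy), hHW (hA.YH hy), fun v hv => hVY v hv y hy⟩))
  set V1 := V ⊓ stabilizerOfQuotient P W with hV1
  have hW1 : W ≤ V1 := fun w hw =>
    ⟨hWV.le hw, hUNP (hVU (hWV.le hw)), le_normalizer hw, fun z hz =>
      commutator_mem_right (hHW (hA.PH hz)) hw⟩
  have hH1 : H ≤ normalizer (V1 : Set G) := hA.sup_eq.ge.trans (sup_le
    (fun l hl => mem_normalizer_of_cj_le (by
      rintro _ ⟨v, hv, rfl⟩
      show l * v * l⁻¹ ∈ V1
      rw [show l * v * l⁻¹ = ⁅l, v⁆ * v by simp only [commutatorElement_def]; group]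
      exact mul_mem (hW1 ((hL hl).2.2 v hv.1)) hv))
    (le_normalizer_inf (hA.PH.trans hHV)
      (le_normalizer_stabilizerOfQuotient le_normalizer (hA.PH.trans hHW))))
  rcases hch V1 hH1 hW1 inf_le_left with e | e
  · -- a nontrivial fixed point of `P` on `V / W`
    set T := V ⊔ P with hT
    have hTH : T ≤ H := sup_le hVH hA.PH
    have hTp : IsPGroup p T :=
      by rw [hT, sup_comm]; exact Components.isPGroup_sup hA.base.Pp (hA.Up.to_le hVU) (hA.PH.trans hHV)
    haveI : (W.subgroupOf T).Normal := subgroupOf_normal (hTH.trans hHW)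
    haveI : (V.subgroupOf T).Normal := subgroupOf_normal (hTH.trans hHV)
    set π := QuotientGroup.mk' (W.subgroupOf T) with hπ
    haveI : ((V.subgroupOf T).map π).Normal :=
      Normal.map inferInstance π (QuotientGroup.mk'_surjective _)
    have hN : (V.subgroupOf T).map π ≠ ⊥ := fun h0 => hWV.not_ge fun v hv => by
      have : π ⟨v, mem_sup_left hv⟩ ∈ (V.subgroupOf T).map π := ⟨_, hv, rfl⟩
      rw [h0, mem_bot, hπ, QuotientGroup.mk'_apply, QuotientGroup.eq_one_iff] at this
      exact this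
    obtain ⟨q, ⟨⟨v, hv, rfl⟩, hqc⟩, hq1⟩ :=
      Solvable.exists_ne_one_mem_inf_center_of_normal (hTp.to_quotient (W.subgroupOf T)) hN
    refine hq1 ?_
    rw [hπ, QuotientGroup.mk'_apply, QuotientGroup.eq_one_iff]
    show (v : G) ∈ W
    rw [← e]
    refine ⟨hv, hUNP (hVU hv), hHW (hTH v.2), fun z hz => ?_⟩
    have h1 : π ⁅v, ⟨z, mem_sup_right hz⟩⁆ = 1 := by
      rw [map_commutatorElement, commutatorElement_eq_one_iff_mul_comm]
      exact ((mem_center_iff.mp hqc) _).symm
    rw [hπ, QuotientGroup.mk'_apply, QuotientGroup.eq_one_iff] at h1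
    exact h1
  · refine hne (commutator_le.mpr fun v hv g hg => ?_)
    have hH : H ≤ stabilizerOfQuotient V W := hA.sup_eq.ge.trans (sup_le hL fun z hz =>
      ⟨hHV (hA.PH hz), hHW (hA.PH hz), fun w hw => by
        rw [← commutatorElement_inv]
        exact inv_mem (((e.ge : V ≤ V1) hw).2.2.2 z hz)⟩)
    rw [← commutatorElement_inv]
    exact inv_mem ((hH hg).2.2 v hv)

/-- The elements `v` of `V` with `[a, v] ∈ W`. -/
def fixModSub (V W : Subgroup G) (a : G) : Subgroup G where
  carrier := {v | v ∈ V ∧ v ∈ normalizer (W : Set G) ∧ ⁅a, v⁆ ∈ W}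
  one_mem' := ⟨one_mem _, one_mem _, by simp⟩
  mul_mem' := by
    rintro u v ⟨hu1, hu2, hu3⟩ ⟨hv1, hv2, hv3⟩
    refine ⟨mul_mem hu1 hv1, mul_mem hu2 hv2, ?_⟩
    rw [show ⁅a, u * v⁆ = ⁅a, u⁆ * (u * ⁅a, v⁆ * u⁻¹) by simp only [commutatorElement_def]; group]
    exact mul_mem hu3 (conj_mem_of_mem_normalizer hu2 hv3)
  inv_mem' := by
    rintro u ⟨hu1, hu2, hu3⟩
    refine ⟨inv_mem hu1, inv_mem hu2, ?_⟩
    have := conj_mem_of_mem_normalizer (inv_mem hu2) (inv_mem hu3)
    rwa [show u⁻¹ * ⁅a, u⁆⁻¹ * u⁻¹⁻¹ = ⁅a, u⁻¹⁆ by simp only [commutatorElement_def]; group] at this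

theorem AsymL.inter_pCoreOf_le (hA : AsymL p Y P U H L) {a : G} (haY : a ∈ Y)
    (haO : a ∈ pCoreOf p L) : a ∈ U := by
  obtain ⟨k, hk, hgen⟩ := hA.exists_gen
  have hOY : pCoreOf p L ≤ normalizer (Y : Set G) := by
    have hX : IsPGroup p ↥(Y ⊔ pCoreOf p L) := Components.isPGroup_sup hA.Yp (isPGroup_pCoreOf L)
      (hA.YL.trans (le_normalizer_pCoreOf L))
    have hlt : Y ⊔ pCoreOf p L < L := lt_of_le_of_ne (sup_le hA.YL (pCoreOf_le L)) fun e =>
      hA.not_isPGroup (e ▸ hX)
    exact le_sup_right.trans (hA.le_normalizer_of_lt le_sup_left hlt)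
  have hOk : pCoreOf p L ≤ normalizer (cj k Y : Set G) := by
    have := cj_le_normalizer k hOY
    rwa [cj_eq_self (le_normalizer_pCoreOf L hk)] at this
  have haH : a ∈ H := hA.YH haY
  have hcase : ∀ V W : Subgroup G, IsChiefPair U H V W → a ∈ stabilizerOfQuotient V W := by
    rintro V W ⟨hVU, hHV, hHW, hWV, hch⟩
    refine ⟨hHV haH, hHW haH, fun v hv => ?_⟩
    by_contra hav
    by_cases hcen : ⁅V, H⁆ ≤ W
    · refine hav ?_
      rw [← commutatorElement_inv]
      exact inv_mem (hcen (commutator_mem_commutator hv haH))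
    have hVH : V ≤ H := hVU.trans hA.UH
    set E4 := fixModSub V W a with hE4
    have hW4 : W ≤ E4 := fun w hw =>
      ⟨hWV.le hw, le_normalizer hw, commutator_mem_left (hHW haH) hw⟩
    have hcom : ∀ g ∈ H, g * a * g⁻¹ = a → g ∈ normalizer (E4 : Set G) := fun g hg hga =>
      mem_normalizer_of_cj_le (by
        rintro _ ⟨w, ⟨hw1, hw2, hw3⟩, rfl⟩
        refine ⟨conj_mem_of_mem_normalizer (hHV hg) hw1,
          mul_mem (mul_mem (hHW hg) hw2) (inv_mem (hHW hg)), ?_⟩
        show ⁅a, g * w * g⁻¹⁆ ∈ W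
        rw [← hga, show ⁅g * a * g⁻¹, g * w * g⁻¹⁆ = g * ⁅a, w⁆ * g⁻¹ by
          simp only [commutatorElement_def]; group]
        exact conj_mem_of_mem_normalizer (hHW hg) hw3)
    have hYk : cj k Y ≤ normalizer (E4 : Set G) := fun y hy => mem_normalizer_of_cj_le (by
      rintro _ ⟨w, ⟨hw1, hw2, hw3⟩, rfl⟩
      show y * w * y⁻¹ ∈ E4
      have hyH : y ∈ H := map_conj_le_of_mem hA.YH (hA.LH hk) hy
      set β := ⁅y, w⁆ with hβ
      have hβV : β ∈ V := commutator_mem_left (hHV hyH) hw1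
      have hβk : β ∈ cj k Y :=
        commutator_mem_right (hA.U_le_normalizer (hA.LH hk) (hVU hw1)) hy
      set c := ⁅a, β⁆ with hc
      have hcY : c ∈ Y := commutator_mem_right (hA.U_le_normalizer_one (hVU hβV)) haY
      have hck : c ∈ cj k Y := commutator_mem_left (hOk haO) hβk
      have hcV : c ∈ V := commutator_mem_left (hHV haH) hβV
      have hcH : H ≤ centralizer ({c} : Set G) := by
        have hcent : ∀ X : Subgroup G, X ≤ centralizer (Y : Set G) ∨
            X ≤ centralizer (cj k Y : Set G) → X ≤ centralizer ({c} : Set G) := fun X hX =>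
          hX.elim (fun h => h.trans (centralizer_le (Set.singleton_subset_iff.mpr hcY)))
            (fun h => h.trans (centralizer_le (Set.singleton_subset_iff.mpr hck)))
        refine hA.sup_eq.ge.trans (sup_le (hgen.ge.trans (sup_le (hcent _ (Or.inl hA.Y_comm))
          (hcent _ (Or.inr ?_)))) (hcent _ (Or.inl hA.base.PC)))
        have h1 := cj_le_cj (g := k) hA.Y_comm
        rwa [cj_centralizer] at h1
      have hcW : c ∈ W := by
        by_contra hcW
        set V2 := V ⊓ stabilizerOfQuotient H W with hV2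
        have hW2 : W ≤ V2 := fun u hu =>
          ⟨hWV.le hu, le_normalizer (hVH (hWV.le hu)), le_normalizer hu, fun g hg =>
            commutator_mem_right (hHW hg) hu⟩
        have hc2 : c ∈ V2 := ⟨hcV, le_normalizer (hVH hcV), hHW (hVH hcV), fun g hg => by
          rw [commutatorElement_eq_one_iff_mul_comm.mpr (hcH hg c rfl)]; exact one_mem _⟩
        have hH2 : H ≤ normalizer (V2 : Set G) :=
          le_normalizer_inf hHV (le_normalizer_stabilizerOfQuotient le_normalizer hHW)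
        rcases hch V2 hH2 hW2 inf_le_left with e | e
        · exact hcW (e ▸ hc2)
        · exact hcen (commutator_le.mpr fun u hu g hg => ((e.ge : V ≤ V2) hu).2.2.2 g hg)
      refine ⟨conj_mem_of_mem_normalizer (hHV hyH) hw1,
        mul_mem (mul_mem (hHW hyH) hw2) (inv_mem (hHW hyH)), ?_⟩
      rw [show ⁅a, y * w * y⁻¹⁆ = c * (β * ⁅a, w⁆ * β⁻¹) by
        simp only [hc, hβ, commutatorElement_def]; group]
      exact mul_mem hcW (conj_mem_of_mem_normalizer (hHW (hVH hβV)) hw3))
    have hH4 : H ≤ normalizer (E4 : Set G) := hA.sup_eq.ge.trans (sup_le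
      (hgen.ge.trans (sup_le (fun y hy => hcom y (hA.YH hy) (conj_fix (hA.Y_comm hy) haY)) hYk))
      (fun z hz => hcom z (hA.PH hz) (conj_fix (hA.base.PC hz) haY)))
    rcases hch E4 hH4 hW4 (fun _ h => h.1) with e | e
    · refine hav (e ▸ ⟨commutator_mem_left (hHV haH) hv, hHW (hVH ?_), ?_⟩)
      · exact commutator_mem_left (hHV haH) hv
      · rw [commutatorElement_eq_one_iff_mul_comm.mpr
          (hA.Y_comm haY _ (commutator_mem_right (hA.U_le_normalizer_one (hVU hv)) haY)).symm]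
        exact one_mem _
    · exact hav ((e.ge : V ≤ E4) hv).2.2
  set S4 := H ⊓ ⨅ q : {q : Subgroup G × Subgroup G // IsChiefPair U H q.1 q.2},
    stabilizerOfQuotient q.1.1 q.1.2 with hS4
  have hS4n : H ≤ normalizer (S4 : Set G) := by
    refine le_normalizer_inf le_normalizer (le_normalizer_iff_map_le.mpr fun g hg => ?_)
    refine le_iInf fun q => (map_mono (iInf_le _ q)).trans (le_of_eq ?_)
    exact map_conj_eq_iff.mpr
      (le_normalizer_stabilizerOfQuotient q.2.2.1 q.2.2.2.1 hg)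
  have hS4p : IsPGroup p S4 := by
    refine isPGroup_of_forall_coprime fun g hg hc => ?_
    have hkey : ∀ n : ℕ, ∀ V : Subgroup G, Nat.card V ≤ n → V ≤ U →
        H ≤ normalizer (V : Set G) → g ∈ centralizer (V : Set G) := by
      intro n
      induction n with
      | zero => intro V hV; exact absurd hV (by have := Nat.card_pos (α := ↥V); omega)
      | succ n ih =>
        intro V hV hVU hHV
        rcases eq_or_ne V ⊥ with rfl | hV1
        · exact mem_centralizer_iff.mpr fun v hv => by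
            rw [show v = 1 from hv]; simp
        obtain ⟨W, hW⟩ := (Set.toFinite {W : Subgroup G | W < V ∧ H ≤ normalizer (W : Set G)}).exists_maximal
          ⟨⊥, bot_lt_iff_ne_bot.mpr hV1, fun x _ =>
            mem_normalizer_iff_cj.2 (Subgroup.map_bot _)⟩
        obtain ⟨hWV, hHW⟩ := hW.prop
        have hpair : IsChiefPair U H V W := ⟨hVU, hHV, hHW, hWV, fun Z hZ h1 h2 =>
          (eq_or_lt_of_le h2).elim Or.inr fun h => Or.inl (hW.eq_of_le ⟨h, hZ⟩ h1).symm⟩
        have hcard : Nat.card W ≤ n := by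
          have hlt : Nat.card W < Nat.card V :=
            (card_le_of_le hWV.le).lt_of_ne fun e => hWV.ne (eq_of_le_of_card_ge hWV.le e.ge)
          omega
        have hgW := ih W hcard (hWV.le.trans hVU) hHW
        have hgs := (mem_iInf.mp hg.2 ⟨(V, W), hpair⟩).2.2
        refine mem_centralizer_iff.mpr fun v hv =>
          (commute_of_commutator_fix (hA.Up.to_le (hWV.le.trans hVU)) hc ?_ ?_).symm
        · rw [← commutatorElement_inv]; exact inv_mem (hgs _ (inv_mem hv))
        · refine (hgW _ ?_).symm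
          rw [← commutatorElement_inv]; exact inv_mem (hgs _ (inv_mem hv))
    exact eq_one_of_coprime_of_mem_pGroup hA.Up
      (hA.CHU g hg.1 (hkey _ U le_rfl le_rfl hA.HU)) hc
  -- `S4` consists of `p`-elements and acts on `U`, so it lies in `U`
  refine (?_ : S4 ≤ U) ⟨haH, mem_iInf.mpr fun q => hcase _ _ q.2⟩
  exact hA.maxU S4 inf_le_left hS4n hS4p

end CfsgLib.LocalStr
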