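import Cfsg.Agent.Lib.LocalStr.FrakM

/-!
For asymmetric `Y_M`: `O_p(M)` is weakly closed in the whole group.
-/

set_option autoImplicit false
set_option linter.style.haveILetI false
set_option linter.unusedSectionVars false

namespace CfsgLib.LocalStr

open Subgroup Cfsg
open CfsgLib.LocalEven (IsSylOf cj omegaZ)
open scoped commutatorElement

variable {G : Type*} [Group G] [Finite G] {p : ℕ} [Fact p.Prime] {M : Subgroup G}

theorem largest_eq_omegaZ_pCoreOf (S : Sylow p G) (hSM : (S : Subgroup G) ≤ M)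
    (hM : IsInFrakM p M) : largestPReducedOf p M = omegaZ p (pCoreOf p M) := by
  rw [pCoreOf_eq_inf_centralizer S hSM hM]
  exact largest_eq_omegaZ S hSM (charP_of_mem hM.1)

theorem normalizer_pCoreOf_le_dagger {Q : Subgroup G} (hQ : IsLarge Q) (hQp : IsPGroup p Q)
    (hQ1 : Q ≠ ⊥) (S : Sylow p G) (hQS : Q ≤ (S : Subgroup G)) (hSM : (S : Subgroup G) ≤ M)
    (hM : IsInFrakM p M) : normalizer (pCoreOf p M : Set G) ≤ daggerOf p M := fun g hg => by
  rw [← normalizer_largest_eq hQ hQp hQ1 S hQS hSM hM, ← map_conj_eq_iff]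
  rw [largest_eq_omegaZ_pCoreOf S hSM hM]
  show cj g (omegaZ p (pCoreOf p M)) = _
  rw [LocalEven.cj_omegaZ, show cj g (pCoreOf p M) = pCoreOf p M from map_conj_eq_iff.mpr hg]

/-- Two conjugates of `P` normalising one another. -/
def MutNorm (P : Subgroup G) (u v : G) : Prop :=
  cj u P ≤ normalizer (cj v P : Set G) ∧ cj v P ≤ normalizer (cj u P : Set G)

/-- Conjugators joined by a chain of `n` mutually normalising steps. -/
def ChainNorm (P : Subgroup G) : ℕ → G → G → Prop
  | 0, u, v => cj u P = cj v P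
  | n + 1, u, v => ∃ w, ChainNorm P n u w ∧ MutNorm P w v

theorem MutNorm.symm {P : Subgroup G} {u v : G} (h : MutNorm P u v) : MutNorm P v u := ⟨h.2, h.1⟩

theorem MutNorm.translate {P : Subgroup G} {u v : G} (h : MutNorm P u v) (g : G) :
    MutNorm P (g * u) (g * v) := by
  have key : ∀ a b : G, cj a P ≤ normalizer (cj b P : Set G) →
      cj (g * a) P ≤ normalizer (cj (g * b) P : Set G) := fun a b hab => by
    rw [← LocalEven.cj_cj, ← LocalEven.cj_cj]
    exact (LocalEven.cj_le_cj hab).trans (le_normalizer_map _)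
  exact ⟨key _ _ h.1, key _ _ h.2⟩

theorem ChainNorm.congr_left {P : Subgroup G} {u u' : G} (he : cj u P = cj u' P) :
    ∀ {n : ℕ} {v : G}, ChainNorm P n u v → ChainNorm P n u' v
  | 0, _, h => he.symm.trans h
  | _ + 1, _, ⟨w, hw, h⟩ => ⟨w, ChainNorm.congr_left he hw, h⟩

theorem ChainNorm.translate {P : Subgroup G} (g : G) :
    ∀ {n : ℕ} {u v : G}, ChainNorm P n u v → ChainNorm P n (g * u) (g * v)
  | 0, u, v, h => by
    show cj (g * u) P = cj (g * v) P
    rw [← LocalEven.cj_cj, ← LocalEven.cj_cj, show cj u P = cj v P from h]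
  | _ + 1, _, _, ⟨w, hw, h⟩ => ⟨g * w, ChainNorm.translate g hw, h.translate g⟩

theorem ChainNorm.cons {P : Subgroup G} :
    ∀ {n : ℕ} {u w v : G}, MutNorm P u w → ChainNorm P n w v → ChainNorm P (n + 1) u v
  | 0, u, w, v, h, h' => ⟨u, rfl, by
      have e : cj w P = cj v P := h'
      exact ⟨e ▸ h.1, e ▸ h.2⟩⟩
  | _ + 1, _, _, _, h, ⟨x, hx, h'⟩ => ⟨x, ChainNorm.cons h hx, h'⟩

theorem ChainNorm.uncons {P : Subgroup G} :
    ∀ {n : ℕ} {u v : G}, ChainNorm P (n + 1) u v → ∃ w, MutNorm P u w ∧ ChainNorm P n w v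
  | 0, u, v, ⟨w, (hw : cj u P = cj w P), h⟩ => ⟨v, ⟨hw ▸ h.1, hw ▸ h.2⟩, rfl⟩
  | _ + 1, _, _, ⟨x, hx, h'⟩ => by
    obtain ⟨w, h1, h2⟩ := ChainNorm.uncons hx
    exact ⟨w, h1, x, h2, h'⟩

section

variable {Q : Subgroup G} (hQ : IsLarge Q) (hQp : IsPGroup p Q) (hQ1 : Q ≠ ⊥) (S : Sylow p G)
  (hQS : Q ≤ (S : Subgroup G)) (hSM : (S : Subgroup G) ≤ M) (hM : IsInFrakM p M)
  (hasym : ¬ IsSymmetricIn (largestPReducedOf p M))

include hQ hQp hQ1 hQS hSM hM hasym

/-- Along a chain, each `Y` lies in every `P`. -/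
theorem omegaZ_le_of_chain :
    ∀ (n : ℕ) (u v : G), ChainNorm (pCoreOf p M) n u v →
      cj u (largestPReducedOf p M) ≤ cj v (pCoreOf p M) ∧
        cj v (largestPReducedOf p M) ≤ cj u (pCoreOf p M) := by
  set P := pCoreOf p M with hP
  set Y := largestPReducedOf p M with hY
  have hYP : Y ≤ P := (pRedIn_largest M).le_pCoreOf
  have hPN : ∀ v : G, normalizer (cj v P : Set G) ≤ normalizer (cj v Y : Set G) := fun v g hg => by
    rw [← map_conj_eq_iff]
    show cj g (cj v Y) = cj v Y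
    rw [hY, largest_eq_omegaZ_pCoreOf S hSM hM, LocalEven.cj_omegaZ, LocalEven.cj_omegaZ, ← hP,
      show cj g (cj v P) = cj v P from map_conj_eq_iff.mpr hg]
  intro n
  induction n with
  | zero =>
    intro u v (h : cj u P = cj v P)
    exact ⟨h ▸ LocalEven.cj_le_cj hYP, h ▸ LocalEven.cj_le_cj hYP⟩
  | succ n ih =>
    intro u v h
    obtain ⟨d, hd, hdv⟩ := h
    obtain ⟨b, hub, hb⟩ := ChainNorm.uncons (n := n) ⟨d, hd, hdv⟩
    have h1 : cj u Y ≤ normalizer (cj v P : Set G) := (ih u d hd).1.trans hdv.1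
    have h2 : cj v Y ≤ normalizer (cj u P : Set G) := (ih b v hb).2.trans hub.2
    -- back to `Y` itself
    have key : ∀ u v : G, cj u Y ≤ normalizer (cj v P : Set G) →
        cj v Y ≤ normalizer (cj u P : Set G) → cj u Y ≤ cj v P := by
      intro u v hu hv
      have e : ∀ X : Subgroup G, cj v (cj v⁻¹ X) = X := fun X => by
        rw [LocalEven.cj_cj, mul_inv_cancel, LocalEven.cj_one]
      have e' : ∀ X : Subgroup G, cj v⁻¹ (cj v X) = X := fun X => by
        rw [LocalEven.cj_cj, inv_mul_cancel, LocalEven.cj_one]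
      have a1 : cj (v⁻¹ * u) Y ≤ normalizer (P : Set G) := by
        rw [← LocalEven.cj_cj]
        refine (LocalEven.cj_le_cj hu).trans ((le_normalizer_map _).trans ?_)
        exact le_of_eq (congrArg (fun X : Subgroup G => normalizer (X : Set G)) (e' P))
      have a1' : cj (v⁻¹ * u) Y ≤ normalizer (Y : Set G) := by
        refine a1.trans ?_
        have := hPN 1
        rwa [LocalEven.cj_one, LocalEven.cj_one] at this
      have a2 : Y ≤ normalizer (cj (v⁻¹ * u) Y : Set G) := by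
        refine (e' Y).ge.trans ((LocalEven.cj_le_cj (hv.trans (hPN u))).trans
          ((le_normalizer_map _).trans (le_of_eq ?_)))
        exact congrArg (fun X : Subgroup G => normalizer (X : Set G)) (LocalEven.cj_cj _ _ Y)
      have hc : cj (v⁻¹ * u) Y ≤ centralizer (Y : Set G) :=
        le_centralizer_iff.mp (centralizes_of_not_symmetric hasym a1' a2)
      -- `P` is Sylow in `C(Y)`
      have hsyl : IsSylOf p P (centralizer (Y : Set G)) := by
        rw [hP, pCoreOf_eq_inf_centralizer S hSM hM]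
        exact inf_centralizer_isSylOf S (hSM.trans (pRedIn_largest M).norm)
      have hle : cj (v⁻¹ * u) Y ≤ P := by
        have h3 := hsyl.of_isPGroup_ge (P := P ⊔ cj (v⁻¹ * u) Y)
          (Components.isPGroup_sup ((pRedIn_largest M).isPGroup.map _) (isPGroup_pCoreOf M) a1 |>
            fun h => sup_comm (a := cj (v⁻¹ * u) Y) (b := P) ▸ h)
          le_sup_left (sup_le hsyl.1 hc)
        exact le_sup_right.trans h3.le
      rw [← e (cj u Y), LocalEven.cj_cj v⁻¹ u]
      exact LocalEven.cj_le_cj hle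
    exact ⟨key u v h1 h2, key v u h2 h1⟩

theorem eq_of_mutNorm {g : G} (h : MutNorm (pCoreOf p M) 1 g) :
    cj g (pCoreOf p M) = pCoreOf p M := by
  set P := pCoreOf p M with hP
  set Y := largestPReducedOf p M with hY
  set K : Set G := {u | ∃ n, ChainNorm P n 1 u} with hK
  set X := sSup {B : Subgroup G | ∃ u ∈ K, B = cj u Y} with hX
  have hPC : P ≤ centralizer (Y : Set G) := (pRedIn_largest M).pCoreOf_le_centralizer
  have hYe := (pRedIn_largest (p := p) M).elem
  have h1K : (1 : G) ∈ K := ⟨0, rfl⟩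
  have hcomm : ∀ u ∈ K, cj u Y ≤ centralizer (Y : Set G) := by
    rintro u ⟨n, hn⟩
    refine le_trans ?_ hPC
    have := (omegaZ_le_of_chain hQ hQp hQ1 S hQS hSM hM hasym n 1 u hn).2
    rwa [LocalEven.cj_one] at this
  have hgen : ∀ x : G, (∀ u ∈ K, x * u ∈ K) → x ∈ normalizer (X : Set G) := by
    intro x hx
    refine map_conj_eq_iff.mp (eq_of_le_of_card_ge ?_ (Components.card_map_conj x X).ge)
    rw [map_le_iff_le_comap, hX]
    refine sSup_le ?_
    rintro B ⟨u, hu, rfl⟩
    rw [← map_le_iff_le_comap]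
    refine le_sSup ⟨x * u, hx u hu, ?_⟩
    exact LocalEven.cj_cj x u Y
  have hgX : g ∈ normalizer (X : Set G) := hgen g fun u ⟨n, hn⟩ => ⟨n + 1, by
    have := ChainNorm.translate g hn
    rw [mul_one] at this
    exact ChainNorm.cons h this⟩
  have hMX : M ≤ normalizer (X : Set G) := fun m hm => hgen m fun u ⟨n, hn⟩ => ⟨n, by
    have h2 := ChainNorm.translate m hn
    rw [mul_one] at h2
    refine ChainNorm.congr_left ?_ h2
    rw [LocalEven.cj_one]
    exact map_conj_eq_iff.mpr (le_normalizer_pCoreOf M hm)⟩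
  have hXp : IsPGroup p X := by
    refine LocalEven.isPGroup_elemAb (LocalEven.elemAb_sSup ?_ ?_)
    · rintro B ⟨u, -, rfl⟩ _ ⟨y, hy, rfl⟩
      rw [← map_pow, hYe.2 y hy, map_one]
    · rintro B ⟨u, ⟨n, hn⟩, rfl⟩ D ⟨v, ⟨m, hm⟩, rfl⟩ _ ⟨x, hx, rfl⟩ _ ⟨y, hy, rfl⟩
      -- `u⁻¹ v` lies on a chain from `1`
      have hrev : ∀ {n : ℕ} {a b : G}, ChainNorm P n a b → ChainNorm P n b a := by
        intro n
        induction n with
        | zero => exact fun h => Eq.symm h
        | succ n ih => exact fun ⟨w, hw, h'⟩ => ChainNorm.cons h'.symm (ih hw)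
      have happ : ∀ {m n : ℕ} {a b c : G}, ChainNorm P n a b → ChainNorm P m b c →
          ∃ k, ChainNorm P k a c := by
        intro m
        induction m with
        | zero => exact fun h h' => ⟨_, hrev (ChainNorm.congr_left h' (hrev h))⟩
        | succ m ih =>
          rintro n a b c h ⟨w, hw, h'⟩
          obtain ⟨k, hk⟩ := ih h hw
          exact ⟨k + 1, w, hk, h'⟩
      obtain ⟨k, hk⟩ := happ (hrev hn) hm
      have h3 := hcomm (u⁻¹ * v) ⟨k, by
        have := ChainNorm.translate u⁻¹ hk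
        rwa [inv_mul_cancel] at this⟩
      have h4 : (u⁻¹ * v) * y * (u⁻¹ * v)⁻¹ ∈ centralizer (Y : Set G) := h3 ⟨y, hy, rfl⟩
      have h5 := congrArg (MulAut.conj u) (mem_centralizer_iff.mp h4 x hx)
      simp only [MulEquiv.coe_toMonoidHom, MulAut.conj_apply] at h5 ⊢
      calc u * x * u⁻¹ * (v * y * v⁻¹) = u * (x * (u⁻¹ * v * y * (u⁻¹ * v)⁻¹)) * u⁻¹ := by group
        _ = u * ((u⁻¹ * v * y * (u⁻¹ * v)⁻¹) * x) * u⁻¹ := h5
        _ = v * y * v⁻¹ * (u * x * u⁻¹) := by group
  have hYX : Y ≤ X := le_sSup ⟨1, h1K, (LocalEven.cj_one Y).symm⟩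
  set N := normalizer (X : Set G) with hN
  have hXO : X ≤ pCoreOf p N := le_pCoreOf le_normalizer le_rfl hXp
  have hNc : N ∈ charPSubgroups p G := mem_charP_of_large hQ hQp hQ1 ((hQS.trans hSM).trans hMX)
    (fun h' => largest_ne_bot hQ1 S hQS hSM hM (le_bot_iff.mp ((hYX.trans hXO).trans h'.le)))
    ((centralizer_le (SetLike.coe_subset_coe.mpr hXO)).trans (centralizer_le_normalizer _))
  obtain ⟨W, hW, hNW⟩ := exists_maxCharP_ge hNc
  have hgD : g ∈ daggerOf p M := (hM.2.2.1 W hW (hMX.trans hNW)).le (hNW hgX)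
  have hPD : P ≤ daggerOf p M := (pCoreOf_le M).trans le_sup_left
  have hwc := pCoreOf_wc_dagger S hSM hM
  have hgN : cj g P ≤ normalizer (P : Set G) := by
    have := h.2
    rwa [LocalEven.cj_one] at this
  have hR : IsPGroup p ↥(cj g P ⊔ P) :=
    Components.isPGroup_sup ((isPGroup_pCoreOf M).map _) (isPGroup_pCoreOf M) hgN
  have hgP : cj g P ≤ daggerOf p M := map_conj_le_of_mem hPD hgD
  have key : ((P.subgroupOf (daggerOf p M)).map (MulAut.conj ⟨g, hgD⟩).toMonoidHom).map
      (daggerOf p M).subtype = cj g P := by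
    conv_rhs => rw [← map_subgroupOf_eq_of_le hPD]
    rw [map_map]
    show _ = Subgroup.map _ (Subgroup.map _ _)
    rw [map_map]
    rfl
  have h6 := wc_pGroup hwc (P := (cj g P ⊔ P).subgroupOf (daggerOf p M))
    (hR.comap_of_injective _ (daggerOf p M).subtype_injective) (comap_mono le_sup_right)
    (g := ⟨g, hgD⟩) (fun x hx => mem_subgroupOf.mpr
      (mem_sup_left (key ▸ mem_map_of_mem _ hx)))
  rw [← key, h6, map_subgroupOf_eq_of_le hPD]

/-- `O_p(M)` is weakly closed in `G`. -/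
theorem pCoreOf_wc_of_asymmetric : IsWeaklyClosedSubgroup p (pCoreOf p M) := by
  set P := pCoreOf p M with hP
  have hPS : P ≤ (S : Subgroup G) := ((sylow_isSylOf_top S).of_le hSM le_top).pCoreOf_le
  refine ⟨S, hPS, fun g hg => ?_⟩
  by_contra hne
  change cj g P ≤ (S : Subgroup G) at hg
  change cj g P ≠ P at hne
  -- `P` is normal in `S`
  have hSP : (S : Subgroup G) ≤ normalizer (P : Set G) := hSM.trans (le_normalizer_pCoreOf M)
  by_cases hN : P ≤ normalizer (cj g P : Set G)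
  · refine hne (eq_of_mutNorm hQ hQp hQ1 S hQS hSM hM hasym ⟨?_, ?_⟩)
    · rw [LocalEven.cj_one]; exact hN
    · rw [LocalEven.cj_one]; exact hg.trans hSP
  · set R := (S : Subgroup G) ⊓ normalizer (cj g P : Set G) with hR
    haveI := S.isPGroup'.isNilpotent
    have hlt : R.subgroupOf (S : Subgroup G) < ⊤ := lt_top_iff_ne_top.mpr fun h =>
      hN (hPS.trans ((subgroupOf_eq_top.mp h).trans inf_le_right))
    obtain ⟨x, hxn, hx⟩ := SetLike.exists_of_lt (Group.normalizerCondition_of_isNilpotent _ hlt)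
    have hxR : cj (x : G) R = R := by
      refine eq_of_le_of_card_ge ?_ (LocalEven.card_cj _ R).ge
      rintro _ ⟨r, hr, rfl⟩
      exact (mem_normalizer_iff.mp hxn ⟨r, hr.1⟩).mp hr
    have hgR : cj g P ≤ R := le_inf hg le_normalizer
    have hxgR : cj ((x : G) * g) P ≤ R := by
      rw [← LocalEven.cj_cj]
      exact (LocalEven.cj_le_cj hgR).trans hxR.le
    have hmut : MutNorm P g ((x : G) * g) := by
      refine ⟨?_, hxgR.trans inf_le_right⟩
      rw [← LocalEven.cj_cj]
      refine (hgR.trans hxR.ge).trans ((LocalEven.cj_le_cj inf_le_right).trans ?_)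
      exact le_normalizer_map _
    have h1 := hmut.translate g⁻¹
    rw [inv_mul_cancel] at h1
    have h2 := eq_of_mutNorm hQ hQp hQ1 S hQS hSM hM hasym h1
    refine hx ⟨x.2, map_conj_eq_iff.mp ?_⟩
    show cj (x : G) (cj g P) = cj g P
    rw [LocalEven.cj_cj]
    have h3 := congrArg (cj g) h2
    rwa [LocalEven.cj_cj, mul_inv_cancel_left] at h3

theorem normalizer_le_normalizer_pCoreOf {L : Subgroup G} (hL : IsPGroup p L)
    (hPL : pCoreOf p M ≤ L) : normalizer (L : Set G) ≤ normalizer (pCoreOf p M : Set G) :=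
  wc_normalizer_le (pCoreOf_wc_of_asymmetric hQ hQp hQ1 S hQS hSM hM hasym) hL hPL

/-- Above `O_p(M)`, `M†` contains a Sylow subgroup. -/
theorem exists_sylOf_le_dagger {L : Subgroup G} (hPL : pCoreOf p M ≤ L) :
    ∃ U, IsSylOf p U L ∧ pCoreOf p M ≤ U ∧ U ≤ daggerOf p M := by
  obtain ⟨U, hU, hPU⟩ := LocalEven.exists_isSylOf_ge (isPGroup_pCoreOf M) hPL
  exact ⟨U, hU, hPU, (wc_le_normalizer
    (pCoreOf_wc_of_asymmetric hQ hQp hQ1 S hQS hSM hM hasym) hU.isPGroup hPU).trans
    (normalizer_pCoreOf_le_dagger hQ hQp hQ1 S hQS hSM hM)⟩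

end

theorem pCoreOf_subgroupOf_map {H K : Subgroup G} (h : H ≤ K) :
    (pCoreOf p (H.subgroupOf K)).map K.subtype = pCoreOf p H := by
  show ((pCore p ↥(H.subgroupOf K)).map _).map K.subtype = (pCore p ↥H).map H.subtype
  rw [← Components.pCore_map_equiv p (subgroupOfEquivOfLe h), map_map, map_map]
  rfl

/-- Above a weakly closed self-centralising `P`, subgroups of a characteristic `p` group have
characteristic `p`. -/
theorem charP_of_le_charP {P : Subgroup G} (hwc : IsWeaklyClosedSubgroup p P)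
    (hCP : centralizer (P : Set G) ≤ P) {K : Subgroup G}
    (hK : centralizer (pCore p ↥K : Set ↥K) ≤ pCore p ↥K) {H : Subgroup G}
    (hPH : P ≤ H) (hHK : H ≤ K) : centralizer (pCore p ↥H : Set ↥H) ≤ pCore p ↥H := by
  refine centralizer_pCore_le_iff.mpr fun x hx hxc => ?_
  have hPK := hPH.trans hHK
  have h1 : centralizer ((P.subgroupOf K : Subgroup K) : Set K) ≤ P.subgroupOf K := by
    intro y hy
    refine mem_subgroupOf.mpr (hCP (mem_centralizer_iff.mpr fun z hz => ?_))
    exact congrArg Subtype.val (mem_centralizer_iff.mp hy ⟨z, hPK hz⟩ hz)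
  have h2 : ∀ y ∈ (⊤ : Subgroup K), y ∈ centralizer (pCoreOf p (⊤ : Subgroup K) : Set K) →
      y ∈ pCoreOf p (⊤ : Subgroup K) := by
    intro y _ hy
    rw [pCoreOf_top] at hy ⊢
    exact hK hy
  obtain ⟨-, -, h⟩ := wc_centralizer_pCoreOf (L := H.subgroupOf K) (wc_subgroupOf hwc hPK) h1
    (comap_mono hPH) h2 le_top le_top
  rw [← pCoreOf_subgroupOf_map (p := p) hHK]
  refine ⟨⟨x, hHK hx⟩, h ⟨x, hHK hx⟩ hx (mem_centralizer_iff.mpr fun y hy => Subtype.ext ?_), rfl⟩
  exact mem_centralizer_iff.mp hxc y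
    (pCoreOf_subgroupOf_map (p := p) hHK ▸ mem_map_of_mem K.subtype hy)

theorem normal_subgroupOf_sup {W Y H : Subgroup G}
    (hW : H ≤ normalizer (W : Set G))
    (hY : ∀ h ∈ H, Y.map (MulAut.conj h).toMonoidHom ≤ W ⊔ Y) :
    H ≤ normalizer ((W ⊔ Y : Subgroup G) : Set G) :=
  le_normalizer_iff_map_le.mpr fun h hh => by
    rw [Subgroup.map_sup]
    exact sup_le ((map_conj_eq_iff.mpr (hW hh)).le.trans le_sup_left) (hY h hh)

/-- Structure of a member `H` of `ℌ_G(O_p(M))`: facts not needing tallness or asymmetry. -/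
theorem frakH_structure {H : Subgroup G} (hH : IsInFrakH p M H) :
    pRes p H ⊔ pCoreOf p M = H ∧ ⁅pRes p H, largestPReducedOf p M⁆ = pRes p H ∧
      H ≤ normalizer ((pRes p H ⊔ largestPReducedOf p M : Subgroup G) : Set G) := by
  obtain ⟨-, hPH, hY, hprop⟩ := hH
  set Y := largestPReducedOf p M with hYdef
  set P := pCoreOf p M with hP
  set R := pRes p H with hR
  have hYP : Y ≤ P := (pRedIn_largest M).le_pCoreOf
  have hPY : P ≤ normalizer (Y : Set G) := (pCoreOf_le M).trans (pRedIn_largest M).norm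
  have hRH : R ≤ H := pRes_le H
  have hRn : H ≤ normalizer (R : Set G) := le_normalizer_pRes_self H
  have hsub : ∀ K : Subgroup G, P ≤ K → K ≤ H → (K.subgroupOf H).IsSubnormal → K = H := by
    intro K hPK hKH hK
    by_contra hne
    exact hY ((hprop K hPK (lt_of_le_of_ne hKH hne)).trans
      (pCoreOf_le_pCoreOf_of_isSubnormal hKH hK))
  have hRP : R ⊔ P = H := hsub _ le_sup_right (sup_le hRH hPH)
    (isSubnormal_subgroupOf_of_pRes_le le_sup_left)
  set W := ⁅R, Y⁆ with hW
  have hWR : W ≤ R := le_normalizer_iff_commutator_le_left.mp ((hYP.trans hPH).trans hRn)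
  have hWn : H ≤ normalizer (W : Set G) := by
    rw [← hRP]
    refine sup_le (normalizer_commutator_ge_left R Y) (le_normalizer_iff_map_le.mpr fun x hx => ?_)
    rw [hW, map_commutator, map_conj_eq_iff.mpr (hRn (hPH hx)), map_conj_eq_iff.mpr (hPY hx)]
  have hcl : H ≤ normalizer ((W ⊔ Y : Subgroup G) : Set G) := by
    rw [← hRP]
    refine sup_le ?_ (le_normalizer_iff_map_le.mpr fun x hx => ?_)
    · refine normal_subgroupOf_sup (hRH.trans hWn) fun r hr => ?_
      rintro _ ⟨y, hy, rfl⟩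
      show r * y * r⁻¹ ∈ _
      rw [show r * y * r⁻¹ = ⁅r, y⁆ * y by simp [commutatorElement_def]]
      exact mul_mem (mem_sup_left (commutator_mem_commutator hr hy)) (mem_sup_right hy)
    · rw [Subgroup.map_sup, map_conj_eq_iff.mpr (hWn (hPH hx)), map_conj_eq_iff.mpr (hPY hx)]
  have hWeq : W = R := by
    refine le_antisymm hWR ?_
    have hWP : P ≤ normalizer (W : Set G) := hPH.trans hWn
    by_cases h : W ⊔ P = H
    · rw [hR, ← h, pRes_sup_pGroup (isPGroup_pCoreOf M) hWP]
      exact pRes_le W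
    · refine absurd ?_ hY
      have hK := hprop (W ⊔ P) le_sup_right (lt_of_le_of_ne (sup_le (hWR.trans hRH) hPH) h)
      exact (le_inf hK le_sup_right).trans ((pCoreOf_inf_le (sup_le_sup_left hYP W)).trans
        (pCoreOf_le_pCoreOf_of_normal (sup_le (hWR.trans hRH) (hYP.trans hPH)) hcl))
  exact ⟨hRP, hWeq, hWeq ▸ hcl⟩

end CfsgLib.LocalStr
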