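import Cfsg.Agent.Lib.LocalStr.FrakM
import Cfsg.Agent.S2824

/-!
Members with the basic property above a given characteristic `p` parabolic subgroup.
-/

set_option autoImplicit false
set_option linter.style.haveILetI false
set_option linter.unusedSectionVars false

namespace CfsgLib.LocalStr

open Subgroup Cfsg
open CfsgLib.LocalEven (IsSylOf cj omegaZ)

variable {H : Type*} [Group H] [Finite H] {p : ℕ} [Fact p.Prime]

/-- `Y_R ≤ Y_L` for `T ≤ R ≤ L` of characteristic `p`. -/
theorem largest_mono_of_le (T : Sylow p H) {R L : Subgroup H} (hTR : (T : Subgroup H) ≤ R)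
    (hRL : R ≤ L) (hL : centralizer (pCore p ↥L : Set ↥L) ≤ pCore p ↥L) :
    largestPReducedOf p R ≤ largestPReducedOf p L := by
  set Y := largestPReducedOf p R with hY
  have hTs : IsSylOf p (T : Subgroup H) L := (sylow_isSylOf_top T).of_le (hTR.trans hRL) le_top
  set O := pCoreOf p L with hO
  have hOR : O ≤ pCoreOf p R := le_pCoreOf (hTs.pCoreOf_le.trans hTR)
    (hRL.trans (le_normalizer_pCoreOf L)) (isPGroup_pCoreOf L)
  have hYr := pRedIn_largest (p := p) R
  set Z := O ⊓ centralizer (O : Set H) with hZ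
  have hYZ : Y ≤ Z := by
    have h1 : Y ≤ centralizer (O : Set H) :=
      le_centralizer_iff.mp (hOR.trans hYr.pCoreOf_le_centralizer)
    exact le_inf (fun y hy => charPIn_of hL y (hRL (hYr.le hy)) (h1 hy)) h1
  have hLZ : L ≤ normalizer (Z : Set H) := LocalEven.le_normalizer_inf (le_normalizer_pCoreOf L)
    (LocalEven.le_normalizer_centralizer' (le_normalizer_pCoreOf L))
  set X := sSup {B : Subgroup H | ∃ h ∈ L, B = cj h Y} with hX
  have hXZ : X ≤ Z := by
    refine sSup_le ?_
    rintro B ⟨h, hh, rfl⟩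
    exact (LocalEven.cj_le_cj hYZ).trans (map_conj_eq_iff.mpr (hLZ hh)).le
  have hXn : L ≤ normalizer (X : Set H) := by
    intro h hh
    refine map_conj_eq_iff.mp (eq_of_le_of_card_ge ?_ (Components.card_map_conj h X).ge)
    rw [map_le_iff_le_comap, hX]
    refine sSup_le ?_
    rintro B ⟨a, ha, rfl⟩
    rw [← map_le_iff_le_comap]
    exact le_sSup ⟨h * a, mul_mem hh ha, LocalEven.cj_cj h a Y⟩
  have hYX : Y ≤ X := le_sSup ⟨1, one_mem L, (LocalEven.cj_one Y).symm⟩
  have hXe : IsElementaryAbelian p X := by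
    refine LocalEven.elemAb_sSup ?_ ?_
    · rintro B ⟨h, -, rfl⟩ _ ⟨y, hy, rfl⟩
      rw [← map_pow, hYr.elem.2 y hy, map_one]
    · rintro B ⟨a, ha, rfl⟩ E ⟨b, hb, rfl⟩ u hu v hv
      have hu' := hXZ (le_sSup (s := {B : Subgroup H | ∃ h ∈ L, B = cj h Y}) ⟨a, ha, rfl⟩ hu)
      have hv' := hXZ (le_sSup (s := {B : Subgroup H | ∃ h ∈ L, B = cj h Y}) ⟨b, hb, rfl⟩ hv)
      exact (mem_centralizer_iff.mp hu'.2 v hv'.1).symm
  refine hYX.trans (le_largest ⟨(hXZ.trans inf_le_left).trans (pCoreOf_le L), hXn, hXe,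
    fun N hNL hN hm => ?_⟩)
  have hmC : LocalEven.IsPMod p (centralizer (Y : Set H)) N := fun x hx => by
    obtain ⟨k, hk⟩ := hm x hx
    exact ⟨k, centralizer_le (SetLike.coe_subset_coe.mpr hYX) hk⟩
  have hNR : N ⊓ R ≤ centralizer (Y : Set H) := hYr.red _ inf_le_right
    (LocalEven.le_normalizer_inf (hRL.trans hN) le_normalizer) (fun x hx => hmC x hx.1)
  have hNC : N ≤ centralizer (Y : Set H) := by
    rw [← pRes_sup_of_isSylOf (hTs.inf_normal hNL hN)]
    refine sup_le (pRes_le_iff.mpr fun x hx hc => ?_)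
      (le_trans (le_inf inf_le_right (inf_le_left.trans hTR)) hNR)
    obtain ⟨k, hk⟩ := hmC x hx
    exact coprime_of_mem_pRes_of_pGroup (k := k) hc hk
  refine le_centralizer_iff.mp (sSup_le ?_)
  rintro B ⟨h, hh, rfl⟩
  refine le_centralizer_iff.mp ?_
  have h2 := (map_mono (f := (MulAut.conj h).toMonoidHom) hNC).trans
    (LocalEven.cj_centralizer h Y).le
  rwa [map_conj_eq_iff.mpr (hN hh)] at h2

/-- Frattini argument on `C(Y)`. -/
theorem le_inf_normalizer_sup (T : Sylow p H) {Y M : Subgroup H} (hTM : (T : Subgroup H) ≤ M)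
    (hMY : M ≤ normalizer (Y : Set H)) :
    M ≤ (M ⊓ normalizer (((T : Subgroup H) ⊓ centralizer (Y : Set H) : Subgroup H) : Set H)) ⊔
      centralizer (Y : Set H) := by
  set C := centralizer (Y : Set H) with hC
  set T₀ := (T : Subgroup H) ⊓ C with hT₀
  have hS : IsSylOf p T₀ C := inf_centralizer_isSylOf T (hTM.trans hMY)
  have hMC : M ≤ normalizer (C : Set H) := LocalEven.le_normalizer_centralizer' hMY
  intro m hm
  have h1 : IsSylOf p T₀ (C ⊓ M) := hS.of_le (le_inf hS.1 (inf_le_left.trans hTM)) inf_le_left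
  have h2 : IsSylOf p (T₀.map (MulAut.conj m).toMonoidHom) (C ⊓ M) := by
    have := h1.cj m
    have e : cj m (C ⊓ M) = C ⊓ M := map_conj_eq_iff.mpr
      (LocalEven.le_normalizer_inf hMC le_normalizer hm)
    rwa [e] at this
  obtain ⟨c, hc, hc'⟩ := h2.exists_conj h1
  have h3 : c * m ∈ normalizer (T₀ : Set H) := map_conj_eq_iff.mp (by
    rw [← map_conj_conj]; exact hc')
  rw [show m = c⁻¹ * (c * m) by group]
  exact mul_mem (mem_sup_right (inv_mem hc.1)) (mem_sup_left ⟨mul_mem hc.2 hm, h3⟩)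

theorem inf_sup_centralizer {M C X : Subgroup H} (hMC : M ≤ normalizer (C : Set H)) (hCX : C ≤ X) :
    (M ⊔ C) ⊓ X ≤ (M ⊓ X) ⊔ C := by
  intro x hx
  obtain ⟨hx1, hx2⟩ := hx
  change x ∈ ((M ⊔ C : Subgroup H) : Set H) at hx1
  rw [coe_mul_of_left_le_normalizer_right _ _ hMC] at hx1
  obtain ⟨m, hm, c, hc, rfl⟩ := Set.mem_mul.mp hx1
  refine mul_mem (mem_sup_left ⟨hm, ?_⟩) (mem_sup_right hc)
  have h2 : m * c ∈ X := hx2
  have := mul_mem h2 (inv_mem (hCX hc))
  rwa [mul_inv_cancel_right] at this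

/-- The basic property lemma, for any `H` in which every `X ≥ T` with `O_p(X) ≠ 1` lies in `𝓛_H`. -/
theorem exists_frakM_above (T : Sylow p H)
    (hpar : ∀ X : Subgroup H, (T : Subgroup H) ≤ X → pCoreOf p X ≠ ⊥ → X ∈ charPSubgroups p H)
    {L : Subgroup H} (hTL : (T : Subgroup H) ≤ L) (hL : L ∈ charPSubgroups p H) :
    ∃ M Ls : Subgroup H, (T : Subgroup H) ≤ M ∧ IsInFrakM p M ∧ (T : Subgroup H) ≤ Ls ∧ Ls ≤ M ∧
      Ls ∈ charPSubgroups p H ∧ largestPReducedOf p L = largestPReducedOf p Ls ∧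
      largestPReducedOf p L ≤ largestPReducedOf p M ∧
      Ls ≤ normalizer (largestPReducedOf p L : Set H) ∧
      L ⊔ centralizer (largestPReducedOf p L : Set H) =
        Ls ⊔ centralizer (largestPReducedOf p L : Set H) := by
  set YL := largestPReducedOf p L with hYL
  set C := centralizer (YL : Set H) with hC
  have hTne : (T : Subgroup H) ≠ ⊥ := fun h => (mem_charP_iff.mp hL).1 (le_bot_iff.mp
    (((sylow_isSylOf_top T).of_le hTL le_top).pCoreOf_le.trans h.le))
  have hYne : ∀ {X : Subgroup H}, (T : Subgroup H) ≤ X → X ∈ charPSubgroups p H →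
      largestPReducedOf p X ≠ ⊥ := fun hTX hX h =>
    omegaZ_sylow_ne_bot T le_rfl hTne (le_bot_iff.mp (h ▸ omegaZ_le_largest T hTX (charP_of_mem hX)))
  have hup : ∀ {X : Subgroup H}, (T : Subgroup H) ≤ X → X ∈ charPSubgroups p H →
      ∀ {Z : Subgroup H}, X ≤ Z → Z ≤ normalizer (largestPReducedOf p X : Set H) →
        Z ∈ charPSubgroups p H := fun {X} hTX hX {Z} hXZ hZ => by
    refine hpar Z (hTX.trans hXZ) fun h => hYne hTX hX (le_bot_iff.mp ?_)
    exact (le_pCoreOf ((pRedIn_largest X).le.trans hXZ) hZ (pRedIn_largest X).isPGroup).trans h.le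
  -- adjoining the centraliser keeps `Y`
  have hadj : ∀ {X : Subgroup H}, (T : Subgroup H) ≤ X → X ∈ charPSubgroups p H →
      X ⊔ centralizer (largestPReducedOf p X : Set H) ∈ charPSubgroups p H ∧
        largestPReducedOf p X ≤
          largestPReducedOf p (X ⊔ centralizer (largestPReducedOf p X : Set H)) := fun {X} hTX hX =>
    ⟨hup hTX hX le_sup_left (sup_le (pRedIn_largest X).norm (centralizer_le_normalizer _)),
      largest_mono_of_sup_eq (T := T) (hTX.trans le_sup_left) hTX (by rw [sup_assoc, sup_idem])⟩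
  let good : Subgroup H → Prop := fun X => (T : Subgroup H) ≤ X ∧ X ∈ charPSubgroups p H ∧
    L ≤ (X ⊓ (L ⊔ C)) ⊔ C ∧ YL ≤ largestPReducedOf p X
  have hgood0 : good (L ⊔ C) :=
    ⟨hTL.trans le_sup_left, (hadj hTL hL).1, by rw [inf_idem]; exact le_sup_left.trans le_sup_left,
      (hadj hTL hL).2⟩
  obtain ⟨Y, ⟨X, hX, hXY⟩, hmax⟩ := (Set.toFinite {Y : Subgroup H | ∃ X, good X ∧
    largestPReducedOf p X = Y}).exists_maximal ⟨_, L ⊔ C, hgood0, rfl⟩
  have hmono : ∀ {A B : Subgroup H}, good A → A ≤ B → B ∈ charPSubgroups p H → good B := by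
    rintro A B ⟨a1, -, a3, a4⟩ hAB hB
    exact ⟨a1.trans hAB, hB, a3.trans (sup_le_sup_right (inf_le_inf_right _ hAB) _),
      a4.trans (largest_mono_of_le T a1 hAB (charP_of_mem hB))⟩
  have hYeq : ∀ {B : Subgroup H}, good B → Y ≤ largestPReducedOf p B →
      largestPReducedOf p B = Y := fun hB h => le_antisymm (hmax ⟨_, hB, rfl⟩ h) h
  obtain ⟨M0, hM0, hXM0⟩ := exists_maxCharP_ge hX.2.1
  have hM0g := hmono hX hXM0 hM0.1
  have hTM0 : (T : Subgroup H) ≤ M0 := hM0g.1
  have hY0 : largestPReducedOf p M0 = Y :=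
    hYeq hM0g (hXY ▸ largest_mono_of_le T hX.1 hXM0 (charP_of_mem hM0.1))
  set CY := centralizer (Y : Set H) with hCY
  have hYnorm : M0 ≤ normalizer (Y : Set H) := hY0 ▸ (pRedIn_largest M0).norm
  have hCM0 : CY ≤ M0 := by
    have h1 := hM0.2 _ (hadj hTM0 hM0.1).1 le_sup_left
    rw [hY0, sup_eq_left] at h1
    exact h1
  obtain ⟨M, hMM0, hM⟩ := exists_minimal_le_of_wellFoundedLT
    (fun M : Subgroup H => (T : Subgroup H) ≤ M ∧ M ⊔ CY = M0) M0 ⟨hTM0, sup_eq_left.mpr hCM0⟩
  obtain ⟨hTM, hMC⟩ := hM.prop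
  set T0 := (T : Subgroup H) ⊓ CY with hT0
  have hMY : M ≤ normalizer (Y : Set H) := hMM0.trans hYnorm
  have hS : IsSylOf p T0 CY := inf_centralizer_isSylOf T (hTM.trans hMY)
  have hMT0 : M ≤ normalizer (T0 : Set H) := by
    refine le_trans (hM.2 (y := M ⊓ normalizer (T0 : Set H)) ⟨le_inf hTM ?_, ?_⟩ inf_le_left)
      inf_le_right
    · exact LocalEven.le_normalizer_inf le_normalizer
        (LocalEven.le_normalizer_centralizer' (hTM.trans hMY))
    · refine le_antisymm (sup_le (inf_le_left.trans hMM0) hCM0) (hMC.ge.trans (sup_le ?_ le_sup_right))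
      exact le_inf_normalizer_sup T hTM hMY
  have hYne' : Y ≠ ⊥ := hY0 ▸ hYne hTM0 hM0.1
  have hYT : Y ≤ (T : Subgroup H) := hY0 ▸ (pRedIn_largest M0).le_pCoreOf.trans
    ((sylow_isSylOf_top T).of_le hTM0 le_top).pCoreOf_le
  have hYC : Y ≤ CY := le_centralizer_iff_isMulCommutative.mpr (hY0 ▸ (pRedIn_largest M0).elem.1)
  have hMc : M ∈ charPSubgroups p H := hpar M hTM fun h => hYne' (le_bot_iff.mp
    ((le_inf hYT hYC).trans ((le_pCoreOf (inf_le_left.trans hTM) hMT0
      (T.isPGroup'.to_le inf_le_left)).trans h.le)))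
  have hYM : largestPReducedOf p M = Y := by
    refine le_antisymm (hY0 ▸ largest_mono_of_le T hTM hMM0 (charP_of_mem hM0.1)) ?_
    rw [← hY0]
    refine largest_mono_of_sup_eq (T := T) hTM hTM0 ?_
    rw [hY0, hMC, sup_eq_left.mpr hCM0]
  have hYLY : YL ≤ Y := hY0 ▸ hM0g.2.2.2
  have hCYC : CY ≤ C := centralizer_le (SetLike.coe_subset_coe.mpr hYLY)
  have hLCn : L ⊔ C ≤ normalizer (C : Set H) :=
    (sup_le (pRedIn_largest L).norm (centralizer_le_normalizer _)).trans
      (LocalEven.le_normalizer_centralizer' le_rfl)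
  have hMg : good M := by
    refine ⟨hTM, hMc, hM0g.2.2.1.trans (sup_le ?_ le_sup_right), hYM ▸ hYLY⟩
    refine (inf_le_inf_right _ hMC.ge).trans ((inf_sup_centralizer ?_ (hCYC.trans le_sup_right)).trans
      (sup_le_sup_left hCYC _))
    exact LocalEven.le_normalizer_centralizer' hMY
  set N := M ⊓ CY with hN
  have hfrak : IsInFrakM p M := by
    refine ⟨hMc, ?_, ?_, ?_, ?_, ?_⟩
    · rw [hYM, hMC]; exact hM0
    · intro Z hZ hMZ
      rw [hYM, hMC]
      have hZg := hmono hMg hMZ hZ.1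
      have hYZ := hYeq hZg (hYM ▸ largest_mono_of_le T hTM hMZ (charP_of_mem hZ.1))
      have h1 := hZ.2 _ (hadj hZg.1 hZ.1).1 le_sup_left
      rw [hYZ, sup_eq_left] at h1
      exact hM0.2 Z hZ.1 (hMC.ge.trans (sup_le hMZ h1))
    · rw [hYM, hMC, hY0]
    · rw [hYM]
      have hs : IsSylOf p T0 N := hS.of_le (le_inf (inf_le_left.trans hTM) inf_le_right) inf_le_right
      obtain ⟨S, hS'⟩ := hs.exists_sylow
      refine isPClosed_of_normal S ?_
      rw [← comap_map_eq_self_of_injective N.subtype_injective (S : Subgroup N), ← hS']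
      exact subgroupOf_normal (inf_le_left.trans hMT0)
    · rw [hYM]
      set O := pCore p ↥M with hO
      set f := QuotientGroup.mk' O with hf
      set Nm := N.subgroupOf M with hNm
      haveI : Nm.Normal := subgroupOf_normal (LocalEven.le_normalizer_inf le_normalizer
        (LocalEven.le_normalizer_centralizer' hMY))
      rw [map_le_iff_le_comap]
      show Nm ≤ (frattini (↥M ⧸ O)).comap f
      rw [frattini, Order.radical, comap_iInf]
      refine le_iInf fun W => ?_
      rw [comap_iInf]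
      refine le_iInf fun hW => ?_
      set K := W.comap f with hK
      have hKc : IsCoatom K := isCoatom_comap_of_surjective (QuotientGroup.mk'_surjective O) hW
      have hOK : O ≤ K := fun x hx => by
        rw [hK, mem_comap, hf, QuotientGroup.mk'_apply, (QuotientGroup.eq_one_iff x).mpr hx]
        exact one_mem _
      by_contra hNK
      have hKN : K ⊔ Nm = ⊤ := hKc.2 _ (left_lt_sup.mpr hNK)
      have hT0O : T0.subgroupOf M ≤ O := by
        intro x hx
        exact (mem_pCoreOf x.2).mp (le_pCoreOf (inf_le_left.trans hTM) hMT0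
          (T.isPGroup'.to_le inf_le_left) hx)
      have hidx : ¬ p ∣ K.index := by
        intro h
        have e1 : (K ⊓ Nm).relIndex Nm = K.index := by
          have a : (K ⊓ Nm).relIndex K = Nm.index := by
            rw [inf_relIndex_left, ← relIndex_sup_right (H := K) (K := Nm), hKN, relIndex_top_right]
          have b1 := relIndex_mul_index (inf_le_left : K ⊓ Nm ≤ K)
          have b2 := relIndex_mul_index (inf_le_right : K ⊓ Nm ≤ Nm)
          rw [a, ← b2, mul_comm] at b1
          exact (Nat.eq_of_mul_eq_mul_right (Nat.pos_of_ne_zero index_ne_zero_of_finite) b1).symm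
        have hle : T0.subgroupOf M ≤ K ⊓ Nm := le_inf (hT0O.trans hOK)
          (comap_mono (le_inf (inf_le_left.trans hTM) inf_le_right))
        have hs : IsSylOf p T0 N :=
          hS.of_le (le_inf (inf_le_left.trans hTM) inf_le_right) inf_le_right
        have e2 : (T0.subgroupOf M).relIndex Nm = T0.relIndex N :=
          (relIndex_comap _ _ _).trans (by rw [map_subgroupOf_eq_of_le inf_le_left])
        have h2 := h.trans (e1 ▸ relIndex_dvd_of_le_left Nm hle)
        rw [e2] at h2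
        exact (Fact.out : p.Prime).one_lt.ne'
          (Nat.eq_one_of_dvd_coprimes (LocalEven.IsSylOf.relIndex_coprime hs).symm dvd_rfl h2)
      obtain ⟨SK, hSK⟩ := LocalEven.exists_isSylOf (p := p) (K.map M.subtype)
      have hKM : K.map M.subtype ≤ M := map_subtype_le K
      have hSKM : IsSylOf p SK M := by
        refine ⟨hSK.1.trans hKM, ?_⟩
        rw [hSK.2, card_subtype, ← card_mul_index K,
          Nat.factorization_mul Nat.card_pos.ne' index_ne_zero_of_finite, Finsupp.add_apply,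
          Nat.factorization_eq_zero_of_not_dvd hidx, add_zero]
      obtain ⟨m, hm, hmS⟩ := hSKM.exists_conj ((sylow_isSylOf_top T).of_le hTM le_top)
      set K' := cj m (K.map M.subtype) with hK'
      have hTK' : (T : Subgroup H) ≤ K' := hmS.ge.trans (LocalEven.cj_le_cj hSK.1)
      have hK'M : K' ≤ M := (LocalEven.cj_le_cj hKM).trans (LocalEven.cj_of_mem hm).le
      have h3 : M = K' ⊔ N := by
        have h4 := congrArg (fun Z : Subgroup M => cj m (Z.map M.subtype)) hKN
        simp only [Subgroup.map_sup, ← MonoidHom.range_eq_map, range_subtype] at h4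
        have hmN : N.map (MulAut.conj m).toMonoidHom = N := map_conj_eq_iff.mpr
          (LocalEven.le_normalizer_inf le_normalizer
            (LocalEven.le_normalizer_centralizer' hMY) hm)
        rw [map_subgroupOf_eq_of_le inf_le_left, hmN] at h4
        exact ((map_conj_eq_iff.mpr (le_normalizer hm)).symm.trans h4.symm)
      have h4 : K' ⊔ CY = M0 := by
        refine le_antisymm (sup_le (hK'M.trans hMM0) hCM0) (hMC.ge.trans (sup_le ?_ le_sup_right))
        exact h3.le.trans (sup_le_sup_left inf_le_right _)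
      have h5 : M ≤ K' := hM.2 ⟨hTK', h4⟩ hK'M
      refine hKc.1 ((card_eq_iff_eq_top K).mp (le_antisymm (card_le_card_group K) ?_))
      refine (card_le_of_le h5).trans ?_
      rw [hK', LocalEven.card_cj, card_subtype]
  -- the subgroup `L*`
  set M' := M ⊓ (L ⊔ C) with hM'
  have hTM' : (T : Subgroup H) ≤ M' := le_inf hTM (hTL.trans le_sup_left)
  have hOT : pCoreOf p M ≤ (T : Subgroup H) := ((sylow_isSylOf_top T).of_le hTM le_top).pCoreOf_le
  have hM'c : M' ∈ charPSubgroups p H := hpar M' hTM' fun h => (mem_charP_iff.mp hMc).1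
    (le_bot_iff.mp ((le_pCoreOf (hOT.trans hTM') (inf_le_left.trans (le_normalizer_pCoreOf M))
      (isPGroup_pCoreOf M)).trans h.le))
  have hfac : M' ⊔ C = L ⊔ C :=
    le_antisymm (sup_le inf_le_right le_sup_right) (sup_le hMg.2.2.1 le_sup_right)
  set Ls := M' ⊓ normalizer (((T : Subgroup H) ⊓ C : Subgroup H) : Set H) with hLs
  obtain ⟨e1, e2⟩ := Cfsg.Agent.S2824.result T L M' hTL hTM' (charP_of_mem hL) (charP_of_mem hM'c)
    _ rfl hfac Ls rfl
  have hTLs : (T : Subgroup H) ≤ Ls := le_inf hTM' (LocalEven.le_normalizer_inf le_normalizer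
    (LocalEven.le_normalizer_centralizer' (hTL.trans (pRedIn_largest L).norm)))
  refine ⟨M, Ls, hTM, hfrak, hTLs, inf_le_left.trans inf_le_left, hpar Ls hTLs fun h => ?_, e1.symm,
    hYM ▸ hYLY, (inf_le_left.trans inf_le_right).trans
      (sup_le (pRedIn_largest L).norm (centralizer_le_normalizer _)), e2⟩
  exact (mem_charP_iff.mp hMc).1 (le_bot_iff.mp ((le_pCoreOf (hOT.trans hTLs)
    ((inf_le_left.trans inf_le_left).trans (le_normalizer_pCoreOf M)) (isPGroup_pCoreOf M)).trans h.le))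

end CfsgLib.LocalStr
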