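import Cfsg.Agent.Lib.LocalStr.Asymmetric
import Cfsg.Agent.Lib.Components.GenFitting

/-!
Detecting `C(Y_M)` through the generalized Fitting subgroup of `M† / C(Y_M)`.
-/

set_option autoImplicit false
set_option linter.style.haveILetI false
set_option linter.unusedSectionVars false

namespace CfsgLib.LocalStr

open Subgroup Cfsg

/-- A `p`-subgroup normalised by `F*` is trivial when `O_p = 1`. -/
theorem eq_bot_of_genFitting_le_normalizer {Q : Type*} [Group Q] [Finite Q] {p : ℕ} [Fact p.Prime]
    (hQ : pCore p Q = ⊥) {A : Subgroup Q} (hA : IsPGroup p A)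
    (hn : generalizedFittingSubgroup Q ≤ normalizer (A : Set Q)) : A = ⊥ := by
  set F := generalizedFittingSubgroup Q with hF
  have hB : F ⊓ A = ⊥ := le_bot_iff.mp (hQ ▸ Components.le_pCore_of_isSubnormal
    (Components.isSubnormal_of_le_normalizer inf_le_left
      (LocalEven.le_normalizer_inf le_normalizer hn) (Normal.isSubnormal inferInstance))
    (hA.to_le inf_le_right))
  have h1 : A ≤ centralizer (F : Set Q) := by
    refine commutator_eq_bot_iff_le_centralizer.mp (le_bot_iff.mp (hB ▸ le_inf ?_ ?_))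
    · exact le_normalizer_iff_commutator_le_right.mp le_normalizer_of_normal
    · exact le_normalizer_iff_commutator_le_left.mp hn
  rw [← le_bot_iff, ← hB]
  exact le_inf (h1.trans Components.centralizer_genFitting_le) le_rfl

variable {G : Type*} [Group G] [Finite G] {p : ℕ} [Fact p.Prime] {M : Subgroup G}

/-- A `p`-mod-`C(Y_M)` subgroup of `M†` normalised by the preimage of `F*` lies in `C(Y_M)`. -/
theorem le_centralizer_of_genFitting (hM : IsInFrakM p M)
    [hn : ((centralizer (largestPReducedOf p M : Set G)).subgroupOf (daggerOf p M)).Normal]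
    {A : Subgroup G} (hAD : A ≤ daggerOf p M)
    (hA : LocalEven.IsPMod p (centralizer (largestPReducedOf p M : Set G)) A)
    (hF : ((generalizedFittingSubgroup
        (↥(daggerOf p M) ⧸ (centralizer (largestPReducedOf p M : Set G)).subgroupOf
          (daggerOf p M))).comap
      (QuotientGroup.mk' ((centralizer (largestPReducedOf p M : Set G)).subgroupOf
        (daggerOf p M)))).map (daggerOf p M).subtype ≤ normalizer (A : Set G)) :
    A ≤ centralizer (largestPReducedOf p M : Set G) := by
  set D := daggerOf p M with hD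
  set C := centralizer (largestPReducedOf p M : Set G) with hC
  set f := QuotientGroup.mk' (C.subgroupOf D) with hf
  have hker : ∀ {x : D}, f x = 1 ↔ (x : G) ∈ C := fun {x} =>
    (QuotientGroup.eq_one_iff x).trans mem_subgroupOf
  have hpm : ∀ {N : Subgroup D}, (∀ x ∈ N, ∃ k : ℕ, (x : G) ^ p ^ k ∈ C) →
      IsPGroup p ↥(N.map f) := by
    rintro N h ⟨_, x, hx, rfl⟩
    obtain ⟨k, hk⟩ := h x hx
    refine ⟨k, Subtype.ext ?_⟩
    rw [SubmonoidClass.coe_pow, OneMemClass.coe_one]
    show f x ^ p ^ k = 1
    rw [← map_pow, hker]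
    simpa using hk
  -- `O_p(D / C) = 1`
  have hQ : pCore p (D ⧸ C.subgroupOf D) = ⊥ := by
    set N0 := ((pCore p (D ⧸ C.subgroupOf D)).comap f).map D.subtype with hN0
    have h1 : N0 ≤ C := by
      have hY : largestPReducedOf p M = largestPReducedOf p D := hM.2.2.2.1
      rw [hC, hY]
      refine (pRedIn_largest D).red N0 (map_subtype_le _) (map_subtype_le_normalizer inferInstance) ?_
      rintro _ ⟨x, hx, rfl⟩
      obtain ⟨k, hk⟩ := Components.isPGroup_pCore p ⟨f x, hx⟩
      refine ⟨k, ?_⟩
      rw [← hY, ← hC]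
      have h2 : f x ^ p ^ k = 1 := congrArg Subtype.val hk
      rw [← map_pow, hker] at h2
      simpa using h2
    rw [eq_bot_iff]
    intro q hq
    obtain ⟨x, rfl⟩ := QuotientGroup.mk'_surjective (C.subgroupOf D) q
    exact mem_bot.mpr (hker.mpr (h1 ⟨x, hq, rfl⟩))
  have hbot := eq_bot_of_genFitting_le_normalizer hQ
    (hpm (N := A.subgroupOf D) fun x hx => hA x hx) ?_
  · intro a ha
    exact (@hker ⟨a, hAD ha⟩).mp (mem_bot.mp (hbot ▸ mem_map_of_mem f (show (⟨a, hAD ha⟩ : D) ∈ A.subgroupOf D from mem_subgroupOf.mpr ha)))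
  · intro q hq
    obtain ⟨x, rfl⟩ := QuotientGroup.mk'_surjective (C.subgroupOf D) q
    have h1 : x ∈ normalizer (A.subgroupOf D : Set D) :=
      le_normalizer_comap D.subtype (mem_comap.mpr (hF ⟨x, hq, rfl⟩))
    exact le_normalizer_map f (mem_map_of_mem f h1)

end CfsgLib.LocalStr
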