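import Cfsg.Agent.Lib.LocalStr.Irreducible
import Mathlib.Tactic.Group

/-!
Weakly closed `p`-subgroups of a finite group.
-/

set_option autoImplicit false
set_option linter.style.haveILetI false
set_option linter.unusedSectionVars false

namespace CfsgLib.LocalStr

open Subgroup Cfsg
open CfsgLib.LocalEven (IsSylOf cj)
open scoped commutatorElement

variable {H : Type*} [Group H] [Finite H] {p : ℕ} [Fact p.Prime] {Q : Subgroup H}

theorem isSylOf_of_le {T K : Subgroup H} (hT : IsSylOf p T ⊤) (hTK : T ≤ K) : IsSylOf p T K := by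
  obtain ⟨U, hU, hTU⟩ := LocalEven.exists_isSylOf_ge hT.isPGroup hTK
  refine ⟨hTK, ?_⟩
  rw [← hU.2]
  rw [hT.of_isPGroup_ge (P := U) hU.isPGroup hTU le_top]

theorem wc_sylow (h : IsWeaklyClosedSubgroup p Q) (S : Sylow p H) (hQS : Q ≤ S) :
    IsWeaklyClosed Q (S : Subgroup H) := by
  obtain ⟨T, hQT, hT⟩ := h
  obtain ⟨x, hx⟩ := MulAction.exists_smul_eq H T S
  have hS : (S : Subgroup H) = (T : Subgroup H).map (MulAut.conj x).toMonoidHom := by
    rw [← hx]; rfl
  refine ⟨hQS, fun g hg => ?_⟩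
  have hback : ∀ g : H, Q.map (MulAut.conj g).toMonoidHom ≤ S →
      Q.map (MulAut.conj g).toMonoidHom = Q.map (MulAut.conj x).toMonoidHom := by
    intro g hg
    have h1 : Q.map (MulAut.conj (x⁻¹ * g)).toMonoidHom ≤ T := by
      rw [← map_conj_conj, ← map_conj_inv_conj x (T : Subgroup H), ← hS]
      exact map_mono hg
    have h2 := congrArg (Subgroup.map (MulAut.conj x).toMonoidHom) (hT _ h1)
    rwa [map_conj_conj, mul_inv_cancel_left] at h2
  have h1 : Q.map (MulAut.conj (1 : H)).toMonoidHom = Q := map_conj_eq_iff.mpr (one_mem _)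
  have hQx := hback 1 (h1.le.trans hQS)
  rw [h1] at hQx
  exact (hback g hg).trans hQx.symm

theorem wc_pGroup (h : IsWeaklyClosedSubgroup p Q) {P : Subgroup H} (hP : IsPGroup p P)
    (hQP : Q ≤ P) {g : H} (hg : Q.map (MulAut.conj g).toMonoidHom ≤ P) :
    Q.map (MulAut.conj g).toMonoidHom = Q := by
  obtain ⟨S, hS⟩ := hP.exists_le_sylow
  exact (wc_sylow h S (hQP.trans hS)).2 g (hg.trans hS)

theorem wc_normalizer_le (h : IsWeaklyClosedSubgroup p Q) {R : Subgroup H} (hR : IsPGroup p R)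
    (hQR : Q ≤ R) : normalizer (R : Set H) ≤ normalizer (Q : Set H) := fun g hg =>
  map_conj_eq_iff.mp (wc_pGroup h hR hQR
    ((map_mono hQR).trans (map_conj_eq_iff.mpr hg).le))

theorem wc_le_normalizer (h : IsWeaklyClosedSubgroup p Q) {R : Subgroup H} (hR : IsPGroup p R)
    (hQR : Q ≤ R) : R ≤ normalizer (Q : Set H) :=
  le_normalizer.trans (wc_normalizer_le h hR hQR)

theorem wc_isPGroup (h : IsWeaklyClosedSubgroup p Q) : IsPGroup p Q := by
  obtain ⟨T, hQT, -⟩ := h
  exact T.isPGroup'.to_le hQT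

theorem wc_of_normalizer_le (hQp : IsPGroup p Q)
    (h : ∀ R : Subgroup H, IsPGroup p R → Q ≤ R →
      normalizer (R : Set H) ≤ normalizer (Q : Set H)) :
    IsWeaklyClosedSubgroup p Q := by
  obtain ⟨S, hQS⟩ := hQp.exists_le_sylow
  refine ⟨S, hQS, fun g hg => map_conj_eq_iff.mpr ?_⟩
  have hN := h S S.isPGroup' hQS
  have hS' : (S : Subgroup H).map (MulAut.conj g⁻¹).toMonoidHom ≤ normalizer (Q : Set H) := by
    refine le_normalizer.trans (h _ (S.isPGroup'.map _) ?_)
    rw [← map_conj_inv_conj g Q]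
    exact map_mono hg
  obtain ⟨n, hn, hn'⟩ := (isSylOf_of_le (sylow_isSylOf_top S) (le_normalizer.trans hN)).exists_conj
    (U := (S : Subgroup H).map (MulAut.conj g⁻¹).toMonoidHom)
    (isSylOf_of_le ⟨le_top, by rw [← (sylow_isSylOf_top S).2]; exact LocalEven.card_cj g⁻¹ _⟩ hS')
  have h2 : g * n ∈ normalizer (S : Set H) := by
    refine map_conj_eq_iff.mp ?_
    rw [← map_conj_conj]
    have h3 : (S : Subgroup H).map (MulAut.conj n).toMonoidHom =
        (S : Subgroup H).map (MulAut.conj g⁻¹).toMonoidHom := hn'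
    rw [h3, map_conj_conj, mul_inv_cancel]
    exact LocalEven.cj_one _
  simpa using mul_mem (hN h2) (inv_mem hn)

theorem wc_conj_in_subgroup (h : IsWeaklyClosedSubgroup p Q) {K : Subgroup H} (hQK : Q ≤ K)
    {g : H} (hg : Q.map (MulAut.conj g).toMonoidHom ≤ K) :
    ∃ k ∈ K, Q.map (MulAut.conj g).toMonoidHom = Q.map (MulAut.conj k).toMonoidHom := by
  obtain ⟨U, hU, hQU⟩ := LocalEven.exists_isSylOf_ge (wc_isPGroup h) hQK
  obtain ⟨V, hV, hgV⟩ := LocalEven.exists_isSylOf_ge ((wc_isPGroup h).map _) hg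
  obtain ⟨k, hk, hkU⟩ := hV.exists_conj hU
  refine ⟨k⁻¹, inv_mem hk, ?_⟩
  have h1 : Q.map (MulAut.conj (k * g)).toMonoidHom = Q := by
    refine wc_pGroup h hU.isPGroup hQU ?_
    rw [← map_conj_conj]
    exact (map_mono hgV).trans (le_of_eq hkU)
  conv_rhs => rw [← h1, map_conj_conj, inv_mul_cancel_left]

theorem wc_subgroupOf (h : IsWeaklyClosedSubgroup p Q) {K : Subgroup H} (hQK : Q ≤ K) :
    IsWeaklyClosedSubgroup p (Q.subgroupOf K) := by
  obtain ⟨U, hU⟩ := ((wc_isPGroup h).of_equiv (subgroupOfEquivOfLe hQK).symm).exists_le_sylow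
  refine ⟨U, hU, fun k hk => ?_⟩
  refine map_injective K.subtype_injective ?_
  have key : ((Q.subgroupOf K).map (MulAut.conj k).toMonoidHom).map K.subtype =
      Q.map (MulAut.conj (k : H)).toMonoidHom := by
    conv_rhs => rw [← map_subgroupOf_eq_of_le hQK]
    rw [map_map, map_map]
    rfl
  rw [key, map_subgroupOf_eq_of_le hQK]
  refine wc_pGroup h (U.isPGroup'.map K.subtype) ?_ ?_
  · exact (map_subgroupOf_eq_of_le hQK).ge.trans (map_mono hU)
  · exact key.ge.trans (map_mono hk)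

theorem wc_exists_sylow_le_normalizer (h : IsWeaklyClosedSubgroup p Q) :
    ∃ S : Sylow p H, Q ≤ S ∧ (S : Subgroup H) ≤ normalizer (Q : Set H) := by
  obtain ⟨S, hS⟩ := (wc_isPGroup h).exists_le_sylow
  exact ⟨S, hS, wc_le_normalizer h S.isPGroup' hS⟩

theorem weakClosure_le (Q L : Subgroup H) : weakClosure Q L ≤ L :=
  iSup_le fun g => g.2

theorem conj_le_weakClosure {L : Subgroup H} {g : H}
    (hg : Q.map (MulAut.conj g).toMonoidHom ≤ L) :
    Q.map (MulAut.conj g).toMonoidHom ≤ weakClosure Q L :=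
  le_iSup (fun g : {g : H // Q.map (MulAut.conj g).toMonoidHom ≤ L} =>
    Q.map (MulAut.conj (g : H)).toMonoidHom) ⟨g, hg⟩

theorem le_weakClosure {L : Subgroup H} (hQL : Q ≤ L) : Q ≤ weakClosure Q L := by
  have h1 : Q.map (MulAut.conj (1 : H)).toMonoidHom = Q := map_conj_eq_iff.mpr (one_mem _)
  exact h1.ge.trans (conj_le_weakClosure (h1.le.trans hQL))

theorem weakClosure_mono {L M : Subgroup H} (h : L ≤ M) : weakClosure Q L ≤ weakClosure Q M :=
  iSup_le fun g => conj_le_weakClosure (g.2.trans h)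

theorem weakClosure_weakClosure (Q L : Subgroup H) :
    weakClosure Q (weakClosure Q L) = weakClosure Q L :=
  le_antisymm (weakClosure_le _ _) (iSup_le fun g => conj_le_weakClosure (conj_le_weakClosure g.2))

theorem weakClosure_conj (x : H) (L : Subgroup H) :
    (weakClosure Q L).map (MulAut.conj x).toMonoidHom =
      weakClosure Q (L.map (MulAut.conj x).toMonoidHom) := by
  have key : ∀ (x : H) (L : Subgroup H), (weakClosure Q L).map (MulAut.conj x).toMonoidHom ≤
      weakClosure Q (L.map (MulAut.conj x).toMonoidHom) := by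
    intro x L
    rw [weakClosure, Subgroup.map_iSup]
    refine iSup_le fun g => ?_
    rw [map_conj_conj]
    refine conj_le_weakClosure ?_
    rw [← map_conj_conj]
    exact map_mono g.2
  refine le_antisymm (key x L) ?_
  have h1 := map_mono (f := (MulAut.conj x).toMonoidHom) (key x⁻¹ (L.map (MulAut.conj x).toMonoidHom))
  rw [map_conj_inv_conj, map_conj_conj, mul_inv_cancel] at h1
  exact le_trans (le_of_eq (LocalEven.cj_one _).symm) h1

theorem le_normalizer_weakClosure {X L : Subgroup H} (hX : X ≤ normalizer (L : Set H)) :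
    X ≤ normalizer (weakClosure Q L : Set H) := by
  intro x hx
  refine map_conj_eq_iff.mp ?_
  rw [weakClosure_conj, map_conj_eq_iff.mpr (hX hx)]

theorem weakClosure_eq_iSup (h : IsWeaklyClosedSubgroup p Q) {K : Subgroup H} (hQK : Q ≤ K) :
    weakClosure Q K = ⨆ k : K, Q.map (MulAut.conj (k : H)).toMonoidHom := by
  refine le_antisymm (iSup_le fun g => ?_) (iSup_le fun k => ?_)
  · obtain ⟨k, hk, hgk⟩ := wc_conj_in_subgroup h hQK g.2
    exact hgk.le.trans (le_iSup (fun k : K => Q.map (MulAut.conj (k : H)).toMonoidHom) ⟨k, hk⟩)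
  · exact conj_le_weakClosure (map_conj_le_of_mem hQK k.2)

/-- The weak closure lies in every subnormal subgroup above `Q`. -/
theorem weakClosure_le_of_isSubnormal (h : IsWeaklyClosedSubgroup p Q) {K X : Subgroup H}
    (hQX : Q ≤ X) (hXK : X ≤ K) (hsub : (X.subgroupOf K).IsSubnormal) :
    weakClosure Q K ≤ X := by
  suffices hk : ∀ Y : Subgroup K, Y.IsSubnormal → Q ≤ Y.map K.subtype →
      weakClosure Q K ≤ Y.map K.subtype by
    have := hk _ hsub (by rwa [map_subgroupOf_eq_of_le hXK])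
    rwa [map_subgroupOf_eq_of_le hXK] at this
  intro Y hY
  induction hY with
  | top =>
    intro _
    rw [← MonoidHom.range_eq_map, range_subtype]
    exact weakClosure_le Q K
  | step A B hAB hB hN ih =>
    intro hQA
    refine iSup_le fun g => ?_
    have hgB := (conj_le_weakClosure g.2).trans (ih (hQA.trans (map_mono hAB)))
    obtain ⟨b, hb, hgb⟩ := wc_conj_in_subgroup h (hQA.trans (map_mono hAB)) hgB
    rw [hgb]
    refine (map_mono hQA).trans ?_
    obtain ⟨b, hb', rfl⟩ := hb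
    rintro _ ⟨_, ⟨a, ha, rfl⟩, rfl⟩
    refine ⟨b * a * b⁻¹, ?_, by simp⟩
    exact hN.conj_mem ⟨a, hAB ha⟩ ha ⟨b, hb'⟩

end CfsgLib.LocalStr
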