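import Cfsg.Agent.Lib.LocalStr.Large
import Cfsg.Agent.Lib.LocalStr.WeaklyClosed
import Cfsg.Agent.Lib.LocalStr.PReduced

/-!
Members of `𝔐_G` above a Sylow subgroup, in the presence of a large subgroup.
-/

set_option autoImplicit false
set_option linter.style.haveILetI false
set_option linter.unusedSectionVars false

namespace CfsgLib.LocalStr

open Subgroup Cfsg
open CfsgLib.LocalEven (IsSylOf cj omegaZ)

variable {G : Type*} [Group G] [Finite G] {p : ℕ} [Fact p.Prime]

theorem mem_charP_iff {L : Subgroup G} :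
    L ∈ charPSubgroups p G ↔
      pCoreOf p L ≠ ⊥ ∧ centralizer (pCoreOf p L : Set G) ≤ pCoreOf p L := by
  show (pCore p ↥L ≠ ⊥ ∧ centralizer (pCoreOf p L : Set G) ≤ pCoreOf p L) ↔ _
  rw [ne_eq, pCore_eq_bot_iff_pCoreOf]

theorem charP_of_mem {L : Subgroup G} (hL : L ∈ charPSubgroups p G) :
    centralizer (pCore p ↥L : Set ↥L) ≤ pCore p ↥L :=
  centralizer_pCore_le_iff.mpr fun _ _ hx => (mem_charP_iff.mp hL).2 hx

theorem exists_maxCharP_ge {L : Subgroup G} (hL : L ∈ charPSubgroups p G) :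
    ∃ X ∈ maxCharPSubgroups p G, L ≤ X := by
  obtain ⟨X, hLX, hX⟩ := (Set.toFinite (charPSubgroups p G)).exists_le_maximal hL
  exact ⟨X, ⟨hX.prop, fun Y hY hle => le_antisymm (hX.2 hY hle) hle⟩, hLX⟩

/-- A subgroup containing a large `Q` with nontrivial `O_p` lies in `𝓛`. -/
theorem mem_charP_of_large {Q : Subgroup G} (hQ : IsLarge Q) (hQp : IsPGroup p Q) (hQ1 : Q ≠ ⊥)
    {L : Subgroup G} (hQL : Q ≤ L) (hO : pCoreOf p L ≠ ⊥)
    (hC : centralizer (pCoreOf p L : Set G) ≤ L) : L ∈ charPSubgroups p G :=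
  mem_charP_iff.mpr ⟨hO, fun x hx => (large_pCoreOf hQ hQp hQ1 hQL hO).2 x (hC hx) hx⟩

theorem omegaZ_sylow_ne_bot (S : Sylow p G) {Q : Subgroup G} (hQS : Q ≤ (S : Subgroup G))
    (hQ1 : Q ≠ ⊥) : omegaZ p (S : Subgroup G) ≠ ⊥ := by
  intro h
  obtain ⟨z, hz, hzc, hz1⟩ := exists_ne_one_centralized S.isPGroup' S.isPGroup' le_normalizer
    (fun h' : (S : Subgroup G) = ⊥ => hQ1 (le_bot_iff.mp (hQS.trans h'.le)))
  have := LocalEven.omegaOne_eq_bot (S.isPGroup'.to_le inf_le_left) h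
  exact hz1 (mem_bot.mp (this ▸ (⟨hz, hzc⟩ :
    z ∈ (S : Subgroup G) ⊓ centralizer ((S : Subgroup G) : Set G))))

variable {M : Subgroup G}

/-- `M† = M C(Y_M)`. -/
abbrev daggerOf (p : ℕ) (M : Subgroup G) : Subgroup G :=
  M ⊔ centralizer (largestPReducedOf p M : Set G)

theorem daggerOf_le_normalizer (M : Subgroup G) :
    daggerOf p M ≤ normalizer (largestPReducedOf p M : Set G) :=
  sup_le (pRedIn_largest M).norm (centralizer_le_normalizer _)

theorem pCoreOf_eq_inf_centralizer (S : Sylow p G) (hSM : (S : Subgroup G) ≤ M)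
    (hM : IsInFrakM p M) :
    pCoreOf p M = (S : Subgroup G) ⊓ centralizer (largestPReducedOf p M : Set G) := by
  refine le_antisymm (le_inf ((sylow_isSylOf_top S).of_le hSM le_top).pCoreOf_le
    (pRedIn_largest M).pCoreOf_le_centralizer) ?_
  set C := M ⊓ centralizer (largestPReducedOf p M : Set G) with hC
  have : (C.subgroupOf M).Normal := subgroupOf_normal
    (LocalEven.le_normalizer_inf le_normalizer
      (LocalEven.le_normalizer_centralizer' (pRedIn_largest M).norm))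
  have hcl : IsPClosed p ↥(C.subgroupOf M) :=
    (isPClosed_mulEquiv (subgroupOfEquivOfLe inf_le_left)).mpr hM.2.2.2.2.1
  intro x hx
  refine (mem_pCoreOf (hSM hx.1)).mpr (le_pCore_of_le_pClosed hcl
    (P := ((S : Subgroup G) ⊓ centralizer (largestPReducedOf p M : Set G)).subgroupOf M)
    (comap_mono (inf_le_inf_right _ hSM))
    ((S.isPGroup'.to_le inf_le_left).comap_of_injective _ M.subtype_injective)
    (mem_subgroupOf.mpr hx))

theorem largest_ne_bot {Q : Subgroup G} (hQ1 : Q ≠ ⊥) (S : Sylow p G)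
    (hQS : Q ≤ (S : Subgroup G)) (hSM : (S : Subgroup G) ≤ M) (hM : IsInFrakM p M) :
    largestPReducedOf p M ≠ ⊥ := fun h =>
  omegaZ_sylow_ne_bot S hQS hQ1
    (le_bot_iff.mp (h ▸ omegaZ_le_largest S hSM (charP_of_mem hM.1)))

theorem normalizer_largest_eq {Q : Subgroup G} (hQ : IsLarge Q) (hQp : IsPGroup p Q) (hQ1 : Q ≠ ⊥)
    (S : Sylow p G) (hQS : Q ≤ (S : Subgroup G)) (hSM : (S : Subgroup G) ≤ M)
    (hM : IsInFrakM p M) :
    normalizer (largestPReducedOf p M : Set G) = daggerOf p M := by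
  set Y := largestPReducedOf p M with hY
  set N := normalizer (Y : Set G) with hN
  have hMN : M ≤ N := (pRedIn_largest M).norm
  have hYO : Y ≤ pCoreOf p N :=
    le_pCoreOf (le_normalizer (H := Y)) le_rfl (pRedIn_largest M).isPGroup
  have hO : pCoreOf p N ≠ ⊥ := fun h =>
    largest_ne_bot hQ1 S hQS hSM hM (le_bot_iff.mp (hYO.trans h.le))
  have hNc : N ∈ charPSubgroups p G := mem_charP_of_large hQ hQp hQ1 ((hQS.trans hSM).trans hMN) hO
    ((centralizer_le (SetLike.coe_subset_coe.mpr hYO)).trans (centralizer_le_normalizer _))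
  obtain ⟨X, hX, hNX⟩ := exists_maxCharP_ge hNc
  exact le_antisymm (hNX.trans (hM.2.2.1 X hX (hMN.trans hNX)).le) (daggerOf_le_normalizer M)

theorem pCoreOf_wc_dagger (S : Sylow p G) (hSM : (S : Subgroup G) ≤ M) (hM : IsInFrakM p M) :
    IsWeaklyClosedSubgroup p ((pCoreOf p M).subgroupOf (daggerOf p M)) := by
  set D := daggerOf p M with hD
  set C := centralizer (largestPReducedOf p M : Set G) with hC
  have hSD : (S : Subgroup G) ≤ D := hSM.trans le_sup_left
  have hP : pCoreOf p M = (S : Subgroup G) ⊓ C := pCoreOf_eq_inf_centralizer S hSM hM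
  have hDC : D ≤ normalizer (C : Set G) :=
    LocalEven.le_normalizer_centralizer' (daggerOf_le_normalizer M)
  refine ⟨S.subtype hSD, comap_mono (hP.trans_le inf_le_left), fun g hg => ?_⟩
  refine map_injective D.subtype_injective ?_
  have key : (((pCoreOf p M).subgroupOf D).map (MulAut.conj g).toMonoidHom).map D.subtype =
      (pCoreOf p M).map (MulAut.conj (g : G)).toMonoidHom := by
    conv_rhs => rw [← map_subgroupOf_eq_of_le ((pCoreOf_le M).trans le_sup_left : pCoreOf p M ≤ D)]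
    rw [map_map, map_map]
    rfl
  rw [key, map_subgroupOf_eq_of_le ((pCoreOf_le M).trans le_sup_left : pCoreOf p M ≤ D)]
  refine eq_of_le_of_card_ge ?_ (Components.card_map_conj (g : G) _).ge
  refine (le_inf ?_ ?_).trans hP.ge
  · rw [← key]
    exact (map_mono hg).trans (map_subgroupOf_eq_of_le hSD).le
  · rw [hP]
    exact (map_mono inf_le_right).trans (map_conj_eq_iff.mpr (hDC g.2)).le

theorem centralizes_of_not_symmetric {A : Subgroup G} (h : ¬ IsSymmetricIn A) {g : G}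
    (h1 : A.map (MulAut.conj g).toMonoidHom ≤ normalizer (A : Set G))
    (h2 : A ≤ normalizer ((A.map (MulAut.conj g).toMonoidHom : Subgroup G) : Set G)) :
    A ≤ centralizer ((A.map (MulAut.conj g).toMonoidHom : Subgroup G) : Set G) := by
  refine commutator_eq_bot_iff_le_centralizer.mp ?_
  by_contra hne
  exact h ⟨g, hne, le_inf (le_normalizer_iff_commutator_le_left.mp h1)
    (le_normalizer_iff_commutator_le_right.mp h2)⟩

/-- The conjugates of an asymmetric `A` by a subgroup `N` mutually normalising them commute. -/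
theorem elemAb_sSup_conj {A N : Subgroup G} (h : ¬ IsSymmetricIn A)
    (he : IsElementaryAbelian p A)
    (hn : ∀ a ∈ N, A.map (MulAut.conj a).toMonoidHom ≤ normalizer (A : Set G)) :
    IsElementaryAbelian p
      (sSup {B : Subgroup G | ∃ a ∈ N, B = A.map (MulAut.conj a).toMonoidHom}) := by
  refine LocalEven.elemAb_sSup ?_ ?_
  · rintro B ⟨a, -, rfl⟩ _ ⟨y, hy, rfl⟩
    rw [← map_pow, he.2 y hy, map_one]
  · rintro B ⟨a, ha, rfl⟩ D ⟨b, hb, rfl⟩ _ ⟨x, hx, rfl⟩ _ ⟨y, hy, rfl⟩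
    have h1 := hn (a⁻¹ * b) (mul_mem (inv_mem ha) hb)
    have h2 : A ≤ normalizer ((A.map (MulAut.conj (a⁻¹ * b)).toMonoidHom : Subgroup G) : Set G) := by
      have h3 := (map_mono (f := (MulAut.conj (a⁻¹ * b)).toMonoidHom)
        (hn (b⁻¹ * a) (mul_mem (inv_mem hb) ha))).trans (le_normalizer_map _)
      rw [map_conj_conj, show a⁻¹ * b * (b⁻¹ * a) = 1 by group] at h3
      exact (le_of_eq (LocalEven.cj_one A).symm).trans h3
    have hc := centralizes_of_not_symmetric h h1 h2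
    have h4 := mem_centralizer_iff.mp (hc hx) _ (mem_map_of_mem _ hy)
    have h5 := congrArg (MulAut.conj a) h4
    simp only [MulEquiv.coe_toMonoidHom, MulAut.conj_apply] at h5 ⊢
    calc a * x * a⁻¹ * (b * y * b⁻¹) = a * (x * (a⁻¹ * b * y * (a⁻¹ * b)⁻¹)) * a⁻¹ := by group
      _ = a * ((a⁻¹ * b * y * (a⁻¹ * b)⁻¹) * x) * a⁻¹ := h5.symm
      _ = b * y * b⁻¹ * (a * x * a⁻¹) := by group

theorem isElementaryAbelian_of_le {A B : Subgroup G} (hAB : A ≤ B) (hB : IsElementaryAbelian p B) :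
    IsElementaryAbelian p A :=
  ⟨⟨⟨fun a b => Subtype.ext (by
      simpa using congrArg Subtype.val (hB.1.is_comm.comm ⟨a, hAB a.2⟩ ⟨b, hAB b.2⟩))⟩⟩,
    fun a ha => hB.2 a (hAB ha)⟩

theorem normalClosure_map_le_sSup_conj {A N : Subgroup G} :
    (normalClosure ((A.subgroupOf N : Subgroup N) : Set N)).map N.subtype ≤
      sSup {B : Subgroup G | ∃ a ∈ N, B = A.map (MulAut.conj a).toMonoidHom} := by
  rw [normalClosure, map_le_iff_le_comap, closure_le]
  intro x hx
  obtain ⟨y, hy, hxy⟩ := Group.mem_conjugatesOfSet_iff.mp hx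
  obtain ⟨c, rfl⟩ := isConj_iff.mp hxy
  exact le_sSup (s := {B : Subgroup G | ∃ a ∈ N, B = A.map (MulAut.conj a).toMonoidHom})
    ⟨c, c.2, rfl⟩ ⟨y, hy, rfl⟩

end CfsgLib.LocalStr
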