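import Cfsg.Agent.Lib.SuzukiMatrix.Star
import Mathlib.LinearAlgebra.Matrix.Notation
import Mathlib.Algebra.Field.ZMod

/-!
The matrix group `Sz(2)` is not generated by its involutions.
-/

set_option autoImplicit false

namespace CfsgLib.LocalStr.SzTwo

open Matrix

/-- The symplectic condition on two columns. -/
abbrev colsB (u v : Fin 4 → ZMod 2) (c : ZMod 2) : Prop :=
  u 0 * v 3 + u 1 * v 2 + u 2 * v 1 + u 3 * v 0 = c

/-- The condition on the minors of two columns. -/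
abbrev colsS (u v w : Fin 4 → ZMod 2) : Prop :=
  u 0 * v 1 - u 1 * v 0 = w 0 ∧ u 0 * v 2 - u 2 * v 0 = w 1 ∧
    u 1 * v 3 - u 3 * v 1 = w 2 ∧ u 2 * v 3 - u 3 * v 2 = w 3

/-- The entry `(i, j)` of the matrix with code `n`. -/
def ent (n : ℕ) (i j : Fin 4) : ZMod 2 := if n.testBit (4 * j.val + i.val) then 1 else 0

/-- The vector with code `n`. -/
def vec (n : ℕ) (k : Fin 4) : ZMod 2 := if n.testBit k.val then 1 else 0

/-- The codes of the ten elements of order dividing ten. -/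
def evenCodes : List ℕ := [4680, 55880, 33825, 46369, 33965, 63917, 4699, 63835, 55967, 46495]

/-- Membership in the subgroup of order ten. -/
def InEven (A : Matrix (Fin 4) (Fin 4) (ZMod 2)) : Prop := ∃ n ∈ evenCodes, ∀ i j, A i j = ent n i j

theorem exists_vec : ∀ c : Fin 4 → ZMod 2, ∃ n : Fin 16, ∀ k, c k = vec n k := by decide +kernel

/-- The condition on the first two columns. -/
def Cond1 (n0 n1 : ℕ) : Prop := colsB (vec n0) (vec n1) 0 ∧ colsS (vec n0) (vec n1) (vec n0)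

/-- The condition on the third column. -/
def Cond2 (n0 n1 n2 : ℕ) : Prop := colsB (vec n0) (vec n2) 0 ∧ colsB (vec n1) (vec n2) 1 ∧
  colsS (vec n0) (vec n2) (vec n1)

/-- The condition on the last column. -/
def Cond3 (n0 n1 n2 n3 : ℕ) : Prop := colsB (vec n0) (vec n3) 1 ∧ colsB (vec n1) (vec n3) 0 ∧
  colsB (vec n2) (vec n3) 0 ∧ colsS (vec n1) (vec n3) (vec n2) ∧ colsS (vec n2) (vec n3) (vec n3)

/-- The matrix with the given columns squares to one. -/
def SqOne (n0 n1 n2 n3 : ℕ) : Prop := ∀ i j : Fin 4,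
  vec n0 i * ![vec n0, vec n1, vec n2, vec n3] j 0 + vec n1 i * ![vec n0, vec n1, vec n2, vec n3] j 1 +
    vec n2 i * ![vec n0, vec n1, vec n2, vec n3] j 2 + vec n3 i * ![vec n0, vec n1, vec n2, vec n3] j 3 =
      if i = j then 1 else 0

/-- The columns are those of one of the ten elements. -/
def Listed (n0 n1 n2 n3 : ℕ) : Prop := ∃ n ∈ evenCodes, ∀ k : Fin 4,
  vec n0 k = ent n k 0 ∧ vec n1 k = ent n k 1 ∧ vec n2 k = ent n k 2 ∧ vec n3 k = ent n k 3

instance (n0 n1 : ℕ) : Decidable (Cond1 n0 n1) := by unfold Cond1; infer_instance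
instance (n0 n1 n2 : ℕ) : Decidable (Cond2 n0 n1 n2) := by unfold Cond2; infer_instance
instance (n0 n1 n2 n3 : ℕ) : Decidable (Cond3 n0 n1 n2 n3) := by unfold Cond3; infer_instance
instance (n0 n1 n2 n3 : ℕ) : Decidable (SqOne n0 n1 n2 n3) := by unfold SqOne; infer_instance
instance (n0 n1 n2 n3 : ℕ) : Decidable (Listed n0 n1 n2 n3) := by unfold Listed; infer_instance

/-- The search over the last column. -/
def Last (n0 n1 n2 : ℕ) : Prop :=
  ∀ n3 < 16, Cond3 n0 n1 n2 n3 → SqOne n0 n1 n2 n3 → Listed n0 n1 n2 n3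

/-- The search over the last two columns. -/
def LastTwo (n0 n1 : ℕ) : Prop := ∀ n2 < 16, Cond2 n0 n1 n2 → Last n0 n1 n2

instance (n0 n1 n2 : ℕ) : Decidable (Last n0 n1 n2) := by unfold Last; infer_instance
instance (n0 n1 : ℕ) : Decidable (LastTwo n0 n1) := by unfold LastTwo; infer_instance

theorem enum : ∀ n0 < 16, ∀ n1 < 16, Cond1 n0 n1 → LastTwo n0 n1 := by
  decide +kernel

theorem mem_evenPart (M : Matrix (Fin 4) (Fin 4) (ZMod 2))
    (h1 : colsB (fun k => M k 0) (fun k => M k 1) 0 ∧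
      colsS (fun k => M k 0) (fun k => M k 1) (fun k => M k 0))
    (h2 : colsB (fun k => M k 0) (fun k => M k 2) 0 ∧ colsB (fun k => M k 1) (fun k => M k 2) 1 ∧
      colsS (fun k => M k 0) (fun k => M k 2) (fun k => M k 1))
    (h3 : colsB (fun k => M k 0) (fun k => M k 3) 1 ∧ colsB (fun k => M k 1) (fun k => M k 3) 0 ∧
      colsB (fun k => M k 2) (fun k => M k 3) 0 ∧
      colsS (fun k => M k 1) (fun k => M k 3) (fun k => M k 2) ∧
      colsS (fun k => M k 2) (fun k => M k 3) (fun k => M k 3))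
    (hM : M * M = 1) : InEven M := by
  obtain ⟨n0, e0⟩ := exists_vec fun k => M k 0
  obtain ⟨n1, e1⟩ := exists_vec fun k => M k 1
  obtain ⟨n2, e2⟩ := exists_vec fun k => M k 2
  obtain ⟨n3, e3⟩ := exists_vec fun k => M k 3
  have hc : ∀ j i : Fin 4, ![vec n0, vec n1, vec n2, vec n3] j i = M i j := by
    intro j i
    fin_cases j
    exacts [(e0 i).symm, (e1 i).symm, (e2 i).symm, (e3 i).symm]
  rw [funext e0, funext e1] at h1
  rw [funext e0, funext e1, funext e2] at h2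
  rw [funext e0, funext e1, funext e2, funext e3] at h3
  obtain ⟨n, hn, hk⟩ := enum n0 n0.2 n1 n1.2 h1 n2 n2.2 h2 n3 n3.2 h3 fun i j => by
    have h := congrFun (congrFun hM i) j
    rw [Matrix.mul_apply, Fin.sum_univ_four, Matrix.one_apply] at h
    rw [hc j 0, hc j 1, hc j 2, hc j 3, ← e0, ← e1, ← e2, ← e3]
    exact h
  refine ⟨n, hn, fun i j => ?_⟩
  obtain ⟨a0, a1, a2, a3⟩ := hk i
  fin_cases j
  exacts [(e0 i).trans a0, (e1 i).trans a1, (e2 i).trans a2, (e3 i).trans a3]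

theorem evenCodes_mul : ∀ a ∈ evenCodes, ∀ b ∈ evenCodes, ∃ c ∈ evenCodes, ∀ i j : Fin 4,
    ent a i 0 * ent b 0 j + ent a i 1 * ent b 1 j + ent a i 2 * ent b 2 j + ent a i 3 * ent b 3 j =
      ent c i j := by
  decide +kernel

theorem evenPart_mul {A B : Matrix (Fin 4) (Fin 4) (ZMod 2)} (hA : InEven A) (hB : InEven B) :
    InEven (A * B) := by
  obtain ⟨a, ha, ea⟩ := hA
  obtain ⟨b, hb, eb⟩ := hB
  obtain ⟨c, hc, ec⟩ := evenCodes_mul a ha b hb
  refine ⟨c, hc, fun i j => ?_⟩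
  rw [Matrix.mul_apply, Fin.sum_univ_four, ea, ea, ea, ea, eb, eb, eb, eb]
  exact ec i j

/-- An element of order four. -/
def fourElt : Matrix (Fin 4) (Fin 4) (ZMod 2) := Matrix.of fun i j => ent 63176 i j

/-- The inverse of `fourElt`. -/
def fourEltInv : Matrix (Fin 4) (Fin 4) (ZMod 2) := Matrix.of fun i j => ent 4989 i j

theorem four_inv : ∀ i j : Fin 4,
    (ent 63176 i 0 * ent 4989 0 j + ent 63176 i 1 * ent 4989 1 j + ent 63176 i 2 * ent 4989 2 j +
      ent 63176 i 3 * ent 4989 3 j = if i = j then 1 else 0) ∧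
    (ent 4989 i 0 * ent 63176 0 j + ent 4989 i 1 * ent 63176 1 j + ent 4989 i 2 * ent 63176 2 j +
      ent 4989 i 3 * ent 63176 3 j = if i = j then 1 else 0) := by decide +kernel

theorem four_not_even : ∀ n ∈ evenCodes, ∃ i j : Fin 4, ent 63176 i j ≠ ent n i j := by
  decide +kernel

theorem one_even : ∃ n ∈ evenCodes, ∀ i j : Fin 4, (if i = j then 1 else 0 : ZMod 2) = ent n i j := by
  decide +kernel

theorem four_star : ∀ p r : Fin 4,
    ent 63176 (Cfsg.Lie.pairOf p).1 (Cfsg.Lie.pairOf r).1 *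
        ent 63176 (Cfsg.Lie.pairOf p).2 (Cfsg.Lie.pairOf r).2 -
      ent 63176 (Cfsg.Lie.pairOf p).2 (Cfsg.Lie.pairOf r).1 *
        ent 63176 (Cfsg.Lie.pairOf p).1 (Cfsg.Lie.pairOf r).2 = ent 63176 p r ^ 2 := by decide +kernel

/-- The image of `v` under `fourElt`, by coordinates. -/
abbrev fourApp (v : Fin 4 → ZMod 2) (i : Fin 4) : ZMod 2 :=
  ent 63176 i 0 * v 0 + ent 63176 i 1 * v 1 + ent 63176 i 2 * v 2 + ent 63176 i 3 * v 3

theorem four_form : ∀ a < 16, ∀ b < 16,
    fourApp (vec a) 0 * fourApp (vec b) 3 + fourApp (vec a) 1 * fourApp (vec b) 2 +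
      fourApp (vec a) 2 * fourApp (vec b) 1 + fourApp (vec a) 3 * fourApp (vec b) 0 =
    vec a 0 * vec b 3 + vec a 1 * vec b 2 + vec a 2 * vec b 1 + vec a 3 * vec b 0 := by
  decide +kernel

theorem fourElt_facts : fourElt * fourEltInv = 1 ∧ fourEltInv * fourElt = 1 ∧
    ¬ InEven fourElt ∧ InEven (1 : Matrix (Fin 4) (Fin 4) (ZMod 2)) ∧
    Cfsg.Lie.star4 fourElt = fourElt.map (fun x => x ^ 2) ∧
    ∀ u v, Cfsg.Lie.altForm4 (fourElt *ᵥ u) (fourElt *ᵥ v) = Cfsg.Lie.altForm4 u v := by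
  refine ⟨?_, ?_, ?_, ?_, ?_, ?_⟩
  · ext i j
    rw [Matrix.mul_apply, Fin.sum_univ_four, Matrix.one_apply]
    exact (four_inv i j).1
  · ext i j
    rw [Matrix.mul_apply, Fin.sum_univ_four, Matrix.one_apply]
    exact (four_inv i j).2
  · rintro ⟨n, hn, h⟩
    obtain ⟨i, j, hij⟩ := four_not_even n hn
    exact hij (h i j)
  · obtain ⟨n, hn, h⟩ := one_even
    exact ⟨n, hn, fun i j => by rw [Matrix.one_apply]; exact h i j⟩
  · ext p r
    exact four_star p r
  · intro u v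
    obtain ⟨a, ha⟩ := exists_vec u
    obtain ⟨b, hb⟩ := exists_vec v
    rw [funext ha, funext hb]
    simp only [Cfsg.Lie.altForm4, Matrix.mulVec, dotProduct, Fin.sum_univ_four]
    exact four_form a a.2 b b.2

theorem closure_involutions_ne_top {F : Type*} [Field F] [Fintype F] (hF : Fintype.card F = 2) :
    Subgroup.closure {g : ↥(Cfsg.Lie.Sz F 2) | g * g = 1} ≠ ⊤ := by
  classical
  let e : ZMod 2 ≃+* F := ZMod.ringEquivOfPrime F Nat.prime_two hF
  haveI : CharP F 2 := charP_of_injective_ringHom (f := e.toRingHom) e.injective 2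
  intro htop
  set μ : Matrix (Fin 4) (Fin 4) F →+* Matrix (Fin 4) (Fin 4) (ZMod 2) :=
    e.symm.toRingHom.mapMatrix with hμ
  have hμa : ∀ (A : Matrix (Fin 4) (Fin 4) F) i j, μ A i j = e.symm (A i j) := fun A i j => rfl
  have key : ∀ g : ↥(Cfsg.Lie.Sz F 2), g * g = 1 →
      InEven (μ ((g : GL (Fin 4) F) : Matrix (Fin 4) (Fin 4) F)) := by
    intro g hg
    obtain ⟨hSp, hst⟩ := (CfsgLib.SuzukiMatrix.mem_Sz_iff (F := F) 1 (g := g.1)).mp (by simpa using g.2)
    set A := ((g : GL (Fin 4) F) : Matrix (Fin 4) (Fin 4) F) with hA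
    have hB : ∀ i j : Fin 4, colsB (fun k => μ A k i) (fun k => μ A k j)
        (e.symm (Cfsg.Lie.altForm4 (Pi.single i (1 : F)) (Pi.single j (1 : F)))) := fun i j => by
      rw [← CfsgLib.SuzukiMatrix.col_form hSp i j]
      simp only [colsB, Cfsg.Lie.altForm4, hμa, map_add, map_mul]
      rfl
    have hpow : ∀ z : F, z ^ 2 ^ 1 = z := fun z => by
      rw [pow_one, ← hF]; exact FiniteField.pow_card z
    have hstar : ∀ p r : Fin 4, μ A (Cfsg.Lie.pairOf p).1 (Cfsg.Lie.pairOf r).1 *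
          μ A (Cfsg.Lie.pairOf p).2 (Cfsg.Lie.pairOf r).2 -
        μ A (Cfsg.Lie.pairOf p).2 (Cfsg.Lie.pairOf r).1 *
          μ A (Cfsg.Lie.pairOf p).1 (Cfsg.Lie.pairOf r).2 = μ A p r := fun p r => by
      have h := congrArg e.symm (congrFun (congrFun hst p) r)
      rw [Matrix.map_apply, hpow] at h
      simp only [hμa, ← map_mul, ← map_sub]
      exact h
    have hS : ∀ r : Fin 4, colsS (fun k => μ A k (Cfsg.Lie.pairOf r).1)
        (fun k => μ A k (Cfsg.Lie.pairOf r).2) (fun k => μ A k r) := fun r =>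
      ⟨hstar 0 r, hstar 1 r, hstar 2 r, hstar 3 r⟩
    have h01 := hB 0 1; have h02 := hB 0 2; have h12 := hB 1 2
    have h03 := hB 0 3; have h13 := hB 1 3; have h23 := hB 2 3
    simp [Cfsg.Lie.altForm4, colsB] at h01 h02 h12 h03 h13 h23
    exact mem_evenPart (μ A) ⟨h01, hS 0⟩ ⟨h02, h12, hS 1⟩ ⟨h03, h13, h23, hS 2, hS 3⟩ (by
      rw [← map_mul, hA, ← Units.val_mul, ← Subgroup.coe_mul, hg]
      simp)
  have hall : ∀ g : ↥(Cfsg.Lie.Sz F 2), InEven (μ ((g : GL (Fin 4) F) : Matrix (Fin 4) (Fin 4) F)) := by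
    intro g
    have hg : g ∈ Submonoid.closure {g : ↥(Cfsg.Lie.Sz F 2) | g * g = 1} := by
      have h1 : g ∈ (Subgroup.closure {g : ↥(Cfsg.Lie.Sz F 2) | g * g = 1}).toSubmonoid := by
        rw [Subgroup.mem_toSubmonoid, htop]; trivial
      rw [Subgroup.closure_toSubmonoid] at h1
      refine Submonoid.closure_le.mpr (fun x hx => Submonoid.subset_closure ?_) h1
      rcases hx with hx | hx
      · exact hx
      · have hx' : x⁻¹ * x⁻¹ = 1 := hx
        show x * x = 1
        rw [← _root_.inv_inj, _root_.mul_inv_rev, hx', inv_one]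
    induction hg using Submonoid.closure_induction with
    | mem x hx => exact key x hx
    | one =>
      rw [OneMemClass.coe_one, Units.val_one, map_one]
      exact fourElt_facts.2.2.2.1
    | mul x y _ _ hx hy =>
      rw [Subgroup.coe_mul, Units.val_mul, map_mul]
      exact evenPart_mul hx hy
  obtain ⟨h1, h2, hnot, -, hst, hform⟩ := fourElt_facts
  set ν : Matrix (Fin 4) (Fin 4) (ZMod 2) →+* Matrix (Fin 4) (Fin 4) F :=
    e.toRingHom.mapMatrix with hν
  let u : GL (Fin 4) F := ⟨ν fourElt, ν fourEltInv, by rw [← map_mul, h1, map_one],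
    by rw [← map_mul, h2, map_one]⟩
  have hνa : ∀ i j, ν fourElt i j = e (fourElt i j) := fun i j => rfl
  have hu : u ∈ Cfsg.Lie.Sz F 2 := by
    refine Subgroup.subset_closure ⟨CfsgLib.SuzukiMatrix.mem_Sp4_iff.mpr fun a b => ?_, ?_⟩
    · have h := congrArg e (hform (fun k => e.symm (a k)) (fun k => e.symm (b k)))
      simp only [Cfsg.Lie.altForm4, map_add, map_mul, Matrix.mulVec, dotProduct, Fin.sum_univ_four,
        RingEquiv.apply_symm_apply] at h ⊢
      show _ = _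
      exact h
    · ext p r
      have h := congrArg e (congrFun (congrFun hst p) r)
      simp only [Matrix.map_apply, map_pow] at h
      show Cfsg.Lie.star4 (ν fourElt) p r = (ν fourElt p r) ^ 2
      rw [hνa, ← h]
      simp only [Cfsg.Lie.star4, Matrix.of_apply, map_sub, map_mul]
      rfl
  refine hnot ?_
  have h := hall ⟨u, hu⟩
  have hid : μ (ν fourElt) = fourElt := by
    ext i j
    rw [hμa, hνa, RingEquiv.symm_apply_apply]
  rwa [show ((⟨u, hu⟩ : ↥(Cfsg.Lie.Sz F 2)) : GL (Fin 4) F).val = ν fourElt from rfl, hid] at h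

end CfsgLib.LocalStr.SzTwo
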