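import Cfsg.Prelude.Def_LocalStructure
import Cfsg.Agent.Lib.LocalEven.PBasic
import Cfsg.Agent.Lib.LocalEven.NatModule
import Cfsg.Agent.Lib.Suzuki.Summary
import Cfsg.Agent.Lib.SuzukiMatrix.Bridge
import Cfsg.Agent.Lib.LocalStr.SzTwo
import Mathlib.GroupTheory.SpecificGroups.Dihedral
import Mathlib.Tactic.Group
import Mathlib.Tactic.LinearCombination

/-!
The quotient `L / O_p(L)` of a member of `𝔏_G(Y)` and the image of `Y` in it.
-/

set_option autoImplicit false
set_option linter.style.haveILetI false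

namespace CfsgLib.LocalStr.FrakL

open Subgroup Cfsg
open scoped MatrixGroups

variable {H K : Type*} [Group H] [Group K]

/-- `x` is a product of non-identity elements of two conjugates of `Y` with different normalisers. -/
def Split (Y : Subgroup H) (x : H) : Prop :=
  ∃ g g' y y' : H, y ∈ Y ∧ y ≠ 1 ∧ y' ∈ Y ∧ y' ≠ 1 ∧
    g⁻¹ * g' ∉ normalizer (Y : Set H) ∧ x = g * y * g⁻¹ * (g' * y' * g'⁻¹)

/-- The properties of `L / O_p(L)` used for members of `𝔏_G(Y)`. -/
structure Model (p : ℕ) (Y : Subgroup H) : Prop where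
  ti : ∀ y ∈ Y, y ≠ 1 → ∀ g : H, g * y * g⁻¹ ∈ normalizer (Y : Set H) → g ∈ normalizer (Y : Set H)
  uniq : ∀ V : Subgroup H, V ≤ normalizer (Y : Set H) →
    normalizer (Y : Set H) ≤ normalizer (V : Set H) → IsElementaryAbelian p V → V ≠ ⊥ → V = Y
  split : ∀ x : H, (orderOf x).Prime → orderOf x ≠ p →
    Split Y x ∨ (x ∈ center H ∧ ∃ y ∈ Y, y ≠ 1 ∧ Split Y (x * y))

theorem Model.of_equiv {p : ℕ} {Y : Subgroup H} (e : H ≃* K) (h : Model p (Y.map e.toMonoidHom)) :
    Model p Y := by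
  have hN : (normalizer (Y : Set H)).map e.toMonoidHom =
      normalizer ((Y.map e.toMonoidHom : Subgroup K) : Set K) := map_equiv_normalizer_eq Y e
  have hmem : ∀ {g : H}, e g ∈ normalizer ((Y.map e.toMonoidHom : Subgroup K) : Set K) ↔
      g ∈ normalizer (Y : Set H) := fun {g} => by
    rw [← hN, mem_map_equiv, MulEquiv.symm_apply_apply]
  have hne : ∀ {y : H}, y ≠ 1 → e y ≠ 1 := fun {y} hy h1 => hy (e.map_eq_one_iff.mp h1)
  have hback : ∀ {x : H}, Split (Y.map e.toMonoidHom) (e x) → Split Y x := by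
    rintro x ⟨g, g', _, _, ⟨y, hy, rfl⟩, hy1, ⟨y', hy', rfl⟩, hy1', hg, hx⟩
    obtain ⟨g, rfl⟩ := e.surjective g
    obtain ⟨g', rfl⟩ := e.surjective g'
    refine ⟨g, g', y, y', hy, fun h1 => hy1 (by rw [h1]; exact map_one e), hy',
      fun h1 => hy1' (by rw [h1]; exact map_one e), fun h1 => hg ?_, e.injective ?_⟩
    · rw [← map_inv, ← map_mul]; exact hmem.mpr h1
    · rw [hx]; simp only [map_mul, map_inv]; rfl
  refine ⟨fun y hy hy1 g hg => hmem.mp (h.ti _ (mem_map_of_mem _ hy) (hne hy1) (e g) ?_),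
    fun V hV hVn hVe hV1 => ?_, fun x hx hxp => ?_⟩
  · show e g * e y * (e g)⁻¹ ∈ _
    rw [← map_inv, ← map_mul, ← map_mul]
    exact hmem.mpr hg
  · refine map_injective (f := e.toMonoidHom) e.injective (h.uniq _ ?_ ?_ ?_ ?_)
    · rw [← hN]; exact map_mono hV
    · rw [← hN, ← map_equiv_normalizer_eq]; exact map_mono hVn
    · refine ⟨⟨⟨fun ⟨a, ha⟩ ⟨b, hb⟩ => Subtype.ext ?_⟩⟩, ?_⟩
      · obtain ⟨a, ha', rfl⟩ := ha
        obtain ⟨b, hb', rfl⟩ := hb
        show e a * e b = e b * e a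
        rw [← map_mul, ← map_mul]
        exact congrArg (fun t : ↥V => e (t : H)) (hVe.1.is_comm.comm ⟨a, ha'⟩ ⟨b, hb'⟩)
      · rintro _ ⟨a, ha, rfl⟩
        rw [← map_pow, hVe.2 a ha, map_one]
    · exact fun h1 => hV1 ((map_eq_bot_iff_of_injective _ e.injective).mp h1)
  · rcases h.split (e x) (by rwa [e.orderOf_eq]) (by rwa [e.orderOf_eq]) with hs | ⟨hc, y, hy, hy1, hs⟩
    · exact Or.inl (hback hs)
    · obtain ⟨y, hy', rfl⟩ := hy
      refine Or.inr ⟨mem_center_iff.mpr fun g => e.injective ?_, y, hy',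
        fun h1 => hy1 (by rw [h1]; exact map_one e), hback ?_⟩
      · rw [map_mul, map_mul, mem_center_iff.mp hc]
      · rw [map_mul]; exact hs

/-- In a dihedral group of order twice an odd number, a subgroup of order two is a model. -/
theorem model_dihedral {r : ℕ} (hr : r.Prime) (hr2 : r ≠ 2) (Y : Subgroup (DihedralGroup r))
    (hY1 : Y ≠ ⊥) (hY : ∀ y ∈ Y, y * y = 1) : Model 2 Y := by
  haveI := Fact.mk hr
  have h2 : (2 : ZMod r) ≠ 0 := by
    intro h
    have h' : ((2 : ℕ) : ZMod r) = 0 := by exact_mod_cast h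
    rw [ZMod.natCast_eq_zero_iff] at h'
    exact hr2 ((Nat.prime_dvd_prime_iff_eq hr Nat.prime_two).mp h')
  have hsq : ∀ {i : ZMod r}, DihedralGroup.r i * DihedralGroup.r i = 1 → i = 0 := by
    intro i h
    rw [DihedralGroup.r_mul_r, DihedralGroup.one_def] at h
    injection h with h
    exact (mul_eq_zero.mp ((two_mul i).trans h)).resolve_left h2
  obtain ⟨y, hy, hy1⟩ := (bot_or_exists_ne_one Y).resolve_left hY1
  obtain ⟨i, rfl⟩ : ∃ i, y = DihedralGroup.sr i := by
    cases y with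
    | r i => exact absurd (by rw [hsq (hY _ hy), DihedralGroup.r_zero]) hy1
    | sr i => exact ⟨i, rfl⟩
  have hYmem : ∀ z ∈ Y, z = 1 ∨ z = DihedralGroup.sr i := by
    intro z hz
    cases z with
    | r j => exact Or.inl (by rw [hsq (hY _ hz), DihedralGroup.r_zero])
    | sr j =>
      have h := hY _ (mul_mem hy hz)
      rw [DihedralGroup.sr_mul_sr] at h
      exact Or.inr (by rw [sub_eq_zero.mp (hsq h)])
  have hcom : ∀ g : DihedralGroup r, g * DihedralGroup.sr i = DihedralGroup.sr i * g → g ∈ Y := by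
    intro g hg
    cases g with
    | r j =>
      rw [DihedralGroup.r_mul_sr, DihedralGroup.sr_mul_r] at hg
      injection hg with hg
      have : 2 * j = 0 := by linear_combination -hg
      rw [(mul_eq_zero.mp this).resolve_left h2, DihedralGroup.r_zero]
      exact one_mem Y
    | sr j =>
      rw [DihedralGroup.sr_mul_sr, DihedralGroup.sr_mul_sr] at hg
      injection hg with hg
      have : 2 * (i - j) = 0 := by linear_combination hg
      rwa [← sub_eq_zero.mp ((mul_eq_zero.mp this).resolve_left h2)]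
  have hti : ∀ g : DihedralGroup r, g * DihedralGroup.sr i * g⁻¹ ∈ Y → g ∈ Y := by
    intro g hg
    rcases hYmem _ hg with h | h
    · exact absurd (conj_eq_one_iff.mp h) hy1
    · exact hcom g (mul_inv_eq_iff_eq_mul.mp h)
  have hN : normalizer (Y : Set (DihedralGroup r)) = Y :=
    le_antisymm (fun g hg => hti g ((mem_normalizer_iff.mp hg _).mp hy)) le_normalizer
  refine ⟨fun z hz hz1 g hg => ?_, fun V hV _ _ hV1 => ?_, fun x hx hx2 => Or.inl ?_⟩
  · rw [hN] at hg ⊢
    rcases hYmem z hz with rfl | rfl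
    · exact absurd rfl hz1
    · exact hti g hg
  · rw [hN] at hV
    refine le_antisymm hV fun z hz => ?_
    rcases hYmem z hz with rfl | rfl
    · exact one_mem V
    · obtain ⟨v, hv, hv1⟩ := (bot_or_exists_ne_one V).resolve_left hV1
      rcases hYmem v (hV hv) with rfl | rfl
      · exact absurd rfl hv1
      · exact hv
  · cases x with
    | sr j => exact absurd (DihedralGroup.orderOf_sr j) hx2
    | r j =>
      set k : ZMod r := -(j / 2) with hk
      have hj : i - 2 * k = i + j := by rw [hk]; field_simp; ring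
      refine ⟨1, DihedralGroup.r k, DihedralGroup.sr i, DihedralGroup.sr i, hy, hy1, hy, hy1,
        fun h => hx.ne_one ?_, ?_⟩
      · rw [inv_one, one_mul, hN] at h
        rcases hYmem _ h with h | h
        · rw [DihedralGroup.one_def] at h
          injection h with h
          have hj0 : j = 0 := by
            have := hj
            rw [h] at this
            linear_combination -this
          rw [hj0, DihedralGroup.r_zero, orderOf_one]
        · exact absurd h (by simp)
      · rw [one_mul, inv_one, mul_one, DihedralGroup.inv_r, DihedralGroup.r_mul_sr,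
          DihedralGroup.sr_mul_r, DihedralGroup.sr_mul_sr]
        congr 1
        linear_combination -hj

section SL2

variable {F : Type*} [Field F]

theorem sl2_val (a b c d : F) (h : a * d - b * c = 1) :
    (LocalEven.sl2Of a b c d h : Matrix (Fin 2) (Fin 2) F) = !![a, b; c, d] := rfl

/-- `[[1, a], [0, 1]]` -/
def uElt (a : F) : SL(2, F) := LocalEven.sl2Of 1 a 0 1 (by ring)

/-- `[[0, -1], [1, 0]]` -/
def wEl : SL(2, F) := LocalEven.sl2Of (0 : F) (-1) 1 0 (by ring)

theorem uElt_mem (a : F) : uElt a ∈ LocalEven.upperUni F := LocalEven.sl2Of_mem_upperUni a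

theorem uElt_ne_one {a : F} (ha : a ≠ 0) : uElt a ≠ 1 := by
  intro h
  have := congrArg (fun M : SL(2, F) => M.1 0 1) h
  simp [uElt, sl2_val] at this
  exact ha this

theorem uElt_mul (a b : F) : uElt a * uElt b = uElt (a + b) := by
  ext i j
  fin_cases i <;> fin_cases j <;>
    simp [uElt, sl2_val, Matrix.mul_apply, Matrix.vecMul, dotProduct, Fin.sum_univ_two, add_comm]

theorem split_of_lower [Finite F] (M : SL(2, F)) (hc : M.1 1 0 ≠ 0)
    (ht : M.1 0 0 + M.1 1 1 ≠ 2) : Split (LocalEven.upperUni F) M := by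
  set s := (M.1 1 1 - 1) / M.1 1 0 with hs
  set b := (M.1 0 0 + M.1 1 1 - 2) / M.1 1 0 with hb
  have hd : M.1 0 0 * M.1 1 1 - M.1 0 1 * M.1 1 0 = 1 := by
    rw [← Matrix.det_fin_two]; exact M.2
  refine ⟨uElt (-s), uElt (-s) * wEl, uElt b, uElt (-M.1 1 0), uElt_mem _,
    uElt_ne_one (div_ne_zero (sub_ne_zero.mpr ht) hc), uElt_mem _,
    uElt_ne_one (neg_ne_zero.mpr hc), ?_, ?_⟩
  · rw [inv_mul_cancel_left, LocalEven.mem_normalizer_upperUni]
    simp [wEl, sl2_val]
  · refine Subtype.ext (Matrix.ext fun i j => ?_)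
    simp only [mul_inv_rev, Matrix.SpecialLinearGroup.coe_mul, Matrix.SpecialLinearGroup.coe_inv,
      uElt, wEl, sl2_val, Matrix.adjugate_fin_two_of, Matrix.mul_fin_two]
    fin_cases i <;> fin_cases j <;>
      simp [Matrix.mul_apply, Matrix.vecMul, dotProduct, Fin.sum_univ_two, hs, hb] <;> field_simp <;>
      first | ring1 | linear_combination hd | linear_combination -hd

theorem split_conj {Y : Subgroup H} {x k : H} (h : Split Y (k * x * k⁻¹)) : Split Y x := by
  obtain ⟨g, g', y, y', hy, hy1, hy', hy1', hg, hx⟩ := h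
  refine ⟨k⁻¹ * g, k⁻¹ * g', y, y', hy, hy1, hy', hy1', ?_, ?_⟩
  · rwa [show (k⁻¹ * g)⁻¹ * (k⁻¹ * g') = g⁻¹ * g' by group]
  · calc x = k⁻¹ * (k * x * k⁻¹) * k := by group
      _ = _ := by rw [hx]; group

theorem split_nonscalar [Finite F] (M : SL(2, F)) (ht : M.1 0 0 + M.1 1 1 ≠ 2)
    (hns : ¬ (M.1 0 1 = 0 ∧ M.1 1 0 = 0 ∧ M.1 0 0 = M.1 1 1)) :
    Split (LocalEven.upperUni F) M := by
  by_cases hc : M.1 1 0 = 0
  swap
  · exact split_of_lower M hc ht
  by_cases hb : M.1 0 1 = 0
  · set k : SL(2, F) := LocalEven.sl2Of 1 0 1 1 (by ring) with hk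
    refine split_conj (k := k) (split_of_lower _ ?_ ?_)
    · simp [hk, sl2_val, Matrix.adjugate_fin_two_of, Matrix.mul_apply, Matrix.vecMul, dotProduct, Fin.sum_univ_two, hb,
        hc]
      intro h
      exact hns ⟨hb, hc, by linear_combination h⟩
    · simp [hk, sl2_val, Matrix.adjugate_fin_two_of, Matrix.mul_apply, Matrix.vecMul, dotProduct, Fin.sum_univ_two, hb,
        hc]
      intro h
      exact ht (by linear_combination h)
  · refine split_conj (k := wEl) (split_of_lower _ ?_ ?_)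
    · simp [wEl, sl2_val, Matrix.adjugate_fin_two_of, Matrix.mul_apply, Matrix.vecMul, dotProduct, Fin.sum_univ_two,
        hb, hc]
    · simp [wEl, sl2_val, Matrix.adjugate_fin_two_of, Matrix.mul_apply, Matrix.vecMul, dotProduct, Fin.sum_univ_two, hc]
      intro h
      exact ht (by linear_combination h)

theorem model_sl2 [Fintype F] {p n : ℕ} [Fact p.Prime] (hF : Fintype.card F = p ^ n) :
    Model p (LocalEven.upperUni F) := by
  haveI := LocalEven.charP_of_card_eq_pow hF
  refine ⟨fun y hy hy1 g hg => ?_, fun V hV hVn hVe hV1 => ?_, fun x hx hxp => ?_⟩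
  · rw [LocalEven.mem_normalizer_upperUni] at hg ⊢
    have h0 := LocalEven.upperUni_entry_ne_zero hy hy1
    obtain ⟨h00, h10, h11⟩ := LocalEven.mem_upperUni.mp hy
    simp [Matrix.adjugate_fin_two, Matrix.mul_apply, Matrix.vecMul, dotProduct, Fin.sum_univ_two, h00, h10, h11] at hg
    have : g.1 1 0 * g.1 1 0 * y.1 0 1 = 0 := by linear_combination -hg
    rcases mul_eq_zero.mp this with h | h
    · exact mul_self_eq_zero.mp h
    · exact absurd h h0
  · have hpow : ∀ (A : Matrix (Fin 2) (Fin 2) F), A 1 0 = 0 → ∀ k : ℕ,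
        (A ^ k) 1 0 = 0 ∧ (A ^ k) 0 0 = A 0 0 ^ k := by
      intro A hA k
      induction k with
      | zero => simp
      | succ k ih => simp [pow_succ, Matrix.mul_apply, Fin.sum_univ_two, ih.1, ih.2, hA]
    have hVU : V ≤ LocalEven.upperUni F := by
      intro v hv
      have h10 := LocalEven.mem_normalizer_upperUni.mp (hV hv)
      have hd : v.1 0 0 * v.1 1 1 - v.1 0 1 * v.1 1 0 = 1 := by
        rw [← Matrix.det_fin_two]; exact v.2
      have h1 := (hpow v.1 h10 p).2
      rw [← Matrix.SpecialLinearGroup.coe_pow, hVe.2 v hv, Matrix.SpecialLinearGroup.coe_one,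
        Matrix.one_apply_eq] at h1
      have h00 : v.1 0 0 = 1 := by
        have h2 : (v.1 0 0 - 1) ^ p = 0 := by rw [sub_pow_char, one_pow, ← h1, sub_self]
        exact sub_eq_zero.mp (eq_zero_of_pow_eq_zero h2)
      rw [h00, h10] at hd
      exact LocalEven.mem_upperUni.mpr ⟨h00, h10, by linear_combination hd⟩
    have hu : ∀ v ∈ V, v = uElt (v.1 0 1) := by
      intro v hv
      obtain ⟨h00, h10, h11⟩ := LocalEven.mem_upperUni.mp (hVU hv)
      ext i j
      fin_cases i <;> fin_cases j <;> simp [uElt, sl2_val, h00, h10, h11]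
    obtain ⟨v, hv, hv1⟩ := (bot_or_exists_ne_one V).resolve_left hV1
    set b := v.1 0 1 with hb
    have hb0 : b ≠ 0 := LocalEven.upperUni_entry_ne_zero (hVU hv) hv1
    have hsq : ∀ c : F, uElt (b * c ^ 2) ∈ V := by
      intro c
      by_cases hc : c = 0
      · subst hc
        have : uElt (b * (0 : F) ^ 2) = 1 := by
          ext i j; fin_cases i <;> fin_cases j <;> simp [uElt, sl2_val]
        rw [this]; exact one_mem V
      set d : SL(2, F) := LocalEven.sl2Of c 0 0 c⁻¹ (by field_simp; ring) with hd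
      have hdN : d ∈ normalizer (LocalEven.upperUni F : Set SL(2, F)) :=
        LocalEven.mem_normalizer_upperUni.mpr (by simp [hd, sl2_val])
      have h := (mem_normalizer_iff.mp (hVn hdN) v).mp hv
      have he : d * v * d⁻¹ = uElt (b * c ^ 2) := by
        rw [hu v hv, ← hb]
        ext i j
        fin_cases i <;> fin_cases j <;>
          simp [hd, uElt, sl2_val, Matrix.adjugate_fin_two_of, Matrix.mul_apply,
            Fin.sum_univ_two, hc] <;> ring
      rwa [he] at h
    refine le_antisymm hVU fun u hu' => ?_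
    obtain ⟨h00, h10, h11⟩ := LocalEven.mem_upperUni.mp hu'
    have hu'' : u = uElt (u.1 0 1) := by
      ext i j
      fin_cases i <;> fin_cases j <;> simp [uElt, sl2_val, h00, h10, h11]
    rw [hu'']
    by_cases h2 : (2 : F) = 0
    · haveI : CharP F 2 := CharTwo.of_one_ne_zero_of_two_eq_zero one_ne_zero h2
      obtain ⟨c, hc⟩ := FiniteField.isSquare_of_char_two (ringChar.eq F 2) (u.1 0 1 / b)
      have hc2 : u.1 0 1 = b * c ^ 2 := by rw [sq, ← hc]; field_simp
      rw [hc2]; exact hsq c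
    · set c := u.1 0 1 / (2 * b) with hc
      have hc2 : u.1 0 1 = b * (c + 1) ^ 2 + (-(b * c ^ 2) + -(b * 1 ^ 2)) := by
        rw [hc]; field_simp; ring
      have hneg : ∀ a : F, uElt a ∈ V → uElt (-a) ∈ V := by
        intro a ha
        have h1 : uElt a * uElt (-a) = 1 := by
          rw [uElt_mul, add_neg_cancel]
          ext i j; fin_cases i <;> fin_cases j <;> simp [uElt, sl2_val]
        rw [← inv_eq_of_mul_eq_one_right h1]
        exact inv_mem ha
      rw [hc2, ← uElt_mul, ← uElt_mul]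
      exact mul_mem (hsq _) (mul_mem (hneg _ (hsq c)) (hneg _ (hsq 1)))
  · have hd : x.1 0 0 * x.1 1 1 - x.1 0 1 * x.1 1 0 = 1 := by
      rw [← Matrix.det_fin_two]; exact x.2
    have htr : x.1 0 0 + x.1 1 1 ≠ 2 := by
      intro ht
      have hdet : (x.1 - 1).det = 0 := by
        rw [Matrix.det_fin_two]
        simp [Matrix.sub_apply]
        linear_combination hd - ht
      obtain ⟨v, hv, hv'⟩ := Matrix.exists_mulVec_eq_zero_iff.mpr hdet
      rw [Matrix.sub_mulVec, Matrix.one_mulVec, sub_eq_zero] at hv'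
      exact hxp ((Nat.prime_dvd_prime_iff_eq hx Fact.out).mp
        (orderOf_dvd_of_pow_eq_one (LocalEven.pow_char_eq_one_of_fixed p hv hv')))
    by_cases hns : x.1 0 1 = 0 ∧ x.1 1 0 = 0 ∧ x.1 0 0 = x.1 1 1
    swap
    · exact Or.inl (split_nonscalar x htr hns)
    obtain ⟨h01, h10, heq⟩ := hns
    rw [h01, h10, ← heq] at hd
    have ha : x.1 0 0 = -1 := by
      rcases mul_self_eq_one_iff.mp (by linear_combination hd : x.1 0 0 * x.1 0 0 = 1) with h | h
      · exact absurd (by rw [← heq, h]; norm_num) htr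
      · exact h
    have h2 : (2 : F) ≠ 0 := fun h => htr (by rw [← heq, ha]; linear_combination -2 * h)
    refine Or.inr ⟨mem_center_iff.mpr fun g => ?_, uElt 1, uElt_mem 1, uElt_ne_one one_ne_zero,
      split_nonscalar _ ?_ ?_⟩
    · ext i j
      fin_cases i <;> fin_cases j <;>
        simp [Matrix.mul_apply, Matrix.vecMul, dotProduct, Fin.sum_univ_two, h01, h10, ← heq] <;> ring
    · simp [uElt, sl2_val, Matrix.mul_apply, Matrix.vecMul, dotProduct, Fin.sum_univ_two, h01, h10, ← heq, ha]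
      intro h
      exact h2 (mul_self_eq_zero.mp (show (2 : F) * 2 = 0 by linear_combination -h))
    · simp [uElt, sl2_val, Matrix.mul_apply, Matrix.vecMul, dotProduct, Fin.sum_univ_two, h01, h10, ← heq, ha]

end SL2

section Suzuki

open CfsgLib.Suzuki

variable {F : Type*} [Field F] [Fintype F] {m : ℕ} (h : SzHyp F m)
include h

/-- The involutions of the translation group, with the identity. -/
def tZ : Subgroup (Cfsg.Sz F m) where
  carrier := {g | ∃ b, g = tS h 0 b}
  mul_mem' := by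
    rintro _ _ ⟨b, rfl⟩ ⟨c, rfl⟩
    exact ⟨b + c + sig m 0 * 0, by rw [tS_mul, add_zero]⟩
  one_mem' := ⟨0, (tS_zero h).symm⟩
  inv_mem' := by
    rintro _ ⟨b, rfl⟩
    exact ⟨b + sig m 0 * 0, tS_inv h 0 b⟩

theorem mem_tZ_of_sq {g : Cfsg.Sz F m} (hg : g ∈ tGroup h) (hgg : g * g = 1) : g ∈ tZ h := by
  obtain ⟨a, b, rfl⟩ := hg
  rw [tS_sq, tS_eq_one] at hgg
  rcases mul_eq_zero.mp hgg.2 with e | e
  · exact ⟨b, by rw [sig_eq_zero.mp e]⟩
  · exact ⟨b, by rw [e]⟩

theorem sq_of_mem_tZ {g : Cfsg.Sz F m} (hg : g ∈ tZ h) : g * g = 1 := by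
  obtain ⟨b, rfl⟩ := hg
  rw [tS_sq, mul_zero, tS_zero]

theorem tZ_le : tZ h ≤ tGroup h := by
  rintro _ ⟨b, rfl⟩
  exact tS_mem_tGroup h 0 b

theorem card_tZ : Nat.card ↥(tZ h) = Fintype.card F := by
  rw [← Nat.card_eq_fintype_card]
  exact (Nat.card_congr (Equiv.ofBijective (fun b : F => (⟨tS h 0 b, b, rfl⟩ : ↥(tZ h)))
    ⟨fun b c hbc => (tS_injective h (congrArg Subtype.val hbc)).2,
      fun ⟨_, b, hb⟩ => ⟨b, Subtype.ext hb.symm⟩⟩)).symm

theorem mem_normalizer_tZ {g : Cfsg.Sz F m} :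
    g ∈ normalizer (tZ h : Set (Cfsg.Sz F m)) ↔
      g • (pInf : Projectivization F (Fin 4 → F)) = pInf := by
  constructor
  · intro hg
    have hz : tS h 0 1 ≠ 1 := fun e => one_ne_zero ((tS_eq_one h).1 e).2
    refine tS_fixed h (tZ_le h ((mem_normalizer_iff.mp hg _).mp ⟨1, rfl⟩))
      (fun e => hz (conj_eq_one_iff.mp e)) (smul_ovoid g.2 pInf_mem) ?_
    rw [mul_smul, mul_smul, inv_smul_smul, tS_smul_pInf]
  · intro hg
    obtain ⟨a, b, k, rfl⟩ := exists_tS_dS h hg
    rw [LocalEven.mem_normalizer_iff_cj]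
    refine Subgroup.eq_of_le_of_card_ge ?_ (LocalEven.card_cj _ _).ge
    rintro _ ⟨_, ⟨c, rfl⟩, rfl⟩
    refine ⟨(k : F) * sig m (k : F) * c, ?_⟩
    show tS h a b * dS h k * tS h 0 c * (tS h a b * dS h k)⁻¹ = _
    rw [show tS h a b * dS h k * tS h 0 c * (tS h a b * dS h k)⁻¹ =
      tS h a b * (dS h k * tS h 0 c * (dS h k)⁻¹) * (tS h a b)⁻¹ by group, dS_conj, mul_zero,
      mul_inv_eq_iff_eq_mul, tS_mul, tS_mul, sig_zero]
    congr 1 <;> ring

theorem exists_conj_mem_tZ {t : Cfsg.Sz F m} (ht : t * t = 1) :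
    ∃ y : Cfsg.Sz F m, y⁻¹ * t * y ∈ tZ h := by
  haveI := Fact.mk Nat.prime_two
  obtain ⟨P, hP⟩ := (show IsPGroup 2 ↥(zpowers t) from fun g => ⟨1, by
    obtain ⟨k, hk⟩ := mem_zpowers_iff.mp g.2
    refine Subtype.ext ?_
    rw [pow_one, SubmonoidClass.coe_pow, sq, ← hk, ← (Commute.refl t).mul_zpow, ht, one_zpow]
    rfl⟩).exists_le_sylow
  obtain ⟨y, hy⟩ := exists_map_tGroup h P
  have htP := hP (mem_zpowers t)
  rw [hy, CfsgLib.Suzuki.mem_map_conj] at htP
  refine ⟨y, mem_tZ_of_sq h htP ?_⟩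
  rw [show y⁻¹ * t * y * (y⁻¹ * t * y) = y⁻¹ * (t * t) * y by group, ht]
  group

theorem exists_inverter {x : Cfsg.Sz F m} (hx : (orderOf x).Prime) (hx2 : orderOf x ≠ 2) :
    ∃ t : Cfsg.Sz F m, t * t = 1 ∧ t * x * t = x⁻¹ := by
  have hx1 : x ≠ 1 := fun e => hx.ne_one (by rw [e, orderOf_one])
  by_cases hfree : x ∈ freeSet h
  · obtain ⟨U, hU, hxU⟩ := mem_class_of_free h hfree
    haveI := Fact.mk Nat.prime_two
    obtain ⟨⟨t, htN⟩, ht⟩ := exists_prime_orderOf_dvd_card'
      (G := ↥(normalizer (U : Set (Cfsg.Sz F m)))) 2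
      (by rw [card_normalizer_exc h hU]; exact Dvd.dvd.mul_right (by norm_num) _)
    rw [Subgroup.orderOf_mk] at ht
    have htt : t * t = 1 := by rw [← sq, ← ht, pow_orderOf_eq_one]
    have htU : t ∉ U := fun htU => ne_two_of_dvd h
      ((ht ▸ Subgroup.orderOf_dvd_natCard U htU).trans (card_cyclic_dvd h hU)) rfl
    have hti : t⁻¹ = t := inv_eq_of_mul_eq_one_right htt
    have htx : t * x * t ∈ U := by
      have := (mem_normalizer_iff.mp htN x).mp hxU
      rwa [hti] at this
    haveI := hU.isCyclic h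
    letI : CommGroup ↥U := IsCyclic.commGroup
    have hcomm : x * (t * x * t) = t * x * t * x :=
      congrArg Subtype.val (mul_comm (⟨x, hxU⟩ : ↥U) ⟨_, htx⟩)
    refine ⟨t, htt, ?_⟩
    by_contra hne
    have hu1 : x * (t * x * t) ≠ 1 := fun e => hne (inv_eq_of_mul_eq_one_right e).symm
    apply htU
    rw [← hU.centralizer_eq h (mul_mem hxU htx) hu1, Subgroup.mem_centralizer_singleton_iff]
    calc t * (x * (t * x * t)) = t * x * t * x * (t * t) * t := by rw [htt]; group
      _ = _ := by rw [← hcomm, htt]; group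
  · obtain ⟨pt, hpt, he⟩ : ∃ pt ∈ Cfsg.suzukiOvoid F m, x • pt = pt := by
      by_contra hc
      exact hfree fun pt hpt e => hc ⟨pt, hpt, e⟩
    obtain ⟨y, hy | ⟨k, -, hy⟩⟩ := exists_normal_form h hpt he
    · exfalso
      obtain ⟨a, ha⟩ := IsPGroup.iff_orderOf.1 (isPGroup_tGroup h) ⟨_, hy⟩
      rw [Subgroup.orderOf_mk, show y⁻¹ * x * y = MulAut.conj y⁻¹ x by simp,
        MulEquiv.orderOf_eq] at ha
      exact hx2 ((Nat.prime_dvd_prime_iff_eq hx Nat.prime_two).mp
        (hx.dvd_of_dvd_pow (dvd_of_eq ha)))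
    · refine ⟨y * wS h * y⁻¹, ?_, ?_⟩
      · rw [show y * wS h * y⁻¹ * (y * wS h * y⁻¹) = y * (wS h * wS h) * y⁻¹ by group,
          wS_mul_self]
        group
      · have hxy : x = y * dS h k * y⁻¹ := by rw [← hy]; group
        rw [hxy, show y * wS h * y⁻¹ * (y * dS h k * y⁻¹) * (y * wS h * y⁻¹) =
          y * (wS h * dS h k * wS h) * y⁻¹ by group, wS_conj_dS, ← dS_inv]
        group

theorem model_suzuki : Model 2 (tZ h) := by
  refine ⟨fun y hy hy1 g hg => ?_, fun V hV hVn hVe hV1 => ?_, fun x hx hx2 => Or.inl ?_⟩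
  · rw [mem_normalizer_tZ] at hg ⊢
    have h1 : y • (g⁻¹ • (pInf : Projectivization F (Fin 4 → F))) = g⁻¹ • pInf := by
      rw [eq_inv_smul_iff, ← mul_smul, ← mul_smul]
      exact hg
    have h2 := tS_fixed h (tZ_le h hy) hy1 (smul_ovoid (g⁻¹).2 pInf_mem) h1
    exact (inv_smul_eq_iff.mp h2).symm
  · have hVZ : V ≤ tZ h := by
      intro v hv
      have hvv : v * v = 1 := by rw [← sq]; exact hVe.2 v hv
      rcases borel_conj h ((mem_normalizer_tZ h).mp (hV hv)) with h1 | ⟨y, k, hk, rfl⟩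
      · exact mem_tZ_of_sq h h1 hvv
      · refine absurd ?_ hk
        have h1 : dS h k * dS h k = 1 := by
          rwa [show y * dS h k * y⁻¹ * (y * dS h k * y⁻¹) = y * (dS h k * dS h k) * y⁻¹ by group,
            conj_eq_one_iff] at hvv
        rw [dS_mul, ← dS_one h] at h1
        have h2 := congrArg Units.val (dS_injective h h1)
        refine Units.ext (h.pow_sq_inj ?_)
        rw [Units.val_mul, Units.val_one] at h2
        rw [Units.val_one, one_pow, sq, h2]
    obtain ⟨v, hv, hv1⟩ := (bot_or_exists_ne_one V).resolve_left hV1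
    obtain ⟨c₀, rfl⟩ := hVZ hv
    have hc₀ : c₀ ≠ 0 := fun e => hv1 (by rw [e, tS_zero])
    refine le_antisymm hVZ ?_
    rintro _ ⟨c, rfl⟩
    by_cases hc : c = 0
    · rw [hc, tS_zero]; exact one_mem V
    have hinj : Function.Injective fun k : Fˣ =>
        Units.mk0 ((k : F) * sig m (k : F))
          (mul_ne_zero k.ne_zero fun e => k.ne_zero (sig_eq_zero.mp e)) := by
      intro k j hkj
      have e : (k : F) * sig m (k : F) = (j : F) * sig m (j : F) := congrArg Units.val hkj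
      have h1 : ((k / j : Fˣ) : F) * sig m ((k / j : Fˣ) : F) = 1 := by
        rw [Units.val_div_eq_div_val, sig_div, div_mul_div_comm, e]
        exact div_self (mul_ne_zero j.ne_zero fun e => j.ne_zero (sig_eq_zero.mp e))
      exact div_eq_one.mp (Units.ext (h.eq_one_of_mul_sig h1))
    obtain ⟨k, hk⟩ := Finite.injective_iff_surjective.mp hinj (Units.mk0 (c / c₀) (div_ne_zero hc hc₀))
    have hk' : (k : F) * sig m (k : F) = c / c₀ := congrArg Units.val hk
    have hd : dS h k ∈ normalizer (tZ h : Set (Cfsg.Sz F m)) :=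
      (mem_normalizer_tZ h).mpr (dS_smul_pInf h k)
    have h1 := (mem_normalizer_iff.mp (hVn hd) _).mp hv
    rwa [dS_conj, mul_zero, hk', div_mul_cancel₀ c hc₀] at h1
  · obtain ⟨t, htt, htx⟩ := exists_inverter h hx hx2
    have hti : t⁻¹ = t := inv_eq_of_mul_eq_one_right htt
    have hxne : ∀ {z : Cfsg.Sz F m}, z = x → z * z ≠ 1 := by
      rintro z rfl hzz
      exact hx2 ((Nat.prime_dvd_prime_iff_eq hx Nat.prime_two).mp
        (orderOf_dvd_of_pow_eq_one (by rw [sq, hzz])))
    have ht' : t * x * (t * x) = 1 := by rw [← mul_assoc, htx, inv_mul_cancel]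
    obtain ⟨g, hg⟩ := exists_conj_mem_tZ h htt
    obtain ⟨g', hg'⟩ := exists_conj_mem_tZ h ht'
    have ht1 : t ≠ 1 := by
      rintro rfl
      simp only [one_mul, mul_one] at ht'
      exact hxne rfl ht'
    have ht1' : t * x ≠ 1 := fun e => by
      have : x = t := by rw [← mul_inv_cancel_left t x, hti, e, mul_one]
      exact hxne this.symm htt
    refine ⟨g, g', g⁻¹ * t * g, g'⁻¹ * (t * x) * g', hg, fun e => ht1 ?_, hg', fun e => ht1' ?_,
      fun hn => hxne rfl ?_, ?_⟩
    · calc t = g * (g⁻¹ * t * g) * g⁻¹ := by group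
        _ = 1 := by rw [e]; group
    · calc t * x = g' * (g'⁻¹ * (t * x) * g') * g'⁻¹ := by group
        _ = 1 := by rw [e]; group
    · have h1 := (mem_normalizer_iff.mp hn _).mp hg'
      rw [show g⁻¹ * g' * (g'⁻¹ * (t * x) * g') * (g⁻¹ * g')⁻¹ = g⁻¹ * (t * x) * g by group] at h1
      have h2 := sq_of_mem_tZ h (mul_mem hg h1)
      rw [show g⁻¹ * t * g * (g⁻¹ * (t * x) * g) = g⁻¹ * (t * t * x) * g by group, htt, one_mul,
        show g⁻¹ * x * g * (g⁻¹ * x * g) = g⁻¹ * (x * x) * g by group] at h2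
      have h3 : g⁻¹ * (x * x) * g⁻¹⁻¹ = 1 := by rwa [inv_inv]
      exact conj_eq_one_iff.mp h3
    · rw [show g * (g⁻¹ * t * g) * g⁻¹ * (g' * (g'⁻¹ * (t * x) * g') * g'⁻¹) = t * t * x by group,
        htt, one_mul]

end Suzuki

end CfsgLib.LocalStr.FrakL
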