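import Cfsg.Agent.Lib.LocalStr.Basic
import Cfsg.Agent.Lib.LocalStr.PReduced
import Cfsg.Agent.Lib.LocalStr.FrakModel
import Mathlib.Tactic.Group

/-!
The image of `Y_M` in `L / O_p(L)` for a member `L` of `𝔏_G(Y_M)`.
-/

set_option autoImplicit false
set_option linter.style.haveILetI false

namespace CfsgLib.LocalStr.FrakL

open Subgroup Cfsg
open scoped MatrixGroups

/-- What is known about the image `Yb` of `Y` modulo a normal `p`-subgroup. -/
structure Image {K : Type*} [Group K] (p : ℕ) (O : Subgroup K) [O.Normal] (Ys : Subgroup K) :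
    Prop where
  ne_bot : Ys.map (QuotientGroup.mk' O) ≠ ⊥
  comap_normalizer : (normalizer ((Ys.map (QuotientGroup.mk' O) : Subgroup (K ⧸ O)) : Set (K ⧸ O))).comap
    (QuotientGroup.mk' O) = normalizer (Ys : Set K)
  closure_top : normalClosure ((Ys.map (QuotientGroup.mk' O) : Subgroup (K ⧸ O)) : Set (K ⧸ O)) = ⊤
  maximal : ∀ X : Subgroup (K ⧸ O), Ys.map (QuotientGroup.mk' O) ≤ X → X ≠ ⊤ →
    X ≤ normalizer ((Ys.map (QuotientGroup.mk' O) : Subgroup (K ⧸ O)) : Set (K ⧸ O))
  elem : IsElementaryAbelian p (Ys.map (QuotientGroup.mk' O))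

theorem image_data {K : Type*} [Group K] [Finite K] {p : ℕ} [Fact p.Prime] {O : Subgroup K}
    [O.Normal] (hOp : IsPGroup p ↥O) {Ys : Subgroup K} (hY : IsElementaryAbelian p Ys)
    (hgen : normalClosure (Ys : Set K) = ⊤) (hON : O ≤ normalizer (Ys : Set K))
    (hnt : normalizer (Ys : Set K) ≠ ⊤)
    (hmax : ∀ X : Subgroup K, Ys ≤ X → X ≠ ⊤ → X ≤ normalizer (Ys : Set K)) : Image p O Ys := by
  set f := QuotientGroup.mk' O with hf
  have hfs : Function.Surjective f := QuotientGroup.mk'_surjective O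
  have hcl : normalClosure ((Ys.map f : Subgroup (K ⧸ O)) : Set (K ⧸ O)) = ⊤ := by
    rw [coe_map, ← map_normalClosure _ f hfs, hgen, map_top_of_surjective f hfs]
  have hYp : IsPGroup p ↥Ys := LocalEven.isPGroup_elemAb hY
  have hKnp : ¬ IsPGroup p K := by
    intro hK
    haveI := hK.isNilpotent
    rcases eq_top_or_exists_le_coatom Ys with h | ⟨M, hM, hle⟩
    · exact hnt (normalizer_eq_top_iff.mpr (h ▸ inferInstance))
    · haveI : M.Normal := NormalizerCondition.normal_of_coatom M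
        (Group.normalizerCondition_of_isNilpotent (G := K)) hM
      exact hM.1 (top_le_iff.mp (hgen.ge.trans (normalClosure_le_normal hle)))
  have hne : Ys.map f ≠ ⊥ := by
    intro h
    rw [Subgroup.map_eq_bot_iff, hf, QuotientGroup.ker_mk'] at h
    exact hKnp (hOp.of_equiv ((MulEquiv.subgroupCongr
      (top_le_iff.mp (hgen.ge.trans (normalClosure_le_normal h)))).trans topEquiv))
  have hcomap : (normalizer ((Ys.map f : Subgroup (K ⧸ O)) : Set (K ⧸ O))).comap f =
      normalizer (Ys : Set K) := by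
    refine le_antisymm ?_ ?_
    · refine hmax _ ((le_comap_map f Ys).trans (comap_mono le_normalizer)) fun h => ?_
      have h1 : normalizer ((Ys.map f : Subgroup (K ⧸ O)) : Set (K ⧸ O)) = ⊤ :=
        comap_injective hfs (by rw [h, comap_top])
      haveI : (Ys.map f).Normal := normalizer_eq_top_iff.mp h1
      have h2 : Ys.map f = ⊤ := by rw [← hcl, normalClosure_eq_self]
      have h3 : Ys ⊔ O = ⊤ := by
        have := congrArg (comap f) h2
        rwa [comap_map_eq, hf, QuotientGroup.ker_mk', comap_top] at this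
      refine hKnp ((IsPGroup.to_sup_of_normal_right hYp hOp).of_equiv
        ((MulEquiv.subgroupCongr h3).trans topEquiv))
    · exact map_le_iff_le_comap.mp (le_normalizer_map f)
  refine ⟨hne, hcomap, hcl, fun X hX hXt => ?_, ⟨⟨⟨fun ⟨a, ha⟩ ⟨b, hb⟩ => Subtype.ext ?_⟩⟩, ?_⟩⟩
  · refine (comap_le_comap_of_surjective hfs).mp (hcomap ▸ hmax _
      ((le_comap_map f Ys).trans (comap_mono hX)) fun h => hXt ?_)
    exact comap_injective hfs (by rw [h, comap_top])
  · obtain ⟨a, ha', rfl⟩ := ha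
    obtain ⟨b, hb', rfl⟩ := hb
    show f a * f b = f b * f a
    rw [← map_mul, ← map_mul]
    exact congrArg (fun t : ↥Ys => f (t : K)) (hY.1.is_comm.comm ⟨a, ha'⟩ ⟨b, hb'⟩)
  · rintro _ ⟨a, ha, rfl⟩
    rw [← map_pow, hY.2 a ha, map_one]

theorem exists_conj_upperUni {F : Type*} [Field F] [Fintype F] {p n : ℕ} [Fact p.Prime]
    (hF : Fintype.card F = p ^ n) {Y : Subgroup SL(2, F)} (hYp : IsPGroup p ↥Y)
    (hY : Nat.card ↥Y = Fintype.card F) :
    ∃ g : SL(2, F), Y.map (MulAut.conj g).toMonoidHom = LocalEven.upperUni F := by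
  have hn : n ≠ 0 := by
    rintro rfl
    have := Fintype.one_lt_card (α := F)
    rw [hF, pow_zero] at this
    omega
  have hidx : ∀ X : Subgroup SL(2, F), Nat.card ↥X = Fintype.card F → ¬ p ∣ X.index := by
    intro X hX hd
    have h := card_mul_index X
    rw [hX, Linear.card_SL_two] at h
    rw [Nat.eq_of_mul_eq_mul_left Fintype.card_pos h, hF] at hd
    have hp2 : p ∣ (p ^ n) ^ 2 := dvd_pow (dvd_pow_self p hn) two_ne_zero
    have h1 := Nat.dvd_sub hp2 hd
    rw [Nat.sub_sub_self (Nat.one_le_pow _ _ (pow_pos (Fact.out : p.Prime).pos n))] at h1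
    exact (Fact.out : p.Prime).ne_one (Nat.dvd_one.mp h1)
  have hU : Nat.card ↥(LocalEven.upperUni F) = Fintype.card F := by
    rw [LocalEven.card_upperUni, Nat.card_eq_fintype_card]
  let P : Sylow p SL(2, F) := hYp.toSylow (hidx Y hY)
  let U : Sylow p SL(2, F) := (IsPGroup.of_card (n := n) (hU.trans hF)).toSylow (hidx _ hU)
  obtain ⟨g, hg⟩ := MulAction.exists_smul_eq SL(2, F) P U
  exact ⟨g, congrArg Sylow.toSubgroup hg⟩

theorem exists_conj_tZ {F : Type*} [Field F] [Fintype F] {m : ℕ} (h : Suzuki.SzHyp F m)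
    {Y : Subgroup (Cfsg.Sz F m)} (hY2 : ∀ y ∈ Y, y * y = 1) (hY : Nat.card ↥Y = Fintype.card F) :
    ∃ g : Cfsg.Sz F m, Y.map (MulAut.conj g).toMonoidHom = tZ h := by
  haveI := Fact.mk Nat.prime_two
  obtain ⟨P, hP⟩ := (show IsPGroup 2 ↥Y from fun y => ⟨1, Subtype.ext (by
    rw [pow_one, SubmonoidClass.coe_pow, sq, hY2 y y.2]; rfl)⟩).exists_le_sylow
  obtain ⟨x, hx⟩ := Suzuki.exists_map_tGroup h P
  refine ⟨x⁻¹, Subgroup.eq_of_le_of_card_ge ?_ ?_⟩
  · rintro _ ⟨y, hy, rfl⟩
    show x⁻¹ * y * x⁻¹⁻¹ ∈ tZ h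
    rw [inv_inv]
    refine mem_tZ_of_sq h ?_ ?_
    · have := hP hy
      rwa [hx, Suzuki.mem_map_conj] at this
    · rw [show x⁻¹ * y * x * (x⁻¹ * y * x) = x⁻¹ * (y * y) * x by group, hY2 y hy]
      group
  · rw [card_tZ, card_map_of_injective (MulAut.conj x⁻¹).injective, hY]

/-- The data attached to a member of `𝔏_G(Y_M)`. -/
theorem member_data {G : Type*} [Group G] [Finite G] {p : ℕ} [Fact p.Prime] {M L : Subgroup G}
    (hL : IsInFrakL p M L) :
    Image p (pCore p ↥L) ((largestPReducedOf p M).subgroupOf L) ∧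
      Model p (((largestPReducedOf p M).subgroupOf L).map (QuotientGroup.mk' (pCore p ↥L))) := by
  obtain ⟨hYL, -, hAN, ⟨hgen, -⟩, -, ⟨hlt, hmax⟩, hmodel⟩ := hL
  set Y := largestPReducedOf p M with hY
  set Ys := Y.subgroupOf L with hYs
  have hYe : IsElementaryAbelian p Y := (pRedIn_largest M).elem
  have hYse : IsElementaryAbelian p Ys := by
    rw [← isElementaryAbelian_map L.subtype_injective, map_subgroupOf_eq_of_le hYL]
    exact hYe
  have hNs : normalizer (Ys : Set ↥L) = (normalizer (Y : Set G)).subgroupOf L :=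
    (subgroupOf_normalizer_eq hYL).symm
  have hAs : pCore p ↥L ≤ normalizer (Ys : Set ↥L) := by
    rw [hNs]
    exact fun x hx => mem_subgroupOf.mpr (hAN ⟨x, hx, rfl⟩)
  have hsN : ∀ {X : Subgroup ↥L}, X.map L.subtype ≤ normalizer (Y : Set G) →
      X ≤ normalizer (Ys : Set ↥L) := fun {X} h => by
    rw [hNs]; exact fun x hx => mem_subgroupOf.mpr (h ⟨x, hx, rfl⟩)
  have him := image_data (Components.isPGroup_pCore p) hYse hgen hAs (fun h => hlt.not_ge fun x hx => by
      refine ⟨hx, ?_⟩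
      have : (⟨x, hx⟩ : ↥L) ∈ normalizer (Ys : Set ↥L) := h ▸ mem_top _
      rwa [hNs, mem_subgroupOf] at this) fun X hX hXt => by
    refine hsN ((hmax _ ?_ (lt_of_le_of_ne (map_subtype_le X) fun h => hXt ?_)).trans inf_le_right)
    · rw [← map_subgroupOf_eq_of_le hYL]; exact map_mono hX
    · exact map_injective L.subtype_injective (by rw [h, ← MonoidHom.range_eq_map, range_subtype])
  refine ⟨him, ?_⟩
  set f := QuotientGroup.mk' (pCore p ↥L) with hf
  set Yb := Ys.map f with hYb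
  have hcard : Nat.card ↥Yb = (Y ⊓ pCoreOf p L).relIndex Y := by
    rw [hYb, ← relIndex_ker, hf, QuotientGroup.ker_mk',
      show pCore p ↥L = (pCoreOf p L).subgroupOf L from
        (comap_map_eq_self_of_injective L.subtype_injective _).symm,
      hYs, relIndex_subgroupOf hYL, inf_comm, inf_relIndex_right]
  have hYbe := him.elem
  have hsq : p = 2 → ∀ y ∈ Yb, y * y = 1 := by
    rintro rfl y hy
    rw [← sq]; exact hYbe.2 y hy
  rcases hmodel with ⟨F, _, _, hF, ⟨e⟩⟩ | ⟨rfl, F, _, _, m, hF, hF', ⟨e⟩⟩ | ⟨rfl, r, hr, hr2, ⟨e⟩⟩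
  · obtain ⟨n, hn⟩ := (LocalEven.isPGroup_elemAb hYbe).exists_card_eq
    have hFn : Fintype.card F = p ^ n := by rw [hF, ← hcard, hn]
    have hc : Nat.card ↥(Yb.map e.toMonoidHom) = Fintype.card F := by
      rw [card_map_of_injective e.injective, hn, hFn]
    obtain ⟨g, hg⟩ := exists_conj_upperUni hFn ((LocalEven.isPGroup_elemAb hYbe).map _) hc
    exact Model.of_equiv e (Model.of_equiv (MulAut.conj g) (hg ▸ model_sl2 hFn))
  · set Z := Yb.map e.toMonoidHom with hZ
    have hZsq : ∀ y ∈ Z, y * y = 1 := by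
      rintro _ ⟨y, hy, rfl⟩
      show e y * e y = 1
      rw [← map_mul, hsq rfl y hy, map_one]
    by_cases hm : m = 0
    · subst hm
      exfalso
      apply SzTwo.closure_involutions_ne_top (F := F) (by rw [hF]; rfl)
      have htop : normalClosure ((Z : Subgroup _) : Set ↥(Cfsg.Lie.Sz F (2 ^ (0 + 1)))) = ⊤ := by
        rw [hZ, coe_map, ← map_normalClosure _ _ e.surjective, him.closure_top,
          map_top_of_surjective _ e.surjective]
      refine top_le_iff.mp (htop.ge.trans ((closure_le _).mpr fun z hz => subset_closure ?_))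
      obtain ⟨y, hy, hc⟩ := Group.mem_conjugatesOfSet_iff.mp hz
      obtain ⟨c, rfl⟩ := isConj_iff.mp hc
      show c * y * c⁻¹ * (c * y * c⁻¹) = 1
      rw [show c * y * c⁻¹ * (c * y * c⁻¹) = c * (y * y) * c⁻¹ by group, hZsq y hy]
      group
    · have h : Suzuki.SzHyp F m := ⟨Nat.pos_of_ne_zero hm, hF⟩
      set e' := e.trans (SuzukiMatrix.szEquiv h).symm with he'
      have hc : Nat.card ↥(Yb.map e'.toMonoidHom) = Fintype.card F := by
        rw [card_map_of_injective e'.injective, hcard, hF']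
      obtain ⟨g, hg⟩ := exists_conj_tZ h (Y := Yb.map e'.toMonoidHom) (by
        rintro _ ⟨y, hy, rfl⟩
        show e' y * e' y = 1
        rw [← map_mul, hsq rfl y hy, map_one]) hc
      exact Model.of_equiv e' (Model.of_equiv (MulAut.conj g) (hg ▸ model_suzuki h))
  · refine Model.of_equiv e (model_dihedral hr hr2 _
      (fun h => him.ne_bot ((map_eq_bot_iff_of_injective _ e.injective).mp h)) ?_)
    rintro _ ⟨y, hy, rfl⟩
    show e y * e y = 1
    rw [← map_mul, hsq rfl y hy, map_one]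

end CfsgLib.LocalStr.FrakL
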