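import Cfsg.Agent.Lib.LocalStr.PReduced
import Cfsg.Agent.Lib.LocalEven.PReducedSubnormal

/-!
`Y` of normal and subnormal subgroups.
-/

set_option autoImplicit false
set_option linter.style.haveILetI false
set_option linter.unusedSectionVars false

namespace CfsgLib.LocalStr

open Subgroup Cfsg
open CfsgLib.LocalEven (IsSylOf cj IsPMod)
open scoped commutatorElement

variable {H : Type*} [Group H] [Finite H] {p : ℕ} [Fact p.Prime]

theorem isPMod_of_coprime {C N : Subgroup H} (h : ∀ x ∈ N, (orderOf x).Coprime p → x ∈ C) :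
    IsPMod p C N := fun x hx => by
  obtain ⟨k, hk⟩ := exists_pow_coprime (p := p) x
  exact ⟨k, h _ (pow_mem hx _) hk⟩

theorem pRes_le_of_isPMod {C N : Subgroup H} (h : IsPMod p C N) : pRes p N ≤ C :=
  pRes_le_iff.mpr fun x hx hc => by
    obtain ⟨k, hk⟩ := h x hx
    exact coprime_of_mem_pRes_of_pGroup (k := k) hc hk

/-- If `x` acts on the elementary abelian `U` commuting with the `p`-mod-`C(U)` group `N` and fixes
`C_U(N)`, it fixes `U`. -/
theorem commute_of_fix_fixed {U N : Subgroup H} (hUe : IsElementaryAbelian p U)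
    (hNU : N ≤ normalizer (U : Set H)) (hm : IsPMod p (centralizer (U : Set H)) N) {x : H}
    (hxU : x ∈ normalizer (U : Set H)) (hc : (orderOf x).Coprime p)
    (hxN : ∀ s ∈ N, ⁅s, x⁆ ∈ centralizer (U : Set H))
    (hfix : ∀ u ∈ U ⊓ centralizer (N : Set H), x * u = u * x) : ∀ u ∈ U, x * u = u * x := by
  obtain ⟨S, hS⟩ := LocalEven.exists_isSylOf (p := p) N
  have hN : N ≤ pRes p N ⊔ S := (pRes_sup_of_isSylOf hS).ge
  have hK : IsPGroup p ↥(S ⊔ U) :=
    Components.isPGroup_sup hS.isPGroup (LocalEven.isPGroup_elemAb hUe) (hS.1.trans hNU)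
  haveI := hK.isNilpotent
  have hab : ∀ a ∈ U, ∀ b ∈ U, a * b = b * a := fun a ha b hb =>
    congrArg Subtype.val (hUe.1.is_comm.comm (⟨a, ha⟩ : U) ⟨b, hb⟩)
  have main : ∀ n : ℕ, ∀ u (hu : u ∈ U),
      (⟨u, mem_sup_right hu⟩ : ↥(S ⊔ U)) ∈ Subgroup.upperCentralSeries ↥(S ⊔ U) n →
        x * u = u * x := by
    intro n
    induction n with
    | zero =>
      intro u hu h
      rw [Subgroup.upperCentralSeries_zero, mem_bot] at h
      rw [show u = 1 from congrArg Subtype.val h, mul_one, one_mul]
    | succ n ih =>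
      intro u hu h
      rw [Subgroup.mem_upperCentralSeries_succ_iff] at h
      set d := u⁻¹ * (x * u * x⁻¹) with hd
      have hdU : d ∈ U := mul_mem (inv_mem hu) ((mem_normalizer_iff.mp hxU u).mp hu)
      have hdS : ∀ s ∈ S, s * d * s⁻¹ = d := by
        intro s hs
        set w := u⁻¹ * (s * u * s⁻¹) with hw
        have hwU : w ∈ U := mul_mem (inv_mem hu) ((mem_normalizer_iff.mp (hNU (hS.1 hs)) u).mp hu)
        have hxw : x * w = w * x := by
          have h1 := h (⟨s, mem_sup_left hs⟩ : ↥(S ⊔ U))
          have h2 := ih (u * s * u⁻¹ * s⁻¹) ?_ (by convert h1 using 1; exact Subtype.ext (by simp [commutatorElement_def]))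
          · -- `u s u⁻¹ s⁻¹` is a conjugate of `w⁻¹` inside the abelian `U`
            have h3 : u * s * u⁻¹ * s⁻¹ = w⁻¹ := by
              have e1 : u * s * u⁻¹ * s⁻¹ = u * (s * u * s⁻¹)⁻¹ := by group
              rw [e1, hab _ hu _ (inv_mem ((mem_normalizer_iff.mp (hNU (hS.1 hs)) u).mp hu)), hw]
              group
            rw [h3] at h2
            exact ((Commute.inv_right_iff).mp h2)
          · rw [show u * s * u⁻¹ * s⁻¹ = u * (s * u⁻¹ * s⁻¹) by group]
            exact mul_mem hu ((mem_normalizer_iff.mp (hNU (hS.1 hs)) _).mp (inv_mem hu))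
        have hsu : s * u * s⁻¹ = u * w := by rw [hw]; group
        have hxu' : x * u * x⁻¹ ∈ U := (mem_normalizer_iff.mp hxU u).mp hu
        have hsc : s * (x * u * x⁻¹) * s⁻¹ = x * (s * u * s⁻¹) * x⁻¹ := by
          have hcm := hxN s (hS.1 hs)
          have hsu' : x * (s * u * s⁻¹) * x⁻¹ ∈ U :=
            (mem_normalizer_iff.mp hxU _).mp ((mem_normalizer_iff.mp (hNU (hS.1 hs)) u).mp hu)
          have e := mem_centralizer_iff.mp hcm _ hsu'
          rw [show s * (x * u * x⁻¹) * s⁻¹ = ⁅s, x⁆ * (x * (s * u * s⁻¹) * x⁻¹) * ⁅s, x⁆⁻¹ by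
            rw [commutatorElement_def]; group, ← e, mul_inv_cancel_right]
        rw [hd, show s * (u⁻¹ * (x * u * x⁻¹)) * s⁻¹ = (s * u * s⁻¹)⁻¹ * (s * (x * u * x⁻¹) * s⁻¹)
          by group, hsc, hsu,
          show x * (u * w) * x⁻¹ = x * u * x⁻¹ * (x * w * x⁻¹) by group, hxw, mul_inv_cancel_right,
          mul_inv_rev, mul_assoc, ← mul_assoc u⁻¹, hab w⁻¹ (inv_mem hwU) _
          (mul_mem (mul_mem (inv_mem hu) hxu') hwU)]
        group
      have hdN : d ∈ centralizer (N : Set H) := by
        rw [mem_centralizer_iff]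
        intro g hg
        have hle : pRes p N ⊔ S ≤ centralizer ({d} : Set H) := by
          refine sup_le (fun r hr => ?_) (fun s hs => ?_)
          · rw [mem_centralizer_singleton_iff]
            exact (mem_centralizer_iff.mp (pRes_le_of_isPMod hm hr) d hdU).symm
          · rw [mem_centralizer_singleton_iff]
            exact mul_inv_eq_iff_eq_mul.mp (hdS s hs)
        exact mem_centralizer_singleton_iff.mp (hle (hN hg))
      exact CharP.commute_of_stab (LocalEven.isPGroup_elemAb hUe) hc hdU (hfix d ⟨hdU, hdN⟩)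
  intro u hu
  obtain ⟨n, hn⟩ := Group.IsNilpotent.nilpotent (G := ↥(S ⊔ U))
  exact main n u hu (hn ▸ mem_top _)

/-- `C_L(Y_K) ≤ C(Y_L)` for `L` normal in `K`. -/
theorem inf_centralizer_largest_le {L K : Subgroup H} (hLK : L ≤ K)
    (hn : K ≤ normalizer (L : Set H)) :
    L ⊓ centralizer (largestPReducedOf p K : Set H) ≤
      centralizer (largestPReducedOf p L : Set H) := by
  set Z := largestPReducedOf p L with hZ
  have hZr := pRedIn_largest (p := p) L
  suffices h : ∀ U : Subgroup H, U ≤ K → K ≤ normalizer (U : Set H) → IsElementaryAbelian p U →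
      L ⊓ centralizer (U : Set H) ≤ centralizer (Z : Set H) →
      L ⊓ centralizer (Z : Set H) ≤ centralizer (U : Set H) →
      L ⊓ centralizer (largestPReducedOf p K : Set H) ≤ centralizer (Z : Set H) by
    refine h Z (hZr.le.trans hLK) ?_ hZr.elem inf_le_right inf_le_right
    refine le_normalizer_map_of_characteristic (C := largestPReduced p ↥L) ?_ hn
    refine characteristic_iff_map_le.mpr fun e => ?_
    rw [Cfsg.largestPReduced, sSup_eq_iSup', Subgroup.map_iSup]
    refine iSup_le fun V => le_iSup_of_le ⟨(V : Subgroup L).map e.toMonoidHom, ?_⟩ le_rfl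
    obtain ⟨hV1, hV2, hV3⟩ := id V.2
    refine LocalEven.pReduced_mk (hV1.map _ e.surjective)
      ((isElementaryAbelian_map (f := e.toMonoidHom) e.injective).mpr hV2) fun N hN _ hNm => ?_
    have hce : centralizer (((V : Subgroup L).map e.toMonoidHom : Subgroup L) : Set L) =
        (centralizer ((V : Subgroup L) : Set L)).map e.toMonoidHom := by
      ext y
      obtain ⟨y, rfl⟩ := e.surjective y
      rw [show e y = e.toMonoidHom y from rfl, mem_map_iff_mem e.injective, mem_centralizer_iff,
        mem_centralizer_iff]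
      constructor
      · intro hy v hv
        exact e.injective (by simpa using hy _ (mem_map_of_mem _ hv))
      · rintro hy _ ⟨v, hv, rfl⟩
        simpa using congrArg e (hy v hv)
    rw [hce] at hNm ⊢
    have h1 := LocalEven.pReduced_le_centralizer V.2 (hN.comap e.toMonoidHom) fun x hx => by
      obtain ⟨k, hk⟩ := hNm _ hx
      rw [← map_pow, mem_map_iff_mem e.injective] at hk
      exact ⟨k, hk⟩
    intro y hy
    obtain ⟨y, rfl⟩ := e.surjective y
    exact mem_map_of_mem _ (h1 hy)
  intro U
  induction U using WellFoundedLT.induction with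
  | ind U ih =>
    intro hUK hKU hUe h1 h2
    by_cases hred : PRedIn p K U
    · exact (inf_le_inf le_rfl (centralizer_le (SetLike.coe_subset_coe.mpr (le_largest hred)))).trans
        h1
    have : ∃ N : Subgroup H, N ≤ K ∧ K ≤ normalizer (N : Set H) ∧
        IsPMod p (centralizer (U : Set H)) N ∧ ¬ N ≤ centralizer (U : Set H) := by
      by_contra hcon
      push Not at hcon
      exact hred ⟨hUK, hKU, hUe, fun N a b c => hcon N a b c⟩
    obtain ⟨N, hNK, hKN, hm, hnle⟩ := this
    have hlt : U ⊓ centralizer (N : Set H) < U := by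
      refine inf_le_left.lt_of_ne fun h => hnle ?_
      exact le_centralizer_iff.mp (inf_eq_left.mp h)
    refine ih _ hlt (inf_le_left.trans hUK)
      (LocalEven.le_normalizer_inf hKU (LocalEven.le_normalizer_centralizer' hKN))
      ⟨⟨⟨fun a b => Subtype.ext (congrArg Subtype.val
        (hUe.1.is_comm.comm ⟨a, a.2.1⟩ ⟨b, b.2.1⟩) :)⟩⟩, fun a ha => hUe.2 a ha.1⟩ ?_
      (h2.trans (centralizer_le (SetLike.coe_subset_coe.mpr inf_le_left)))
    -- `N ∩ L` centralises `U`
    have hNL : N ⊓ L ≤ centralizer (U : Set H) := by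
      refine le_trans (le_inf inf_le_right ?_) h2
      refine hZr.red _ inf_le_right (LocalEven.le_normalizer_inf (hLK.trans hKN) le_normalizer) ?_
      intro g hg
      obtain ⟨k, hk⟩ := hm g hg.1
      exact ⟨k, h1 ⟨pow_mem hg.2 _, hk⟩⟩
    set D := L ⊓ centralizer ((U ⊓ centralizer (N : Set H) : Subgroup H) : Set H) with hD
    have hDn : L ≤ normalizer (D : Set H) := LocalEven.le_normalizer_inf le_normalizer
      (LocalEven.le_normalizer_centralizer' (LocalEven.le_normalizer_inf (hLK.trans hKU)
        (LocalEven.le_normalizer_centralizer' (hLK.trans hKN))))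
    refine hZr.red D inf_le_left hDn (isPMod_of_coprime fun x hx hc => h1 ⟨hx.1, ?_⟩)
    refine mem_centralizer_iff.mpr fun u hu => (commute_of_fix_fixed hUe (hNK.trans hKU) hm
      (hKU (hLK hx.1)) hc (fun s hs => hNL ⟨?_, ?_⟩)
      (fun v hv => (mem_centralizer_iff.mp hx.2 v hv).symm) u hu).symm
    · exact (le_normalizer_iff_commutator_le_left.mp (hLK.trans hKN))
        (commutator_mem_commutator hs hx.1)
    · exact (le_normalizer_iff_commutator_le_right.mp (hNK.trans hn))
        (commutator_mem_commutator hs hx.1)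

theorem largestPReducedOf_top : largestPReducedOf p (⊤ : Subgroup H) = largestPReduced p H := by
  refine le_antisymm ?_ ?_
  · refine le_sSup ?_
    have h := pRedIn_largest (p := p) (⊤ : Subgroup H)
    exact LocalEven.pReduced_mk (normalizer_eq_top_iff.mp (top_le_iff.mp h.norm)) h.elem
      fun N hN _ hm => h.red N le_top (by rw [normalizer_eq_top]) hm
  · refine sSup_le fun V hV => le_largest ⟨le_top, ?_, hV.2.1, fun N _ hN hm => ?_⟩
    · haveI := hV.1; rw [normalizer_eq_top]
    · exact LocalEven.pReduced_le_centralizer hV (normalizer_eq_top_iff.mp (top_le_iff.mp hN)) hm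

/-- `C_L(Y_H) ≤ C(Y_L)` for subnormal `L`. -/
theorem inf_centralizer_largest_le_subnormal {L : Subgroup H} (hL : L.IsSubnormal) :
    L ⊓ centralizer (largestPReduced p H : Set H) ≤
      centralizer (largestPReducedOf p L : Set H) := by
  induction hL with
  | top =>
    rw [largestPReducedOf_top]
    exact inf_le_right
  | step A B hAB _ hN ih =>
    have hn : B ≤ normalizer (A : Set H) := (normal_subgroupOf_iff_le_normalizer hAB).mp hN
    exact (le_inf inf_le_left ((inf_le_inf hAB le_rfl).trans ih)).trans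
      (inf_centralizer_largest_le hAB hn)

end CfsgLib.LocalStr
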