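import Cfsg.Agent.Lib.LocalStr.Irreducible

/-!
The quotient step in the proof that `H Q` is `p`-irreducible.
-/

set_option autoImplicit false
set_option linter.style.haveILetI false
set_option linter.unusedSectionVars false

namespace CfsgLib.LocalStr

open Subgroup Cfsg
open scoped commutatorElement

/-- If `O_p = 1`, `R T = Q`, `R ≤ ⟨Y^Q⟩`, and `Y` centralises `A ⊇ [N, R]`, `A ≤ R`, then `U ≤ N`
normalised by `T` is trivial as soon as `[U, Y] ≤ V` for a `T`-invariant `p`-subgroup `V` of `N`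
centralising `A`. -/
theorem eq_bot_of_centralizing {Q : Type*} [Group Q] [Finite Q] {p : ℕ} [Fact p.Prime]
    (hQ : pCore p Q = ⊥) {R T Y N A U V : Subgroup Q} [R.Normal] [N.Normal] [A.Normal]
    (hRT : R ⊔ T = ⊤) (hRY : R ≤ normalClosure (Y : Set Q)) (hAR : A ≤ R)
    (hAY : ⁅A, Y⁆ = ⊥) (hNR : ⁅N, R⁆ ≤ A)
    (hVN : V ≤ N) (hV : IsPGroup p V) (hVA : ⁅A, V⁆ = ⊥) (hTV : T ≤ normalizer (V : Set Q))
    (hN : N ≤ A ⊔ U) (hUV : ⁅U, Y⁆ ≤ V) (hU : IsPGroup p U) (hUN : U ≤ N)
    (hTU : T ≤ normalizer (U : Set Q)) : U = ⊥ := by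
  -- `Y` may be replaced by `R`
  have key : ∀ X : Subgroup Q, X.Normal → Y ≤ centralizer (X : Set Q) →
      R ≤ centralizer (X : Set Q) := fun X hX h => by
    haveI := hX
    exact hRY.trans (normalClosure_le_normal (SetLike.coe_subset_coe.mpr h))
  have hRA : R ≤ centralizer (A : Set Q) :=
    key A inferInstance (le_centralizer_iff.mp (commutator_eq_bot_iff_le_centralizer.mp hAY))
  have hA1 : ∀ a ∈ A, ∀ k : ℕ, a ^ p ^ k = 1 → a = 1 := by
    intro a ha k hk
    have h1 : zpowers a ≤ A := zpowers_le.mpr ha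
    have h2 : A ≤ normalizer (zpowers a : Set Q) := fun x hx => centralizer_le_normalizer _
      (mem_centralizer_iff.mpr fun z hz =>
        mem_centralizer_iff.mp (hRA (hAR hx)) z (h1 hz))
    have h3 : zpowers a ≤ pCore p Q := Components.le_pCore_of_isSubnormal
      (Components.isSubnormal_of_le_normalizer h1 h2 (Normal.isSubnormal inferInstance))
      (by
        obtain ⟨j, -, hj⟩ := (Nat.dvd_prime_pow Fact.out).mp (orderOf_dvd_of_pow_eq_one hk)
        exact IsPGroup.of_card (n := j) ((Nat.card_zpowers a).trans hj))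
    rw [hQ] at h3
    exact mem_bot.mp (h3 (mem_zpowers a))
  -- normalised by `R` and `T` means normal
  have hnormal : ∀ X : Subgroup Q, R ≤ centralizer (X : Set Q) → T ≤ normalizer (X : Set Q) →
      X.Normal := fun X h1 h2 => normalizer_eq_top_iff.mp (top_le_iff.mp
        (hRT ▸ sup_le (h1.trans (centralizer_le_normalizer _)) h2))
  have hRV : R ≤ centralizer (V : Set Q) := by
    intro r hr
    refine mem_centralizer_iff.mpr fun v hv => ?_
    have ha : ⁅v, r⁆ ∈ A := hNR (commutator_mem_commutator (hVN hv) hr)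
    obtain ⟨k, hk⟩ := hV ⟨v, hv⟩
    have hk' : v ^ p ^ k = 1 := congrArg Subtype.val hk
    have hc : Commute ⁅v, r⁆ v :=
      (mem_centralizer_iff.mp (commutator_eq_bot_iff_le_centralizer.mp hVA ha) v hv).symm
    have h1 : r * v * r⁻¹ = ⁅v, r⁆⁻¹ * v := by
      simp only [commutatorElement_def]; group
    have h2 : (⁅v, r⁆⁻¹) ^ p ^ k = 1 := by
      have h3 := congrArg (· ^ p ^ k) h1
      simp only [conj_pow, hk', mul_one, mul_inv_cancel, (hc.inv_left).mul_pow] at h3
      exact h3.symm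
    exact commutatorElement_eq_one_iff_mul_comm.mp (inv_eq_one.mp (hA1 _ (inv_mem ha) k h2))
  have hV1 : V = ⊥ := by
    haveI := hnormal V hRV hTV
    exact le_bot_iff.mp (hQ ▸ Components.le_pCore_of_normal inferInstance hV)
  have hNY : Y ≤ centralizer (N : Set Q) := le_centralizer_iff.mp <| hN.trans
    (sup_le (commutator_eq_bot_iff_le_centralizer.mp hAY)
      (commutator_eq_bot_iff_le_centralizer.mp (le_bot_iff.mp (hUV.trans hV1.le))))
  haveI := hnormal U ((key N inferInstance hNY).trans (centralizer_le (SetLike.coe_subset_coe.mpr hUN)))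
    hTU
  exact le_bot_iff.mp (hQ ▸ Components.le_pCore_of_normal inferInstance hU)

end CfsgLib.LocalStr
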