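import Cfsg.Agent.Lib.LocalStr.Irreducible
import Cfsg.Agent.Lib.LocalEven.Kieler

/-!
A transitive family of subgroups, each normal in their join, covering `O^p`.
-/

set_option autoImplicit false
set_option linter.style.haveILetI false
set_option linter.unusedSectionVars false

namespace CfsgLib.LocalStr

open Subgroup Cfsg
open CfsgLib.LocalEven (IsSylOf cj)
open scoped commutatorElement

variable {G : Type*} [Group G] [Finite G] {p : ℕ} [Fact p.Prime]

theorem isPGroup_zpowers_of_pow {z : G} {k : ℕ} (hk : z ^ p ^ k = 1) : IsPGroup p (zpowers z) := by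
  obtain ⟨j, -, hj⟩ := (Nat.dvd_prime_pow Fact.out).mp (orderOf_dvd_of_pow_eq_one hk)
  exact IsPGroup.of_card (n := j) ((Nat.card_zpowers z).trans hj)

/-- Without a normal `p`-subgroup, a subgroup centralised by a subnormal `X ≥ Z` has no `p`-part. -/
theorem torsion_free_of_central (hQ : pCore p G = ⊥) {X Z : Subgroup G} (hX : X.IsSubnormal)
    (hZX : Z ≤ X) (hZc : X ≤ centralizer (Z : Set G)) {z : G} (hz : z ∈ Z) {k : ℕ}
    (hk : z ^ p ^ k = 1) : z = 1 := by
  have h1 : zpowers z ≤ Z := zpowers_le.mpr hz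
  have h2 : zpowers z ≤ pCore p G := Components.le_pCore_of_isSubnormal
    (Components.isSubnormal_of_le_normalizer (h1.trans hZX)
      ((hZc.trans (centralizer_le (SetLike.coe_subset_coe.mpr h1))).trans
        (centralizer_le_normalizer _)) hX) (isPGroup_zpowers_of_pow hk)
  rw [hQ] at h2
  exact mem_bot.mp (h2 (mem_zpowers z))

/-- An element acting centrally on a group generated by `p`-elements, with values without
`p`-torsion, acts trivially. -/
theorem commute_of_central_values {E : Subgroup G} {Z : Subgroup G} {x : G}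
    (hgen : E ≤ closure {e : G | e ∈ E ∧ ∃ k : ℕ, e ^ p ^ k = 1})
    (hval : ∀ e ∈ E, ⁅e, x⁆ ∈ Z) (hc : E ≤ centralizer (Z : Set G))
    (htor : ∀ z ∈ Z, ∀ k : ℕ, z ^ p ^ k = 1 → z = 1) : x ∈ centralizer (E : Set G) := by
  have key : closure {e : G | e ∈ E ∧ ∃ k : ℕ, e ^ p ^ k = 1} ≤ centralizer ({x} : Set G) := by
    rw [closure_le]
    rintro e ⟨he, k, hk⟩
    refine mem_centralizer_singleton_iff.mpr (commutatorElement_eq_one_iff_mul_comm.mp ?_)
    set z := ⁅e, x⁆ with hz
    have hez : e * z = z * e := (mem_centralizer_iff.mp (hc he) z (hval e he)).symm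
    have hpow : ∀ n : ℕ, e ^ n * x * (e ^ n)⁻¹ = z ^ n * x := by
      intro n
      induction n with
      | zero => simp
      | succ n ih =>
        have h1 : e * (z ^ n * x) * e⁻¹ = z ^ (n + 1) * x := by
          calc e * (z ^ n * x) * e⁻¹ = (e * z ^ n) * (x * e⁻¹) := by group
            _ = (z ^ n * e) * (x * e⁻¹) := by rw [(Commute.pow_right hez n).eq]
            _ = z ^ n * z * x := by rw [hz, commutatorElement_def]; group
            _ = z ^ (n + 1) * x := by rw [pow_succ]
        rw [← h1, ← ih, pow_succ' e n]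
        group
    refine htor z (hval e he) k ?_
    have h2 := hpow (p ^ k)
    rw [hk, one_mul, inv_one, mul_one] at h2
    exact right_eq_mul.mp h2
  exact mem_centralizer_iff.mpr fun e he => mem_centralizer_singleton_iff.mp (key (hgen he))

/-- `O^p` commutes with homomorphisms. -/
theorem map_pRes {K : Type*} [Group K] [Finite K] (f : G →* K) (E : Subgroup G) :
    (pRes p E).map f = pRes p (E.map f) := by
  have h := congrArg (Subgroup.map (E.map f).subtype)
    (map_pResidual_eq (p := p) (f.subgroupMap_surjective E))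
  rw [map_map] at h
  refine Eq.trans ?_ h
  show ((pResidual p ↥E).map E.subtype).map f = _
  rw [map_map]
  rfl

theorem isPClosed_map_subtype {E : Subgroup G} {X : Subgroup E} :
    IsPClosed p ↥(X.map E.subtype) ↔ IsPClosed p ↥X :=
  (isPClosed_mulEquiv (equivMapOfInjective X _ E.subtype_injective)).symm

section Family

variable {𝒦 : Set (Subgroup G)}

theorem le_normalizer_sSup (hinv : ∀ h : G, ∀ E ∈ 𝒦, cj h E ∈ 𝒦) :
    (⊤ : Subgroup G) ≤ normalizer ((sSup 𝒦 : Subgroup G) : Set G) := by
  intro h _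
  refine map_conj_eq_iff.mp (eq_of_le_of_card_ge ?_ (Components.card_map_conj h _).ge)
  rw [map_le_iff_le_comap]
  refine sSup_le fun E hE => ?_
  rw [← map_le_iff_le_comap]
  exact le_sSup (hinv h E hE)

/-- Irreducibility of a family in a group with `O_p = 1`. -/
theorem family_irreducible (hQ : pCore p G = ⊥) (hinv : ∀ h : G, ∀ E ∈ 𝒦, cj h E ∈ 𝒦)
    (htr : ∀ E ∈ 𝒦, ∀ K ∈ 𝒦, ∃ h : G, K = cj h E) (hres : pResidual p G ≤ sSup 𝒦)
    (hnorm : ∀ E ∈ 𝒦, sSup 𝒦 ≤ normalizer (E : Set G))
    (hirr : ∀ E ∈ 𝒦, ¬ IsPClosed p ↥E ∧ ∀ N : Subgroup G, N ≤ E → E ≤ normalizer (N : Set G) →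
      ⁅N, E⁆ ≠ ⊥ → pRes p E ≤ N) :
    (∀ N : Subgroup G, N.Normal → ¬ IsPClosed p ↥N → pResidual p G ≤ N) ∧
      ∀ E ∈ 𝒦, ∀ K ∈ 𝒦, pRes p E = pRes p K ∨ ⁅E, K⁆ = ⊥ := by
  set R := sSup 𝒦 with hR
  have hRn : R.Normal := normalizer_eq_top_iff.mp (top_le_iff.mp (le_normalizer_sSup hinv))
  have hRsub : R.IsSubnormal := Normal.isSubnormal hRn
  have hER : ∀ E ∈ 𝒦, E ≤ R := fun E hE => le_sSup hE
  have hEsub : ∀ E ∈ 𝒦, E.IsSubnormal := fun E hE =>
    Components.isSubnormal_of_le_normalizer (hER E hE) (hnorm E hE) hRsub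
  -- each member is generated by its `p`-elements
  have hgen : ∀ E ∈ 𝒦, E ≤ closure {e : G | e ∈ E ∧ ∃ k : ℕ, e ^ p ^ k = 1} := by
    intro E hE
    set F := closure {e : G | e ∈ E ∧ ∃ k : ℕ, e ^ p ^ k = 1} with hF
    have hFE : F ≤ E := (closure_le _).mpr fun e he => he.1
    have hFn : E ≤ normalizer (F : Set G) := by
      intro x hx
      refine map_conj_eq_iff.mp (eq_of_le_of_card_ge ?_ (Components.card_map_conj x _).ge)
      rw [hF, MonoidHom.map_closure, closure_le]
      rintro _ ⟨e, ⟨he, k, hk⟩, rfl⟩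
      exact subset_closure ⟨mul_mem (mul_mem hx he) (inv_mem hx), k, by
        rw [← map_pow, hk, map_one]⟩
    obtain ⟨U, hU⟩ := LocalEven.exists_isSylOf (p := p) E
    have hUF : U ≤ F := fun u hu => subset_closure ⟨hU.1 hu, by
      obtain ⟨k, hk⟩ := hU.isPGroup ⟨u, hu⟩
      exact ⟨k, congrArg Subtype.val hk⟩⟩
    have hne : ⁅F, E⁆ ≠ ⊥ := by
      intro h
      refine (hirr E hE).1 ?_
      obtain ⟨S, hS⟩ := hU.exists_sylow
      refine isPClosed_of_normal S ?_
      rw [← comap_map_eq_self_of_injective E.subtype_injective (S : Subgroup E), ← hS]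
      refine subgroupOf_normal (le_trans ?_ (centralizer_le_normalizer _))
      exact (le_centralizer_iff.mp (commutator_eq_bot_iff_le_centralizer.mp h)).trans
        (centralizer_le (SetLike.coe_subset_coe.mpr hUF))
    exact (pRes_sup_of_isSylOf hU).ge.trans (sup_le ((hirr E hE).2 F hFE hFn hne) hUF)
  refine ⟨fun N hN hNc => ?_, fun E hE K hK => ?_⟩
  · by_cases hex : ∃ E ∈ 𝒦, ⁅N ⊓ E, E⁆ ≠ ⊥
    · obtain ⟨E, hE, hne⟩ := hex
      have hEN : pRes p E ≤ N := ((hirr E hE).2 _ inf_le_right
        (LocalEven.le_normalizer_inf le_normalizer_of_normal le_normalizer) hne).trans inf_le_left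
      have hall : ∀ K ∈ 𝒦, pRes p K ≤ N := by
        intro K hK
        obtain ⟨h, rfl⟩ := htr E hE K hK
        rw [← pRes_map_conj]
        exact (map_mono hEN).trans (map_conj_eq_iff.mpr (le_normalizer_of_normal (mem_top h))).le
      set f := QuotientGroup.mk' N with hf
      have hsurj : Function.Surjective f := QuotientGroup.mk'_surjective N
      have hRb : R.map f ≤ pCore p (G ⧸ N) := by
        rw [map_le_iff_le_comap, hR]
        refine sSup_le fun K hK => ?_
        rw [← map_le_iff_le_comap]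
        refine Components.le_pCore_of_isSubnormal ?_ ?_
        · exact Components.isSubnormal_of_le_normalizer (map_mono (hER K hK))
            ((map_mono (hnorm K hK)).trans (le_normalizer_map f))
            (Normal.isSubnormal (hRn.map f hsurj))
        · rw [← pRes_eq_bot_iff, ← map_pRes, Subgroup.map_eq_bot_iff, hf, QuotientGroup.ker_mk']
          exact hall K hK
      rw [← pRes_top, pRes_le_iff]
      intro g _ hc
      have hg : g ∈ R := hres (subset_closure hc)
      obtain ⟨k, hk⟩ := (Components.isPGroup_pCore p) ⟨f g, hRb (mem_map_of_mem f hg)⟩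
      refine coprime_of_mem_pRes_of_pGroup (k := k) hc ((QuotientGroup.eq_one_iff _).mp ?_)
      have h2 : f g ^ p ^ k = 1 := congrArg Subtype.val hk
      rwa [← map_pow] at h2
    · simp only [not_exists, not_and, not_not] at hex
      exfalso
      -- `N ∩ R` is centralised by `R`
      have hNE : ∀ E ∈ 𝒦, E ≤ centralizer ((N ⊓ R : Subgroup G) : Set G) := by
        intro E hE
        have hc : E ≤ centralizer ((N ⊓ E : Subgroup G) : Set G) :=
          le_centralizer_iff.mp (commutator_eq_bot_iff_le_centralizer.mp (hex E hE))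
        refine le_centralizer_iff.mp fun x hx => ?_
        refine commute_of_central_values (Z := N ⊓ E) (hgen E hE) (fun e he => ⟨?_, ?_⟩) hc
          (fun z hz k hk => torsion_free_of_central hQ (hEsub E hE) inf_le_right hc hz hk)
        · exact (le_normalizer_iff_commutator_le_right.mp le_normalizer_of_normal)
            (commutator_mem_commutator (H₁ := E) he hx.1)
        · exact (le_normalizer_iff_commutator_le_left.mp ((inf_le_right).trans (hnorm E hE)))
            (commutator_mem_commutator he hx)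
      have hRc : R ≤ centralizer ((N ⊓ R : Subgroup G) : Set G) := sSup_le hNE
      obtain ⟨T⟩ : Nonempty (Sylow p G) := inferInstance
      set U := (T : Subgroup G) ⊓ N with hU
      have hUN : IsSylOf p U N := inf_isSylOf (sylow_isSylOf_top T)
      have hUR : R ≤ centralizer (U : Set G) := by
        refine le_centralizer_iff.mp fun u hu => ?_
        refine mem_centralizer_iff.mpr fun r hr => ?_
        have hgenR : R ≤ closure {e : G | e ∈ R ∧ ∃ k : ℕ, e ^ p ^ k = 1} := sSup_le fun E hE =>
          (hgen E hE).trans (closure_mono fun e he => ⟨hER E hE he.1, he.2⟩)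
        refine mem_centralizer_iff.mp (commute_of_central_values (Z := N ⊓ R) hgenR (fun e he => ⟨?_, ?_⟩) hRc
          (fun z hz k hk => torsion_free_of_central hQ hRsub inf_le_right hRc hz hk)) r hr
        · exact (le_normalizer_iff_commutator_le_right.mp le_normalizer_of_normal)
            (commutator_mem_commutator (H₁ := R) he hu.2)
        · exact (le_normalizer_iff_commutator_le_left.mp (le_normalizer_of_normal (H := R)))
            (commutator_mem_commutator (H₂ := (U : Subgroup G)) he hu)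
      have hUn : U.Normal := by
        refine normalizer_eq_top_iff.mp (top_le_iff.mp ?_)
        rw [← pResidual_sup_sylow T]
        exact sup_le (hres.trans (hUR.trans (centralizer_le_normalizer _)))
          (LocalEven.le_normalizer_inf le_normalizer le_normalizer_of_normal)
      have hU1 : U = ⊥ := le_bot_iff.mp (hQ ▸ Components.le_pCore_of_normal hUn hUN.isPGroup)
      refine hNc (isPClosed_of_not_dvd ?_)
      intro hd
      have h2 := hUN.2
      rw [hU1, card_bot] at h2
      have h3 := (Fact.out : p.Prime).factorization_pos_of_dvd Nat.card_pos.ne' hd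
      exact absurd h2.symm (Nat.one_lt_pow h3.ne' (Fact.out : p.Prime).one_lt).ne'
  · by_cases hne : ⁅E ⊓ K, E⁆ = ⊥
    · right
      have hc : E ≤ centralizer ((E ⊓ K : Subgroup G) : Set G) :=
        le_centralizer_iff.mp (commutator_eq_bot_iff_le_centralizer.mp hne)
      refine commutator_eq_bot_iff_le_centralizer.mpr (le_centralizer_iff.mp fun x hx => ?_)
      refine commute_of_central_values (Z := E ⊓ K) (hgen E hE) (fun e he => ⟨?_, ?_⟩) hc
        (fun z hz k hk => torsion_free_of_central hQ (hEsub E hE) inf_le_left hc hz hk)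
      · exact (le_normalizer_iff_commutator_le_left.mp ((hER K hK).trans (hnorm E hE)))
          (commutator_mem_commutator he hx)
      · exact (le_normalizer_iff_commutator_le_right.mp ((hER E hE).trans (hnorm K hK)))
          (commutator_mem_commutator he hx)
    · left
      have h1 : pRes p E ≤ K := ((hirr E hE).2 _ inf_le_left
        (LocalEven.le_normalizer_inf le_normalizer ((hER E hE).trans (hnorm K hK))) hne).trans
        inf_le_right
      obtain ⟨h, rfl⟩ := htr E hE K hK
      refine eq_of_le_of_card_ge ((pRes_pRes E).ge.trans (pRes_mono h1)) ?_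
      rw [← pRes_map_conj, Components.card_map_conj]

/-- `p`-minimality of a transitive family. -/
theorem family_minimal (hne : 𝒦.Nonempty) (hinv : ∀ h : G, ∀ E ∈ 𝒦, cj h E ∈ 𝒦)
    (htr : ∀ E ∈ 𝒦, ∀ K ∈ 𝒦, ∃ h : G, K = cj h E) (hres : pResidual p G ≤ sSup 𝒦)
    (hnorm : ∀ E ∈ 𝒦, sSup 𝒦 ⊔ pCore p G ≤ normalizer ((E ⊔ pCore p G : Subgroup G) : Set G))
    (hmin : ∀ E ∈ 𝒦, ∀ T : Sylow p ↥E, IsMinimalOver (T : Subgroup ↥E)) (T : Sylow p G) :
    IsMinimalOver (T : Subgroup G) := by
  classical
  set R := sSup 𝒦 with hR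
  set O := pCore p G with hO
  have hRn : R.Normal := normalizer_eq_top_iff.mp (top_le_iff.mp (le_normalizer_sSup hinv))
  have hOT : O ≤ (T : Subgroup G) := (Components.isPGroup_pCore p).le_sylow_of_normal T
  have hcjO : ∀ h : G, cj h O = O := fun h =>
    map_conj_eq_iff.mpr (le_normalizer_of_normal (mem_top h))
  have hncl : normalClosure ((T : Subgroup G) : Set G) = ⊤ := by
    set N := normalClosure ((T : Subgroup G) : Set G) with hN
    have hTN : (T : Subgroup G) ≤ N := subset_normalClosure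
    have hRN : R ≤ N := by
      refine sSup_le fun E hE => ?_
      obtain ⟨S⟩ : Nonempty (Sylow p ↥E) := inferInstance
      obtain ⟨S', hS'⟩ := (S.isPGroup'.map E.subtype).exists_le_sylow
      obtain ⟨g, hg⟩ := MulAction.exists_smul_eq G T S'
      have hSN : (S' : Subgroup G) ≤ N := by
        rw [← hg]
        exact (map_mono hTN).trans (map_conj_eq_iff.mpr (le_normalizer_of_normal (mem_top g))).le
      have h1 : normalClosure ((S : Subgroup E) : Set E) ≤ N.subgroupOf E :=
        normalClosure_le_normal fun x hx => hSN (hS' (mem_map_of_mem _ hx))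
      rw [(hmin E hE S).1, top_le_iff, subgroupOf_eq_top] at h1
      exact h1
    rw [← top_le_iff, ← pResidual_sup_sylow T]
    exact sup_le (hres.trans hRN) hTN
  have hTtop : (T : Subgroup G) ≠ ⊤ := by
    intro h
    obtain ⟨E, hE⟩ := hne
    obtain ⟨S⟩ : Nonempty (Sylow p ↥E) := inferInstance
    have hG : IsPGroup p G := (h ▸ T.isPGroup').of_equiv topEquiv
    obtain ⟨W, hW, -⟩ := (hmin E hE S).2
    refine hW.1.1 (top_le_iff.mp ((le_of_eq ?_).trans hW.2))
    exact (S.3 ((hG.to_subgroup E).to_subgroup ⊤) le_top)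
  obtain ⟨U, hU, hTU⟩ := (eq_top_or_exists_le_coatom (T : Subgroup G)).resolve_left hTtop
  refine ⟨hncl, U, ⟨hU, hTU⟩, fun U' hU' => ?_⟩
  -- the maximal overgroup in each `E O`
  let MX : Subgroup G → Subgroup G := fun E =>
    sSup {Z : Subgroup G | (T : Subgroup G) ⊓ (E ⊔ O) ≤ Z ∧ Z < E ⊔ O}
  have hkey : ∀ E ∈ 𝒦, (∀ Z, (T : Subgroup G) ⊓ (E ⊔ O) ≤ Z → Z < E ⊔ O → Z ≤ MX E) ∧
      ((T : Subgroup G) ⊓ (E ⊔ O) ≤ MX E) ∧ MX E < E ⊔ O := by
    intro E hE
    set X := E ⊔ O with hX
    have hXR : X ≤ R ⊔ O := sup_le_sup_right (le_sSup hE) O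
    have hXT : IsSylOf p ((T : Subgroup G) ⊓ X) X := by
      haveI : (R ⊔ O).Normal := Subgroup.sup_normal R O
      have h := (inf_isSylOf (N := R ⊔ O) (sylow_isSylOf_top T)).inf_normal hXR (hnorm E hE)
      rwa [inf_assoc, inf_eq_right.mpr hXR] at h
    have hEn : E ≤ normalizer (O : Set G) := le_normalizer_of_normal
    have hdec : ∀ Z, O ≤ Z → Z ≤ X → Z ≤ (Z ⊓ E) ⊔ O := by
      intro Z hOZ hZX z hz
      have hz' : z ∈ ((E ⊔ O : Subgroup G) : Set G) := hZX hz
      rw [coe_mul_of_left_le_normalizer_right _ _ hEn] at hz'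
      obtain ⟨e, he, o, ho, rfl⟩ := Set.mem_mul.mp hz'
      refine mul_mem (mem_sup_left ⟨?_, he⟩) (mem_sup_right ho)
      have := mul_mem hz (inv_mem (hOZ ho))
      rwa [mul_inv_cancel_right] at this
    have hOX : O ≤ (T : Subgroup G) ⊓ X := le_inf hOT le_sup_right
    set TE := (T : Subgroup G) ⊓ E with hTE
    have hTEs : IsSylOf p TE E := by
      obtain ⟨V, hV, hle⟩ := LocalEven.exists_isSylOf_ge (p := p)
        (T.isPGroup'.to_le inf_le_left : IsPGroup p TE) (inf_le_right : TE ≤ E)
      -- compare orders through `X`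
      have hVO : IsPGroup p ↥(V ⊔ O) :=
        Components.isPGroup_sup hV.isPGroup (Components.isPGroup_pCore p) le_normalizer_of_normal
      have h1 : (T : Subgroup G) ⊓ X ≤ V ⊔ O :=
        (hdec _ hOX inf_le_right).trans (sup_le_sup_right (le_trans (le_inf (inf_le_left.trans inf_le_left) inf_le_right) hle) O)
      have h2 : V ⊔ O = (T : Subgroup G) ⊓ X :=
        hXT.of_isPGroup_ge hVO h1 (sup_le_sup_right hV.1 O)
      have h3 : V = TE := le_antisymm (le_inf ((le_sup_left.trans h2.le).trans inf_le_left) hV.1) hle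
      rwa [h3] at hV
    obtain ⟨S, hS⟩ := hTEs.exists_sylow
    obtain ⟨W, hW, hWu⟩ := (hmin E hE S).2
    set W' := W.map E.subtype ⊔ O with hW'
    have hup : ∀ Z, (T : Subgroup G) ⊓ X ≤ Z → Z < X → Z ≤ W' := by
      intro Z hZ hlt
      refine (hdec Z (hOX.trans hZ) hlt.le).trans (sup_le_sup_right ?_ O)
      have hS' : (S : Subgroup E) ≤ Z.subgroupOf E := fun x hx => mem_subgroupOf.mpr (hZ (by
        have h1 : (x : G) ∈ TE := hS ▸ mem_map_of_mem E.subtype hx
        exact ⟨h1.1, mem_sup_left h1.2⟩))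
      have hne' : Z.subgroupOf E ≠ ⊤ := fun h => hlt.ne (le_antisymm hlt.le
        (sup_le (subgroupOf_eq_top.mp h) (hOX.trans hZ)))
      obtain ⟨Z', hZ', hle'⟩ := (eq_top_or_exists_le_coatom (Z.subgroupOf E)).resolve_left hne'
      have h4 := map_mono (f := E.subtype) (hle'.trans (hWu Z' ⟨hZ', hS'.trans hle'⟩).le)
      rwa [subgroupOf_map_subtype] at h4
    have hlow : (T : Subgroup G) ⊓ X ≤ W' := by
      refine (hdec _ hOX inf_le_right).trans (sup_le_sup_right ?_ O)
      refine le_trans ?_ (map_mono hW.2)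
      rw [← hS]
      exact le_inf (inf_le_left.trans inf_le_left) inf_le_right
    have hlt : W' < X := by
      refine lt_of_le_of_ne (sup_le_sup_right (map_subtype_le W) O) fun h => hW.1.1 ?_
      have hE' : E ≤ W.map E.subtype := by
        intro x hx
        have hx' : x ∈ ((W.map E.subtype ⊔ O : Subgroup G) : Set G) := h.ge (mem_sup_left hx)
        rw [coe_mul_of_left_le_normalizer_right _ _ ((map_subtype_le W).trans hEn)] at hx'
        obtain ⟨w, hw, o, ho, rfl⟩ := Set.mem_mul.mp hx'
        refine mul_mem hw ?_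
        have hoE : o ∈ E := by
          have := mul_mem (inv_mem (map_subtype_le W hw)) hx
          rwa [inv_mul_cancel_left] at this
        exact map_mono hW.2 (hS ▸ (⟨hOT ho, hoE⟩ : o ∈ TE))
      rw [eq_top_iff]
      intro x _
      obtain ⟨y, hy, hyx⟩ := hE' x.2
      exact (E.subtype_injective hyx) ▸ hy
    have hMX : MX E = W' := le_antisymm (sSup_le fun Z hZ => hup Z hZ.1 hZ.2)
      (le_sSup ⟨hlow, hlt⟩)
    exact ⟨fun Z h1 h2 => le_sSup ⟨h1, h2⟩, hMX ▸ hlow, hMX ▸ hlt⟩
  have cjsup : ∀ (h : G) (E : Subgroup G), cj h (E ⊔ O) = cj h E ⊔ O := fun h E => by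
    show Subgroup.map _ (E ⊔ O) = _
    rw [Subgroup.map_sup, show O.map (MulAut.conj h).toMonoidHom = O from hcjO h]
  -- the stabiliser of the family of maximal subgroups
  let W : Subgroup G :=
    { carrier := {h | ∀ E ∈ 𝒦, cj h (MX E) = MX (cj h E)}
      one_mem' := fun E _ => by rw [LocalEven.cj_one, LocalEven.cj_one]
      mul_mem' := fun {a b} ha hb E hE => by
        rw [← LocalEven.cj_cj, hb E hE, ha _ (hinv b E hE), LocalEven.cj_cj]
      inv_mem' := fun {a} ha E hE => by
        have h1 := ha _ (hinv a⁻¹ E hE)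
        rw [LocalEven.cj_cj, mul_inv_cancel, LocalEven.cj_one] at h1
        rw [← h1, LocalEven.cj_cj, inv_mul_cancel, LocalEven.cj_one] }
  have hWtop : W ≠ ⊤ := by
    intro h
    obtain ⟨E, hE⟩ := hne
    obtain ⟨h1, h2, h3⟩ := hkey E hE
    have hn : E ≤ normalizer (MX E : Set G) := fun e he => map_conj_eq_iff.mp <| by
      have h4 : e ∈ W := h ▸ mem_top e
      have := h4 E hE
      rwa [LocalEven.cj_of_mem he] at this
    obtain ⟨S⟩ : Nonempty (Sylow p ↥E) := inferInstance
    haveI : ((MX E).subgroupOf E).Normal := subgroupOf_normal hn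
    have hTEs : IsSylOf p ((T : Subgroup G) ⊓ (E ⊔ O)) (E ⊔ O) := by
      have hXR : E ⊔ O ≤ R ⊔ O := sup_le_sup_right (le_sSup hE) O
      haveI : (R ⊔ O).Normal := Subgroup.sup_normal R O
      have h5 := (inf_isSylOf (N := R ⊔ O) (sylow_isSylOf_top T)).inf_normal hXR (hnorm E hE)
      rwa [inf_assoc, inf_eq_right.mpr hXR] at h5
    have hnX : E ⊔ O ≤ normalizer (MX E : Set G) := by
      refine sup_le hn ?_
      exact ((le_inf hOT le_sup_right).trans h2).trans le_normalizer
    have hS : (S : Subgroup E) ≤ (MX E).subgroupOf E := by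
      obtain ⟨V, hV, hSV⟩ := LocalEven.exists_isSylOf_ge (p := p) (S.isPGroup'.map E.subtype)
        ((map_subtype_le _).trans (le_sup_left : E ≤ E ⊔ O))
      obtain ⟨x, hx, hxV⟩ := hTEs.exists_conj hV
      intro y hy
      refine mem_subgroupOf.mpr ?_
      have h6 := hSV (mem_map_of_mem E.subtype hy)
      rw [← hxV] at h6
      exact (map_conj_eq_iff.mpr (hnX hx)).le (LocalEven.cj_le_cj h2 h6)
    have h7 : E ≤ MX E := by
      have := normalClosure_le_normal (N := (MX E).subgroupOf E) hS
      rw [(hmin E hE S).1, top_le_iff, subgroupOf_eq_top] at this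
      exact this
    exact h3.not_ge (sup_le h7 ((le_inf hOT le_sup_right).trans h2))
  have hle : ∀ U : Subgroup G, IsCoatom U → (T : Subgroup G) ≤ U → U ≤ W := by
    intro U hU hTU
    have hnot : ∀ E ∈ 𝒦, ¬ E ≤ U := by
      intro E hE hEU
      refine hU.1 (top_le_iff.mp ?_)
      rw [← pResidual_sup_sylow T]
      refine sup_le (hres.trans (sSup_le fun K hK => ?_)) hTU
      obtain ⟨h, rfl⟩ := htr E hE K hK
      have hh : h ∈ ((T : Subgroup G) ⊔ (R ⊔ O) : Subgroup G) :=
        (sup_le (hres.trans (le_sup_left.trans le_sup_right)) le_sup_left :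
          pResidual p G ⊔ (T : Subgroup G) ≤ _) ((pResidual_sup_sylow T).ge (mem_top h))
      haveI : (R ⊔ O).Normal := Subgroup.sup_normal R O
      rw [← SetLike.mem_coe, coe_mul_of_left_le_normalizer_right _ _ le_normalizer_of_normal] at hh
      obtain ⟨t, ht, r, hr, rfl⟩ := Set.mem_mul.mp hh
      refine (le_sup_left : cj (t * r) E ≤ cj (t * r) E ⊔ O).trans ?_
      rw [← cjsup, ← LocalEven.cj_cj,
        show cj r (E ⊔ O) = E ⊔ O from map_conj_eq_iff.mpr (hnorm E hE hr), cjsup]
      exact sup_le ((LocalEven.cj_le_cj hEU).trans (LocalEven.cj_of_mem (hTU ht)).le) (hOT.trans hTU)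
    have hstep : ∀ h ∈ U, ∀ E ∈ 𝒦, MX (cj h E) ≤ cj h (MX E) := by
      intro h hh E hE
      obtain ⟨h1, -, -⟩ := hkey E hE
      obtain ⟨g1, g2, g3⟩ := hkey _ (hinv h E hE)
      have hUX : U ⊓ (cj h E ⊔ O) ≤ MX (cj h E) := g1 _ (inf_le_inf_right _ hTU)
        (lt_of_le_of_ne inf_le_right fun e => hnot _ (hinv h E hE)
          (le_sup_left.trans (e.ge.trans inf_le_left)))
      have hZ : cj h⁻¹ (MX (cj h E)) ≤ MX E := by
        refine h1 _ ?_ ?_
        · have h4 : cj h ((T : Subgroup G) ⊓ (E ⊔ O)) ≤ MX (cj h E) := by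
            refine le_trans ?_ hUX
            refine le_inf ((LocalEven.cj_le_cj (inf_le_left.trans hTU)).trans
              (LocalEven.cj_of_mem hh).le) ?_
            rw [← cjsup]
            exact LocalEven.cj_le_cj inf_le_right
          have h5 := LocalEven.cj_le_cj (g := h⁻¹) h4
          rwa [LocalEven.cj_cj, inv_mul_cancel, LocalEven.cj_one] at h5
        · have h4 : cj h⁻¹ (MX (cj h E)) < cj h⁻¹ (cj h E ⊔ O) :=
            (map_lt_map_iff_of_injective (MulAut.conj h⁻¹).injective).mpr g3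
          rwa [cjsup, LocalEven.cj_cj, inv_mul_cancel, LocalEven.cj_one] at h4
      have h5 := LocalEven.cj_le_cj (g := h) hZ
      rwa [LocalEven.cj_cj, mul_inv_cancel, LocalEven.cj_one] at h5
    intro h hh E hE
    refine le_antisymm ?_ (hstep h hh E hE)
    have h1 := hstep h⁻¹ (inv_mem hh) _ (hinv h E hE)
    rw [LocalEven.cj_cj, inv_mul_cancel, LocalEven.cj_one] at h1
    have h2 := LocalEven.cj_le_cj (g := h) h1
    rwa [LocalEven.cj_cj, mul_inv_cancel, LocalEven.cj_one] at h2
  exact ((hU'.1.le_iff_eq hWtop).mp (hle U' hU'.1 hU'.2)).symm.trans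
    ((hU.le_iff_eq hWtop).mp (hle U hU hTU))

end Family

end CfsgLib.LocalStr
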